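import Mathlib
import Cfsg.Agent.H15.O8U1

/-! Characteristic subgroups of subgroups of the unipotent group of the large Ree group. -/

set_option autoImplicit false
set_option linter.unusedSimpArgs false
set_option linter.unnecessarySeqFocus false

namespace Cfsg.Agent.H92.UL

open Cfsg.Agent.H39 Cfsg.Agent.H83 Cfsg.Agent.H15.O8 Subgroup
open scoped commutatorElement

section general

variable {G : Type*} [Group G] {H : Subgroup G}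

theorem coe_comm' (v k : H) : (⁅v, k⁆ : H).1 = ⁅v.1, k.1⁆ := rfl

theorem coe_comm (α : H ≃* H) (v k : H) : (α ⁅v, k⁆).1 = ⁅(α v).1, (α k).1⁆ := by
  rw [map_commutatorElement]; rfl

theorem step {P1 P2 : Subgroup G} (α : H ≃* H)
    (h : ∀ g ∈ H, g ∈ P2 ↔ ∀ k ∈ H, ⁅g, k⁆ ∈ P1)
    (h1 : ∀ v : H, v.1 ∈ P1 → (α v).1 ∈ P1) (v : H) (hv : v.1 ∈ P2) : (α v).1 ∈ P2 := by
  refine (h _ (α v).2).2 fun k hk => ?_
  obtain ⟨k', hk'⟩ := α.surjective ⟨k, hk⟩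
  have := h1 ⁅v, k'⁆ ((h _ v.2).1 hv _ k'.2)
  rwa [coe_comm, hk'] at this

theorem card_back [Finite G] {P P' : Subgroup G} (α : H ≃* H) (hP : P ≤ H)
    (hc : Nat.card P = Nat.card P') (h : ∀ v : H, v.1 ∈ P → (α v).1 ∈ P') (v : H)
    (hv : (α v).1 ∈ P') : v.1 ∈ P := by
  let f : P → P' := fun p => ⟨(α ⟨p.1, hP p.2⟩).1, h _ p.2⟩
  have hf : Function.Injective f := fun p p' e => by
    have e1 : (α ⟨p.1, hP p.2⟩).1 = (α ⟨p'.1, hP p'.2⟩).1 := congrArg (fun x : P' => x.1) e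
    have := α.injective (Subtype.ext e1)
    exact Subtype.ext (congrArg (fun x : H => x.1) this)
  obtain ⟨p, hp⟩ := ((Nat.bijective_iff_injective_and_card f).2 ⟨hf, hc⟩).2 ⟨_, hv⟩
  have e1 : (α ⟨p.1, hP p.2⟩).1 = (α v).1 := congrArg (fun x : P' => x.1) hp
  have := α.injective (Subtype.ext e1)
  rw [← this]; exact p.2

theorem comm_rel (g u : G) : g * u = ⁅g, u⁆ * (u * g) := by
  rw [commutatorElement_def]; group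

end general

variable {K : Type*} [Field K] {T : Tits K}

theorem charW (g : U T) (hg : g ∈ E T) : g ∈ W T ↔ ∀ k ∈ E T, ⁅g, k⁆ ∈ (⊥ : Subgroup (U T)) := by
  refine ⟨fun h k hk => ?_, fun h => cE g fun k hk => ?_⟩
  · rw [mem_bot, commutatorElement_eq_one_iff_mul_comm]
    exact ((cW k).1 hk g h).symm
  · exact commutatorElement_eq_one_iff_mul_comm.1 (mem_bot.1 (h k hk))

theorem charR (g : U T) (hg : g ∈ E T) : g ∈ R T ↔ ∀ k ∈ E T, ⁅g, k⁆ ∈ W T := by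
  obtain ⟨a1, b2, a2, a3, b4, a4, a5, b6, a6, a7, b8, a8⟩ := g
  obtain rfl : a1 = 0 := hg
  refine ⟨?_, fun h => ?_⟩
  · rintro ⟨-, rfl : b2 = 0, rfl : a2 = 0, rfl : a3 = 0, rfl : b4 = 0, rfl : b6 = 0, rfl : a7 = 0,
      rfl : b8 = 0, rfl : a8 = 0⟩ ⟨c1, d2, c2, c3, d4, c4, c5, d6, c6, c7, d8, c8⟩ (rfl : c1 = 0)
    o8s
    refine ⟨?_, ?_, ?_, ?_, ?_, ?_, ?_, ?_, ?_⟩ <;> o8ring T
  · have h2 := h (y2 T 1) rfl
    have h8 := h (y8 T 1) rfl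
    have h9 := h (x8 T 1) rfl
    have h3 := h (x2 T 1) rfl
    clear h
    o8s at h2 h8 h9 h3 ⊢
    obtain rfl : b8 = 0 := by o8g T
    obtain rfl : b2 = 0 := by o8g T
    obtain rfl : a8 = 0 := by o8g T
    obtain rfl : b6 = 0 := by o8g T
    obtain rfl : a2 = 0 := by o8g T
    obtain rfl : b4 = 0 := by o8g T
    o8g T

theorem charY (g : U T) (hg : g ∈ E T) : g ∈ Y T ↔ ∀ k ∈ E T, ⁅g, k⁆ ∈ R T := by
  obtain ⟨a1, b2, a2, a3, b4, a4, a5, b6, a6, a7, b8, a8⟩ := g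
  obtain rfl : a1 = 0 := hg
  refine ⟨?_, fun h => ?_⟩
  · rintro ⟨-, rfl : b2 = 0, rfl : a2 = 0, rfl : b4 = 0, rfl : b6 = 0,
      rfl : b8 = 0, rfl : a8 = 0⟩ ⟨c1, d2, c2, c3, d4, c4, c5, d6, c6, c7, d8, c8⟩ (rfl : c1 = 0)
    o8s
    refine ⟨?_, ?_, ?_, ?_, ?_, ?_, ?_, ?_⟩ <;> o8ring T
  · have h2 := h (y2 T 1) rfl
    have h8 := h (y8 T 1) rfl
    have h9 := h (x8 T 1) rfl
    have h3 := h (x2 T 1) rfl
    clear h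
    o8s at h2 h8 h9 h3 ⊢
    obtain rfl : b8 = 0 := by o8g T
    obtain rfl : b2 = 0 := by o8g T
    o8g T

theorem cY (α : E T ≃* E T) (v : E T) (hv : v.1 ∈ Y T) : (α v).1 ∈ Y T := by
  refine step α charY (step α charR (step α charW fun v hv => ?_)) v hv
  rw [mem_bot] at hv ⊢
  rw [show v = 1 from Subtype.ext hv, map_one]; rfl

theorem V_le_E : V T ≤ E T := fun _ h => h.1

theorem V_le_Tc : V T ≤ Tc T := fun _ h => ⟨h.2.1, h.2.2.2.2.2.1⟩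

theorem commV {v w : U T} (hv : v ∈ V T) (hw : w ∈ V T) : v * w = w * v := by
  have h := sqV _ (mul_mem hv hw)
  have h1 := sqV _ hv
  have h2 := sqV _ hw
  calc v * w = v * (v * w * (v * w)) * w * (v * w) * (v * w) := by
        rw [h, mul_assoc (v * 1 * w), h]; group
    _ = (v * v) * w * v * (w * w) * (v * w * (v * w)) := by group
    _ = w * v := by rw [h, h1, h2]; group

theorem commVY {v y : U T} (hv : v ∈ V T) (hy : y ∈ Y T) : ⁅v, y⁆ ∈ Z T := by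
  obtain ⟨a1, b2, a2, a3, b4, a4, a5, b6, a6, a7, b8, a8⟩ := v
  obtain ⟨c1, d2, c2, c3, d4, c4, c5, d6, c6, c7, d8, c8⟩ := y
  obtain ⟨rfl : a1 = 0, rfl : b2 = 0, rfl : b4 = 0, rfl : b6 = 0, rfl : a7 = 0, rfl : b8 = 0,
    rfl : a8 = 0⟩ := hv
  obtain ⟨rfl : c1 = 0, rfl : d2 = 0, rfl : c2 = 0, rfl : d4 = 0, rfl : d6 = 0, rfl : d8 = 0,
    rfl : c8 = 0⟩ := hy
  o8s
  refine ⟨?_, ?_, ?_, ?_, ?_⟩ <;> o8ring T

theorem va_aux (b : U T) (hb : b ∈ E T) (h7 : ⁅b, x7 T 1⁆ ∈ Z6 T) (h3 : ⁅b, x3 T 1⁆ ∈ Z6 T)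
    (hs : b * b = 1) : b.b2 = 0 ∧ b.a2 = 0 ∧ b.b4 = 0 ∧ b.b6 = 0 ∧ b.b8 = 0 ∧ b.a3 * b.a8 = 0 := by
  obtain ⟨a1, b2, a2, a3, b4, a4, a5, b6, a6, a7, b8, a8⟩ := b
  obtain rfl : a1 = 0 := hb
  replace hs := coords hs
  o8s at h7 h3 hs ⊢
  obtain rfl : b2 = 0 := T.θ_eq_zero.1 (by o8g T)
  obtain rfl : b8 = 0 := T.θ_eq_zero.1 (by o8g T)
  o8s at h7 h3 hs ⊢
  obtain rfl : a2 = 0 := by o8g T
  obtain rfl : b6 = 0 := by o8g T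
  o8s at h7 h3 hs ⊢
  obtain rfl : b4 = 0 := nrm_eq_zero (T := T) (by o8g T)
  o8g T

theorem va [Finite K] (α : E T ≃* E T) (hα : ∀ z : E T, z.1 ∈ Z T → (α z).1 ∈ Z6 T) (v : E T) :
    v.1 ∈ V T ↔ (α v).1 ∈ A T := by
  have key : ∀ v : E T, v.1 ∈ V T → (α v).1.b2 = 0 ∧ (α v).1.a2 = 0 ∧ (α v).1.b4 = 0 ∧
      (α v).1.b6 = 0 ∧ (α v).1.b8 = 0 ∧ (α v).1.a3 * (α v).1.a8 = 0 := fun v hv => by
    have hy : ∀ y ∈ Y T, ⁅(α v).1, y⁆ ∈ Z6 T := fun y hy => by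
      have := hα ⁅v, α.symm ⟨y, hy.1⟩⁆
        (by rw [coe_comm']; exact commVY hv (cY α.symm ⟨y, hy.1⟩ hy))
      rw [coe_comm, MulEquiv.apply_symm_apply] at this
      dsimp only at this
      exact this
    refine va_aux _ (α v).2 (hy (x7 T 1) (by o8s)) (hy (x3 T 1) (by o8s)) ?_
    rw [← coe_mul, ← map_mul, show v * v = 1 from Subtype.ext (sqV _ hv), map_one]; rfl
  have h2 : (⟨x2 T 1, rfl⟩ : E T).1 ∈ V T := by o8s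
  have main : ∀ v : E T, v.1 ∈ V T → (α v).1 ∈ A T := fun v hv => by
    obtain ⟨k1, k2, k3, k4, k5, k6⟩ := key _ h2
    obtain ⟨l1, l2, l3, l4, l5, l6⟩ := key _ hv
    have h8 : (α ⟨x2 T 1, rfl⟩).1.a8 ≠ 0 := fun e => by
      have := cY α.symm _ ⟨(α _).2, k1, k2, k3, k4, k5, e⟩
      rw [MulEquiv.symm_apply_apply] at this
      exact one_ne_zero this.2.2.1
    have k7 := (mul_eq_zero.1 k6).resolve_right h8
    have hc : (α v).1 * (α ⟨x2 T 1, rfl⟩).1 = (α ⟨x2 T 1, rfl⟩).1 * (α v).1 := by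
      rw [← coe_mul, ← coe_mul, ← map_mul, ← map_mul,
        show v * ⟨x2 T 1, rfl⟩ = ⟨x2 T 1, rfl⟩ * v from Subtype.ext (commV hv h2)]
    have k0 : (α ⟨x2 T 1, rfl⟩).1.a1 = 0 := (α _).2
    have l0 : (α v).1.a1 = 0 := (α _).2
    generalize (α ⟨x2 T 1, rfl⟩).1 = c at *
    generalize (α v).1 = b at *
    refine ⟨l0, l1, l2, ?_, l3, l4, l5⟩
    have := congrArg U.a6 hc
    o8s at this
    simp only [k0, k1, k2, k3, k4, k5, k7, l0, l1, l2, l3, l4, l5] at this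
    refine (mul_eq_zero.1 (show b.a3 * c.a8 = 0 from ?_)).resolve_right h8
    o8s at this
    o8g T
  exact ⟨main v, card_back α V_le_E (card_V.trans card_A.symm) main v⟩

theorem tc_aux (b : U T) (hb : b ∈ Tc T) (hs : b * b = 1)
    (h : ∀ k ∈ Tc T, ⁅k, b⁆ * ⁅k, b⁆ = 1) :
    b.a1 = 0 ∧ b.b4 = 0 ∧ b.b6 = 0 ∧ b.a8 = 0 := by
  obtain ⟨a1, b2, a2, a3, b4, a4, a5, b6, a6, a7, b8, a8⟩ := b
  obtain ⟨rfl : b2 = 0, rfl : b8 = 0⟩ := hb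
  have h1 := congrArg U.a5 (h (x1 T 1) ⟨rfl, rfl⟩)
  have h8 := congrArg U.a5 (h (x8 T 1) ⟨rfl, rfl⟩)
  clear h
  have e1 : a8 = 0 := by
    o8s at h1
    have : a8 * a8 = 0 := by revert h1; o8ring T
    exact mul_self_eq_zero.1 this
  subst e1
  have e2 : a1 = 0 := by
    o8s at h8
    exact nrm_eq_zero (T := T) (by revert h8; o8ring T)
  subst e2
  clear h1 h8
  replace hs := coords hs
  o8s at hs ⊢
  obtain rfl : b6 = 0 := nrm_eq_zero (T := T) (by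
    by_cases h6 : b6 = 0
    · simp [h6]
    · obtain rfl : b4 = 0 := by o8g T
      o8g T)
  obtain rfl : b4 = 0 := nrm_eq_zero (T := T) (by
    by_cases h6 : b4 = 0
    · simp [h6]
    · obtain rfl : a7 = 0 := by o8g T
      o8g T)
  exact ⟨rfl, rfl⟩

theorem commVTc {v k : U T} (hv : v ∈ V T) (hk : k ∈ Tc T) : ⁅v, k⁆ ∈ R T := by
  obtain ⟨a1, b2, a2, a3, b4, a4, a5, b6, a6, a7, b8, a8⟩ := v
  obtain ⟨c1, d2, c2, c3, d4, c4, c5, d6, c6, c7, d8, c8⟩ := k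
  obtain ⟨rfl : a1 = 0, rfl : b2 = 0, rfl : b4 = 0, rfl : b6 = 0, rfl : a7 = 0, rfl : b8 = 0,
    rfl : a8 = 0⟩ := hv
  obtain ⟨rfl : d2 = 0, rfl : d8 = 0⟩ := hk
  o8s
  refine ⟨?_, ?_, ?_, ?_, ?_, ?_, ?_⟩ <;> o8ring T

theorem commRTc {v k : U T} (hv : v ∈ R T) (hk : k ∈ Tc T) : ⁅v, k⁆ ∈ Z T := by
  obtain ⟨a1, b2, a2, a3, b4, a4, a5, b6, a6, a7, b8, a8⟩ := v
  obtain ⟨c1, d2, c2, c3, d4, c4, c5, d6, c6, c7, d8, c8⟩ := k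
  obtain ⟨rfl : a1 = 0, rfl : b2 = 0, rfl : a2 = 0, rfl : a3 = 0, rfl : b4 = 0, rfl : b6 = 0,
    rfl : a7 = 0, rfl : b8 = 0, rfl : a8 = 0⟩ := hv
  obtain ⟨rfl : d2 = 0, rfl : d8 = 0⟩ := hk
  o8s
  refine ⟨?_, ?_, ?_, ?_, ?_, ?_, ?_, ?_, ?_⟩ <;> o8ring T

theorem tc_gen (b : U T) (hb : b ∈ Tc T) (h1 : b.a1 = 0) (h4 : b.b4 = 0) (h6 : b.b6 = 0)
    (h8 : b.a8 = 0) (hne : b.a7 ≠ 0 ∨ b.a2 ≠ b.a3) (z : U T) (hz : z ∈ Z T) :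
    ∃ k ∈ Tc T, ∃ k' ∈ Tc T, z = ⁅⁅b, k⁆, k'⁆ := by
  obtain ⟨a1, b2, a2, a3, b4, a4, a5, b6, a6, a7, b8, a8⟩ := b
  obtain ⟨c1, d2, c2, c3, d4, c4, c5, d6, c6, c7, d8, c8⟩ := z
  obtain ⟨rfl : b2 = 0, rfl : b8 = 0⟩ := hb
  obtain rfl : a1 = 0 := h1
  obtain rfl : b4 = 0 := h4
  obtain rfl : b6 = 0 := h6
  obtain rfl : a8 = 0 := h8
  obtain ⟨rfl : c1 = 0, rfl : d2 = 0, rfl : c2 = 0, rfl : c3 = 0, rfl : d4 = 0, rfl : c5 = 0,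
    rfl : d6 = 0, rfl : c6 = 0, rfl : c7 = 0, rfl : d8 = 0, rfl : c8 = 0⟩ := hz
  have := T.charP
  rcases hne with h | h
  · change a7 ≠ 0 at h
    refine ⟨y4 T 1, ⟨rfl, rfl⟩, x1 T (c4 / a7), ⟨rfl, rfl⟩, ?_⟩
    have e : ⁅(⟨0, 0, a2, a3, 0, a4, a5, 0, a6, a7, 0, 0⟩ : U T), y4 T 1⁆ = x6 T a7 := by
      ext <;> o8s <;> o8ring T
    rw [e]
    ext <;> o8s <;> o8g T
  · change a2 ≠ a3 at h
    have h' : a2 + a3 ≠ 0 := fun e => h (by grind)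
    refine ⟨x8 T 1, ⟨rfl, rfl⟩, x1 T (c4 / (a2 + a3)), ⟨rfl, rfl⟩, ?_⟩
    have e : ⁅(⟨0, 0, a2, a3, 0, a4, a5, 0, a6, a7, 0, 0⟩ : U T), x8 T 1⁆ =
        x4 T (T.θ a2) * x5 T a2 * x6 T (a2 + a3) := by
      ext <;> o8s <;> o8ring T
    rw [e]
    ext <;> o8s <;> o8g T

theorem tc [Finite K] (α : Tc T ≃* Tc T) (z : Tc T) (hz : z.1 ∈ Z T) : (α z).1 ∈ Z T := by
  have key : ∀ v : Tc T, v.1 ∈ V T → (α.symm v).1.a1 = 0 ∧ (α.symm v).1.b4 = 0 ∧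
      (α.symm v).1.b6 = 0 ∧ (α.symm v).1.a8 = 0 := fun v hv => by
    have sq : ∀ v : Tc T, v.1 ∈ V T → (α.symm v).1 * (α.symm v).1 = 1 := fun v hv => by
      rw [← coe_mul, ← map_mul, show v * v = 1 from Subtype.ext (sqV _ hv), map_one]; rfl
    refine tc_aux _ (α.symm v).2 (sq v hv) fun k hk => ?_
    have := sq ⁅α ⟨k, hk⟩, v⁆ (by
      rw [commutatorElement_def, coe_mul, coe_mul, coe_mul, coe_inv, coe_inv]
      exact mul_mem (nV.conj_mem _ hv _) (inv_mem hv))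
    rw [coe_comm, MulEquiv.symm_apply_apply] at this
    dsimp only at this
    exact this
  obtain ⟨v, hv, hne⟩ : ∃ v : Tc T, v.1 ∈ V T ∧
      ((α.symm v).1.a7 ≠ 0 ∨ (α.symm v).1.a2 ≠ (α.symm v).1.a3) := by
    by_contra hc
    push Not at hc
    have h2 : (⟨x2 T 1, rfl, rfl⟩ : Tc T).1 ∈ V T := by o8s
    have := card_back α.symm V_le_Tc rfl (fun v hv => by
      obtain ⟨k1, k2, k3, k4⟩ := key v hv
      exact ⟨k1, (α.symm v).2.1, k2, k3, (hc v hv).1, (α.symm v).2.2, k4⟩) (α ⟨x2 T 1, rfl, rfl⟩)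
      (by rwa [MulEquiv.symm_apply_apply])
    have := (hc _ this).2
    rw [MulEquiv.symm_apply_apply] at this
    exact one_ne_zero this
  obtain ⟨k1, k2, k3, k4⟩ := key v hv
  obtain ⟨k, hk, k', hk', e⟩ := tc_gen _ (α.symm v).2 k1 k2 k3 k4 hne z.1 hz
  have e' : z = ⁅⁅α.symm v, (⟨k, hk⟩ : Tc T)⁆, (⟨k', hk'⟩ : Tc T)⁆ :=
    Subtype.ext (by rw [coe_comm', coe_comm']; dsimp only; exact e)
  rw [e', coe_comm, map_commutatorElement, MulEquiv.apply_symm_apply, coe_comm']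
  exact commRTc (commVTc hv (α _).2) (α _).2

theorem A_le {H : Subgroup (U T)} (h4 : ∀ t, x4 T t ∈ H) (h5 : ∀ t, x5 T t ∈ H)
    (h6 : ∀ t, x6 T t ∈ H) (h7 : ∀ t, x7 T t ∈ H) (h8 : ∀ t, x8 T t ∈ H) : A T ≤ H := by
  rintro ⟨a1, b2, a2, a3, b4, a4, a5, b6, a6, a7, b8, a8⟩ ⟨rfl : a1 = 0, rfl : b2 = 0,
    rfl : a2 = 0, rfl : a3 = 0, rfl : b4 = 0, rfl : b6 = 0, rfl : b8 = 0⟩
  have e : (⟨0, 0, 0, 0, 0, a4, a5, 0, a6, a7, 0, a8⟩ : U T) =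
      x4 T a4 * x5 T a5 * x6 T a6 * x7 T a7 * x8 T a8 := by
    ext <;> o8s
  rw [e]
  exact mul_mem (mul_mem (mul_mem (mul_mem (h4 _) (h5 _)) (h6 _)) (h7 _)) (h8 _)

theorem sq_aux [Finite K] {H P : Subgroup (U T)} (h : ∀ k ∈ P, k * k ∈ H)
    (h6 : ∀ t, y6 T t ∈ P) (h8 : ∀ t, y8 T t ∈ P) :
    (∀ t, x6 T t ∈ H) ∧ (∀ t, x7 T t ∈ H) ∧ ∀ t, x8 T t ∈ H := by
  have k6 : ∀ t, x6 T t ∈ H := fun t => by
    obtain ⟨u, rfl⟩ := nrm_surj (T := T) t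
    have e : x6 T (u * T.θ u) = y6 T u * y6 T u := by ext <;> o8s <;> o8ring T
    exact e ▸ h _ (h6 u)
  have k8 : ∀ t, x8 T t ∈ H := fun t => by
    obtain ⟨u, rfl⟩ := nrm_surj (T := T) t
    have e : x8 T (u * T.θ u) = y8 T u * y8 T u := by ext <;> o8s <;> o8ring T
    exact e ▸ h _ (h8 u)
  refine ⟨k6, fun t => ?_, k8⟩
  have e : x7 T t = y6 T t * y8 T 1 * (y6 T t * y8 T 1) * x6 T (t * T.θ t) * x8 T 1 := by
    ext <;> o8s <;> o8ring T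
  exact e ▸ mul_mem (mul_mem (h _ (mul_mem (h6 _) (h8 _))) (k6 _)) (k8 _)

theorem sqd [Finite K] : closure {g | ∃ k ∈ Td T, g = k * k} = A T := by
  refine le_antisymm ((closure_le _).2 ?_) ?_
  · rintro _ ⟨⟨a1, b2, a2, a3, b4, a4, a5, b6, a6, a7, b8, a8⟩,
      ⟨rfl : a1 = 0, rfl : b2 = 0, rfl : a2 = 0, rfl : b4 = 0⟩, rfl⟩
    rw [SetLike.mem_coe]
    o8s
    refine ⟨?_, ?_, ?_⟩ <;> o8ring T
  · have h : ∀ k ∈ Td T, k * k ∈ closure {g | ∃ k ∈ Td T, g = k * k} := fun k hk =>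
      subset_closure ⟨k, hk, rfl⟩
    obtain ⟨k6, k7, k8⟩ := sq_aux h (fun t => by o8s) (fun t => by o8s)
    have k4 : ∀ t, x4 T t ∈ closure {g | ∃ k ∈ Td T, g = k * k} := fun t => by
      have e : x4 T t = x3 T t * y6 T 1 * (x3 T t * y6 T 1) * x6 T 1 := by
        ext <;> o8s <;> o8ring T
      exact e ▸ mul_mem (h _ (by o8s)) (k6 _)
    refine A_le k4 (fun t => ?_) k6 k7 k8
    have e : x5 T t = x3 T t * y8 T 1 * (x3 T t * y8 T 1) * x4 T (T.θ t) * x8 T 1 := by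
      ext <;> o8s <;> o8ring T
    exact e ▸ mul_mem (mul_mem (h _ (by o8s)) (k4 _)) (k8 _)

theorem sqe [Finite K] : closure {g | ∃ k ∈ Te T, g = k * k} = A T := by
  refine le_antisymm ((closure_le _).2 ?_) ?_
  · rintro _ ⟨⟨a1, b2, a2, a3, b4, a4, a5, b6, a6, a7, b8, a8⟩,
      ⟨rfl : a1 = 0, rfl : b2 = 0, rfl : a2 = 0, rfl : a3 = 0⟩, rfl⟩
    rw [SetLike.mem_coe]
    o8s
    refine ⟨?_, ?_, ?_⟩ <;> o8ring T
  · have h : ∀ k ∈ Te T, k * k ∈ closure {g | ∃ k ∈ Te T, g = k * k} := fun k hk =>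
      subset_closure ⟨k, hk, rfl⟩
    obtain ⟨k6, k7, k8⟩ := sq_aux h (fun t => by o8s) (fun t => by o8s)
    have k4 : ∀ t, x4 T t ∈ closure {g | ∃ k ∈ Te T, g = k * k} := fun t => by
      obtain ⟨u, rfl⟩ := nrm_surj (T := T) t
      have e : x4 T (u * T.θ u) = y4 T u * y4 T u := by ext <;> o8s <;> o8ring T
      exact e ▸ h _ (by o8s)
    refine A_le k4 (fun t => ?_) k6 k7 k8
    have e : x5 T t = y4 T t * y6 T 1 * (y4 T t * y6 T 1) * x4 T (t * T.θ t) * x6 T 1 := by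
      ext <;> o8s <;> o8ring T
    exact e ▸ mul_mem (mul_mem (h _ (by o8s)) (k4 _)) (k6 _)

theorem commATd {a k : U T} (ha : a ∈ A T) (hk : k ∈ Td T) : ⁅a, k⁆ ∈ Z6 T := by
  obtain ⟨a1, b2, a2, a3, b4, a4, a5, b6, a6, a7, b8, a8⟩ := a
  obtain ⟨c1, d2, c2, c3, d4, c4, c5, d6, c6, c7, d8, c8⟩ := k
  obtain ⟨rfl : a1 = 0, rfl : b2 = 0, rfl : a2 = 0, rfl : a3 = 0, rfl : b4 = 0, rfl : b6 = 0,
    rfl : b8 = 0⟩ := ha
  obtain ⟨rfl : c1 = 0, rfl : d2 = 0, rfl : c2 = 0, rfl : d4 = 0⟩ := hk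
  o8s
  refine ⟨?_, ?_, ?_, ?_, ?_, ?_, ?_⟩ <;> o8ring T

theorem commATe {a k : U T} (ha : a ∈ A T) (hk : k ∈ Te T) : ⁅a, k⁆ ∈ Z6 T := by
  obtain ⟨a1, b2, a2, a3, b4, a4, a5, b6, a6, a7, b8, a8⟩ := a
  obtain ⟨c1, d2, c2, c3, d4, c4, c5, d6, c6, c7, d8, c8⟩ := k
  obtain ⟨rfl : a1 = 0, rfl : b2 = 0, rfl : a2 = 0, rfl : a3 = 0, rfl : b4 = 0, rfl : b6 = 0,
    rfl : b8 = 0⟩ := ha
  obtain ⟨rfl : c1 = 0, rfl : d2 = 0, rfl : c2 = 0, rfl : c3 = 0⟩ := hk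
  o8s
  refine ⟨?_, ?_, ?_, ?_, ?_, ?_, ?_⟩ <;> o8ring T

theorem Z6_le {P : Subgroup (U T)} (h : y8 T 1 ∈ P) : Z6 T ≤ ⁅A T, P⁆ := by
  rintro ⟨c1, d2, c2, c3, d4, c4, c5, d6, c6, c7, d8, c8⟩ ⟨rfl : c1 = 0, rfl : d2 = 0,
    rfl : c2 = 0, rfl : c3 = 0, rfl : d4 = 0, rfl : c4 = 0, rfl : c5 = 0,
    rfl : d6 = 0, rfl : c7 = 0, rfl : d8 = 0, rfl : c8 = 0⟩
  have e : (⟨0, 0, 0, 0, 0, 0, 0, 0, c6, 0, 0, 0⟩ : U T) = ⁅x5 T c6, y8 T 1⁆ := by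
    ext <;> o8s <;> o8ring T
  exact e ▸ commutator_mem_commutator (by o8s) h

theorem cA (a : U T) (ha : a ∈ A T) :
    a ∈ W T ↔ ∀ g ∈ E T, (∀ b ∈ A T, ⁅b, g⁆ ∈ Z6 T) → g * a = a * g := by
  refine ⟨fun h g hg _ => (cW g).1 hg a h, fun h => ?_⟩
  have h3 := congrArg U.a6 (h (x3 T 1) rfl fun b hb => commATd hb (by o8s))
  have h4 := congrArg U.a6 (h (y4 T 1) rfl fun b hb => commATe hb (by o8s))
  have h8 := congrArg U.a6 (h (y8 T 1) rfl fun b hb => commATd hb (by o8s))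
  clear h
  obtain ⟨a1, b2, a2, a3, b4, a4, a5, b6, a6, a7, b8, a8⟩ := a
  obtain ⟨rfl : a1 = 0, rfl : b2 = 0, rfl : a2 = 0, rfl : a3 = 0, rfl : b4 = 0, rfl : b6 = 0,
    rfl : b8 = 0⟩ := ha
  o8s at h3 h4 h8 ⊢
  o8g T

theorem uf2 [Finite K] : UF2 T :=
  ⟨tc, va, cY, sqd, sqe,
    le_antisymm (commutator_le.2 fun _ ha _ hk => commATd ha hk) (Z6_le (by o8s)),
    le_antisymm (commutator_le.2 fun _ ha _ hk => commATe ha hk) (Z6_le (by o8s)), cA⟩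

end Cfsg.Agent.H92.UL
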