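import Mathlib
import Cfsg.Agent.H92.Direct
import Cfsg.Agent.H92.Kazarin
import Cfsg.Agent.H4.CoprimeAction
import Cfsg.Agent.H8.Residual

/-! Camina's lemmas on class sizes: splitting of centralizers. -/

set_option autoImplicit false
open Cfsg

namespace Cfsg.Agent.H92

open scoped Pointwise

variable {G : Type*} [Group G] [Finite G]

theorem cs_mul_eq {x y : G} (h : Commute x y) (hc : (orderOf x).Coprime (orderOf y)) :
    cs[x * y] = (Ce[y]).relIndex (Ce[x]) * cs[x] := by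
  rw [C_mul_of_coprime h hc, ← Subgroup.inf_relIndex_left, Subgroup.relIndex_mul_index inf_le_left]

/-- If every `p'`-element of `H` has `p'`-index in `H` then `H = P × K`. -/
theorem exists_direct_of_not_dvd_relIndex {p : ℕ} [hp : Fact p.Prime] (H : Subgroup G)
    (h : ∀ y ∈ H, ¬ p ∣ orderOf y → ¬ p ∣ (Ce[y]).relIndex H) :
    ∃ K : Subgroup G, K ≤ H ∧ ¬ p ∣ Nat.card K ∧ (∃ k, K.relIndex H = p ^ k) ∧
      (∀ y ∈ H, ¬ p ∣ orderOf y → y ∈ K) ∧
      ∀ u ∈ H, (∃ k, orderOf u = p ^ k) → u ∈ Subgroup.centralizer (K : Set G) := by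
  obtain ⟨P⟩ : Nonempty (Sylow p H) := inferInstance
  have h1 := sup_centralizer_eq_top_of_not_dvd_cs P (fun y hy => by
    rw [cs_subgroup]; exact h y y.2 (by rwa [Subgroup.orderOf_coe]))
  obtain ⟨hPn, K, hKn, hKc, hKP, hKp, hKm⟩ := sylow_direct_of_sup_centralizer P h1
  refine ⟨K.map H.subtype, Subgroup.map_subtype_le K, by rwa [Subgroup.card_subtype], ?_, ?_, ?_⟩
  · obtain ⟨k, hk⟩ := P.isPGroup'.exists_card_eq
    refine ⟨k, ?_⟩
    rw [Subgroup.relIndex, Subgroup.subgroupOf, Subgroup.comap_map_eq_self_of_injective H.subtype_injective,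
      hKc.symm.index_eq_card, hk]
  · intro y hy hy'
    exact ⟨⟨y, hy⟩, hKm _ (by rwa [← Subgroup.orderOf_coe]), rfl⟩
  · intro u hu hu'
    have : (⟨u, hu⟩ : H) ∈ (P : Subgroup H) := mem_sylow_of_normal P (by rwa [← Subgroup.orderOf_coe])
    rw [Subgroup.mem_centralizer_iff]
    rintro _ ⟨k, hk, rfl⟩
    exact (congrArg Subtype.val (Subgroup.mem_centralizer_iff.1 (hKP hk) _ this)).symm

/-- Camina: a `p`-element whose class size is a power of `p` and whose centralizer has all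
`p'`-elements of `p'`-index gives a normal `p`-complement centralizing `x`. -/
theorem exists_normal_complement_of_cs_pow {p : ℕ} [hp : Fact p.Prime] {x : G}
    (hx : ∃ k, orderOf x = p ^ k) (hcs : ∃ k, cs[x] = p ^ k)
    (h : ∀ y ∈ Ce[x], ¬ p ∣ orderOf y → ¬ p ∣ (Ce[y]).relIndex (Ce[x])) :
    ∃ K : Subgroup G, K.Normal ∧ K ≤ Ce[x] ∧ ¬ p ∣ Nat.card K ∧ (∃ k, K.index = p ^ k) ∧
      K ≤ Subgroup.centralizer (pCore p G : Set G) ∧
      ∀ u ∈ Ce[x], (∃ k, orderOf u = p ^ k) → u ∈ Subgroup.centralizer (K : Set G) := by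
  obtain ⟨K, hKC, hKp, ⟨k, hk⟩, hKm, hKu⟩ := exists_direct_of_not_dvd_relIndex (Ce[x]) h
  obtain ⟨P, hxP⟩ := exists_sylow_mem hx
  have hxO : x ∈ pCore p G :=
    H3.le_pCore (P.isPGroup'.to_le (normalClosure_le_of_cs_pow hp.out hcs hxP P.not_dvd_index))
      (Subgroup.subset_normalClosure rfl)
  have hO : pCore p G ≤ Subgroup.centralizer (K : Set G) := by
    refine H4.thompson_p_times_q (P := Subgroup.zpowers x) ((isPGroup_zpowers_iff x).2 hx)
      ((Nat.Prime.coprime_iff_not_dvd hp.out).2 hKp).symm (H3.pCore_isPGroup p G)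
      (Subgroup.zpowers_le.2 (le_C_iff.1 hKC)) Subgroup.le_normalizer_of_normal
      Subgroup.le_normalizer_of_normal ?_
    rintro u ⟨hu, hux⟩
    refine hKu u (mem_C'.2 (Subgroup.mem_centralizer_iff.1 hux x (Subgroup.mem_zpowers x)))
      (orderOf_eq_pow_of_mem (H3.pCore_isPGroup p G) hu)
  have hO' : K ≤ Subgroup.centralizer (pCore p G : Set G) := Subgroup.le_centralizer_iff.1 hO
  refine ⟨K, ⟨fun y hy g => ?_⟩, hKC, hKp, ?_, hO', hKu⟩
  · refine hKm _ ?_ ?_
    · have : g * y * g⁻¹ ∈ Subgroup.centralizer (pCore p G : Set G) :=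
        Subgroup.Normal.conj_mem inferInstance _ (hO' hy) g
      exact mem_C'.2 (Subgroup.mem_centralizer_iff.1 this x hxO)
    · rw [orderOf_conj]
      exact fun hd => hKp (hd.trans (K.orderOf_dvd_natCard hy))
  · obtain ⟨a, ha⟩ := hcs
    exact ⟨k + a, by rw [← Subgroup.relIndex_mul_index hKC, hk, ha, pow_add]⟩

end Cfsg.Agent.H92
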