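import Cfsg.Agent.H92.ClassSize
import Cfsg.Agent.H3.Fitting

/-! Mann's and Isaacs' results on the elements in the smallest noncentral classes. -/

set_option autoImplicit false

namespace Cfsg.Agent.H92

open scoped Pointwise commutatorElement

variable {G : Type*} [Group G] [Finite G]

/-- Isaacs: for `A` abelian normal, `x` noncentral and `t ∈ A`, the class of `[t,x]` is smaller
than the class of `x`. -/
theorem cs_commutator_lt (A : Subgroup G) [hAn : A.Normal] [IsMulCommutative A] {x t : G}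
    (hx : x ∉ Subgroup.center G) (ht : t ∈ A) : cs[⁅t, x⁆] < cs[x] := by
  by_cases h1 : ⁅t, x⁆ = 1
  · rw [h1, cs_one]; exact one_lt_cs_iff.2 hx
  have hcomm : ∀ a ∈ A, ∀ b ∈ A, a * b = b * a := fun a ha b hb =>
    setLike_mul_comm ha hb
  have hyA : ∀ a ∈ A, ⁅a, x⁆ ∈ A := fun a ha => by
    rw [commutatorElement_def, mul_assoc, mul_assoc, ← mul_assoc x]
    exact A.mul_mem ha (hAn.conj_mem _ (A.inv_mem ha) x)
  set H := Ce[x] ⊔ A with hH
  have hdec : ∀ h ∈ H, ∃ c ∈ Ce[x], ∃ a ∈ A, c * a = h := by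
    intro h hh
    have : h ∈ ((Ce[x] ⊔ A : Subgroup G) : Set G) := hh
    rw [Subgroup.mul_normal] at this
    exact this
  -- the `H`-class of `[t,x]` embeds in the `H`-class of `x` minus `x`
  have h2 : (fun z => z * x) '' conjSet H ⁅t, x⁆ ⊆ conjSet H x \ {x} := by
    rintro _ ⟨_, ⟨h, hh, rfl⟩, rfl⟩
    obtain ⟨c, hc, a, ha, rfl⟩ := hdec h hh
    have hc' : c * x = x * c := mem_C.1 hc
    have e1 : c * a * ⁅t, x⁆ * (c * a)⁻¹ = ⁅c * t * c⁻¹, x⁆ := by
      rw [mul_assoc c a, hcomm a ha _ (hyA t ht)]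
      have e0 : c * x * c⁻¹ = x := by rw [hc', mul_inv_cancel_right]
      calc c * (⁅t, x⁆ * a) * (c * a)⁻¹ = ⁅c * t * c⁻¹, c * x * c⁻¹⁆ := by group
        _ = _ := by rw [e0]
    refine ⟨⟨c * t * c⁻¹, (le_sup_right : A ≤ H) (hAn.conj_mem _ ht c), ?_⟩, ?_⟩
    · change _ = c * a * ⁅t, x⁆ * (c * a)⁻¹ * x
      rw [e1]; group
    · intro e
      apply h1
      have e' : c * a * ⁅t, x⁆ * (c * a)⁻¹ * x = x := e
      rw [mul_eq_right] at e'
      calc ⁅t, x⁆ = (c * a)⁻¹ * (c * a * ⁅t, x⁆ * (c * a)⁻¹) * (c * a) := by group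
        _ = 1 := by rw [e']; group
  have h3 : Nat.card (conjSet H ⁅t, x⁆) < Nat.card (conjSet H x) := by
    have h4 := Set.ncard_le_ncard h2
    rw [Set.ncard_image_of_injective _ (mul_left_injective x)] at h4
    exact h4.trans_lt (Set.ncard_sdiff_singleton_lt_of_mem (self_mem_conjSet H x))
  have h4 := card_conjSet_mul H ⁅t, x⁆
  have h5 := card_conjSet_mul H x
  rw [inf_eq_right.2 (le_sup_left : Ce[x] ≤ H)] at h5
  have h6 : Nat.card ↥(H ⊓ Ce[⁅t, x⁆]) ≤ Nat.card Ce[⁅t, x⁆] := Subgroup.card_le_of_le inf_le_right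
  have h7 : Nat.card Ce[x] < Nat.card Ce[⁅t, x⁆] := by
    by_contra hc
    have h8 : 0 < Nat.card Ce[x] := Nat.card_pos
    nlinarith
  have h8 := cs_mul_card x
  have h9 := cs_mul_card ⁅t, x⁆
  by_contra hc
  have := cs_pos x
  nlinarith

omit [Finite G] in
theorem upperCentralSeries_three_of {M A : Subgroup G} [A.Normal]
    (hCA : Subgroup.centralizer (A : Set G) ≤ A) (h : ⁅A, M⁆ ≤ Subgroup.center G) :
    Subgroup.upperCentralSeries M 3 = ⊤ := by
  have h0 : ∀ K : Subgroup G, K ≤ Subgroup.center G → ⁅K, M⁆ = ⊥ := fun K hK =>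
    Subgroup.commutator_eq_bot_iff_le_centralizer.2 (hK.trans (Subgroup.center_le_centralizer _))
  have h1 : ⁅⁅M, M⁆, A⁆ = ⊥ :=
    Subgroup.commutator_commutator_eq_bot_of_rotate
      (by rw [Subgroup.commutator_comm M A]; exact h0 _ h) (h0 _ h)
  have h2 : ⁅M, M⁆ ≤ A := (Subgroup.commutator_eq_bot_iff_le_centralizer.1 h1).trans hCA
  rw [eq_top_iff]
  intro a _
  rw [Subgroup.mem_upperCentralSeries_succ_iff]
  intro b
  rw [Subgroup.mem_upperCentralSeries_succ_iff]
  intro c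
  rw [Subgroup.upperCentralSeries_one, Subgroup.mem_center_iff]
  intro d
  have h3 : ⁅⁅(a : G), (b : G)⁆, (c : G)⁆ ∈ Subgroup.center G :=
    h (Subgroup.commutator_mem_commutator (h2 (Subgroup.commutator_mem_commutator a.2 b.2)) c.2)
  exact Subtype.ext (Subgroup.mem_center_iff.1 h3 d)

theorem commutator_le_center_of_small (A : Subgroup G) [A.Normal] [IsMulCommutative A] (m : ℕ)
    (hmin : ∀ x : G, 1 < cs[x] → m ≤ cs[x]) :
    ⁅A, Subgroup.closure {x : G | cs[x] = 1 ∨ cs[x] = m}⁆ ≤ Subgroup.center G := by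
  rw [Subgroup.commutator_le]
  intro t ht x hx
  induction hx using Subgroup.closure_induction with
  | mem x hx =>
    by_cases hxZ : x ∈ Subgroup.center G
    · rw [commutatorElement_eq_one_iff_mul_comm.2 (Subgroup.mem_center_iff.1 hxZ t)]
      exact Subgroup.one_mem _
    · by_contra hc
      have h1 := cs_commutator_lt A hxZ ht
      have h2 := hmin _ (one_lt_cs_iff.2 hc)
      rcases hx with hx | hx
      · exact hxZ (cs_eq_one_iff.1 hx)
      · omega
  | one => simp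
  | mul x y _ _ hx hy =>
    have e : ⁅t, x * y⁆ = ⁅t, x⁆ * (x * ⁅t, y⁆ * x⁻¹) := by group
    rw [e]
    exact Subgroup.mul_mem _ hx ((inferInstance : (Subgroup.center G).Normal).conj_mem _ hy x)
  | inv x _ hx =>
    have e : ⁅t, x⁻¹⁆ = x⁻¹ * ⁅t, x⁆⁻¹ * x⁻¹⁻¹ := by group
    rw [e]
    exact (inferInstance : (Subgroup.center G).Normal).conj_mem _ (Subgroup.inv_mem _ hx) _

theorem exists_selfCentralizing_abelian_normal [Group.IsNilpotent G] :
    ∃ A : Subgroup G, A.Normal ∧ IsMulCommutative A ∧ Subgroup.centralizer (A : Set G) = A := by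
  obtain ⟨A, ⟨hA1, hA2⟩, hmax⟩ := (Set.toFinite
    {A : Subgroup G | A.Normal ∧ IsMulCommutative A}).exists_maximal ⟨⊥, inferInstance, inferInstance⟩
  exact ⟨A, hA1, hA2, H3.centralizer_eq_of_maximal_abelian_normal A
    fun M h1 h2 h3 => le_antisymm (hmax ⟨h1, h2⟩ h3) h3⟩

/-- Ishikawa: a nilpotent group of conjugate rank one has class at most three. -/
theorem upperCentralSeries_three_of_two_sizes [Group.IsNilpotent G] {m : ℕ}
    (h : ∀ x : G, cs[x] = 1 ∨ cs[x] = m) : Subgroup.upperCentralSeries G 3 = ⊤ := by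
  obtain ⟨A, hA1, hA2, hA3⟩ := exists_selfCentralizing_abelian_normal (G := G)
  have h1 := commutator_le_center_of_small A m fun x hx => by
    rcases h x with h1 | h1 <;> omega
  have h2 : Subgroup.closure {x : G | cs[x] = 1 ∨ cs[x] = m} = ⊤ :=
    eq_top_iff.2 fun x _ => Subgroup.subset_closure (h x)
  rw [h2] at h1
  have h3 := upperCentralSeries_three_of hA3.le h1
  rw [eq_top_iff]
  intro x _
  have h4 : (⟨x, trivial⟩ : (⊤ : Subgroup G)) ∈ Subgroup.upperCentralSeries (⊤ : Subgroup G) 3 := by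
    rw [h3]; trivial
  exact Subgroup.upperCentralSeries.map (f := (⊤ : Subgroup G).subtype)
    (fun y => ⟨⟨y, trivial⟩, rfl⟩) 3 ⟨_, h4, rfl⟩

end Cfsg.Agent.H92
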