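import Mathlib
import Cfsg.Agent.H15.O8U1

/-! Rigidity of the unipotent group of the large Ree group. -/

set_option autoImplicit false
set_option linter.unusedSimpArgs false
set_option linter.unnecessarySeqFocus false

namespace Cfsg.Agent.H92.UL

open Cfsg.Agent.H39 Cfsg.Agent.H83 Cfsg.Agent.H15.O8 Subgroup
open scoped commutatorElement

variable {K : Type*} [Field K] {T : Tits K}

theorem nrm [Finite K] : Function.Bijective fun a : Kˣ => a * θu T a :=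
  Finite.injective_iff_bijective.1 fun a b h => Units.ext (nrm_inj (T := T) (by
    simpa using congrArg Units.val h))

theorem exists_ne [Finite K] (hq : 2 < Nat.card K) : ∃ a : K, a ≠ 0 ∧ a ≠ 1 := by
  by_contra h
  push Not at h
  have : Nat.card K ≤ Nat.card Bool := by
    classical
    refine Nat.card_le_card_of_injective (fun a : K => decide (a = 0)) fun a b e => ?_
    by_cases ha : a = 0
    · have hb : b = 0 := by simpa [ha] using e
      rw [ha, hb]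
    · have hb : b ≠ 0 := by simpa [ha] using e
      rw [h a ha, h b hb]
  simp at this
  omega

theorem fz {s x : K} (hs : s ≠ 1) (h : s * x = x) : x = 0 := by
  by_contra hx
  exact hs (mul_right_cancel₀ hx (h.trans (one_mul x).symm))

/-- The scalars which occur are different from one. -/
theorem scal {a : K} (h0 : a ≠ 0) (h1 : a ≠ 1) : T.θ a ≠ 0 ∧ T.θ a ≠ 1 ∧ a * T.θ a ≠ 1 ∧
    a ^ 2 * T.θ a ≠ 1 ∧ a ^ 2 ≠ 1 ∧ T.θ a ≠ a := by
  have := T.charP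
  refine ⟨T.θ_ne_zero.2 h0, fun h => h1 (T.θ_inj (h.trans (map_one _).symm)),
    fun h => h1 (nrm_eq_one h), fun h => h1 (nrm2_inj (T := T) (by simpa using h)),
    fun h => h1 (by grind), fun h => h1 ?_⟩
  have h2 := T.θθ a
  rw [h, h] at h2
  grind

theorem fix1 [Finite K] (hq : 2 < Nat.card K) (g : U T) (h : ∀ a, tor T (a, a) g = g) :
    g ∈ U1 T := by
  obtain ⟨a, h0, h1⟩ := exists_ne hq
  obtain ⟨s0, s1, s2, s3, s4, s5⟩ := scal (T := T) h0 h1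
  have := coords (h (Units.mk0 a h0))
  simp only [tor_apply, sc, Units.val_mk0, map_inv₀] at this
  obtain ⟨-, k2, k3, k4, k5, k6, k7, k8, k9, k10, k11, k12⟩ := this
  refine ⟨fz ?_ k2, fz ?_ k3, fz ?_ k4, fz ?_ k5, fz ?_ k6, fz ?_ k7, fz ?_ k8, fz ?_ k9,
    fz ?_ k10, fz ?_ k11, fz ?_ k12⟩ <;> intro e <;> field_simp at e <;> grind

theorem fix [Finite K] (hq : 2 < Nat.card K) (g : U T) (h : ∀ c, tor T c g = g) : g = 1 := by
  obtain ⟨k2, k3, k4, k5, k6, k7, k8, k9, k10, k11, k12⟩ := fix1 hq g fun a => h _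
  obtain ⟨a, h0, h1⟩ := exists_ne hq
  obtain ⟨s0, s1, s2, s3, s4, s5⟩ := scal (T := T) h0 h1
  have := congrArg U.a1 (h (Units.mk0 a h0, 1))
  simp only [tor_apply, sc, Units.val_mk0, map_inv₀, Units.val_one, inv_one, map_one,
    mul_one] at this
  have k1 := fz s2 this
  ext <;> assumption

theorem fix4 {a : K} (h0 : a ≠ 0) (h1 : a ≠ 1) (g : U T)
    (h : tor T (1, Units.mk0 a h0) g = g) : g = y4 T g.b4 * x4 T g.a4 := by
  obtain ⟨s0, s1, s2, s3, s4, s5⟩ := scal (T := T) h0 h1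
  have := coords h
  simp only [tor_apply, sc, Units.val_mk0, map_inv₀, Units.val_one, inv_one, map_one,
    mul_one, one_pow, one_mul] at this
  obtain ⟨k1, k2, k3, k4, -, -, k7, k8, k9, k10, k11, k12⟩ := this
  ext <;> o8s
  exacts [fz (by intro e; field_simp at e; grind) k1, fz (by intro e; field_simp at e; grind) k2,
    fz (by intro e; field_simp at e; grind) k3, fz (by intro e; field_simp at e; grind) k4,
    fz h1 k7, fz h1 k8, fz s2 k9, fz s2 k10, fz s1 k11, fz s3 k12]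

theorem fix6 {a : K} (h0 : a ≠ 0) (h1 : a ≠ 1) (g : U T)
    (h : tor T (Units.mk0 a h0, 1) g = g) : g = y6 T g.b6 * x6 T g.a6 := by
  obtain ⟨s0, s1, s2, s3, s4, s5⟩ := scal (T := T) h0 h1
  have := coords h
  simp only [tor_apply, sc, Units.val_mk0, map_inv₀, Units.val_one, inv_one, map_one,
    mul_one, one_pow, one_mul] at this
  obtain ⟨k1, k2, k3, k4, k5, k6, k7, -, -, k10, k11, k12⟩ := this
  ext <;> o8s
  exacts [fz s2 k1, fz s1 k2, fz s3 k3, fz s2 k4, fz h1 k5, fz s2 k6, fz h1 k7,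
    fz (by intro e; field_simp at e; grind) k10, fz (by intro e; field_simp at e; grind) k11,
    fz (by intro e; field_simp at e; grind) k12]

theorem fix2 {a : K} (h0 : a ≠ 0) (h1 : a ≠ 1) (g : U T)
    (h : tor T (Units.mk0 a h0, θu T (Units.mk0 a h0)) g = g) : g = y2 T g.b2 * x2 T g.a2 := by
  obtain ⟨s0, s1, s2, s3, s4, s5⟩ := scal (T := T) h0 h1
  have := coords h
  simp only [tor_apply, sc, Units.val_mk0, map_inv₀, θu_val, Tits.θθ] at this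
  obtain ⟨k1, -, -, k4, k5, k6, k7, k8, k9, k10, k11, k12⟩ := this
  ext <;> o8s
  exacts [fz (by intro e; field_simp at e; grind) k1, fz (by intro e; field_simp at e; grind) k4,
    fz h1 k5, fz s2 k6, fz s2 k7, fz s1 k8, fz (by intro e; field_simp at e; grind) k9,
    fz (by intro e; field_simp at e; grind) k10, fz (by intro e; field_simp at e; grind) k11,
    fz (by intro e; field_simp at e; grind) k12]

theorem fix8 {a : K} (h0 : a ≠ 0) (h1 : a ≠ 1) (g : U T)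
    (h : tor T (θu T (Units.mk0 a h0), Units.mk0 a h0) g = g) : g = y8 T g.b8 * x8 T g.a8 := by
  obtain ⟨s0, s1, s2, s3, s4, s5⟩ := scal (T := T) h0 h1
  have := coords h
  simp only [tor_apply, sc, Units.val_mk0, map_inv₀, θu_val, Tits.θθ] at this
  obtain ⟨k1, k2, k3, k4, k5, k6, k7, k8, k9, k10, -, -⟩ := this
  ext <;> o8s
  exacts [fz (by intro e; field_simp at e; grind) k1, fz (by intro e; field_simp at e; grind) k2,
    fz (by intro e; field_simp at e; grind) k3, fz (by intro e; field_simp at e; grind) k4,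
    fz s1 k5, fz (by intro e; field_simp at e; grind) k6,
    fz (by intro e; field_simp at e; grind) k7, fz h1 k8, fz s2 k9,
    fz (by intro e; field_simp at e; grind) k10]

theorem delta {a : K} (h0 : a ≠ 0) (h1 : a ≠ 1) (δ : K → K)
    (he : ∀ c : K, c ≠ 0 → δ c = c * T.θ c * δ 1) (hadd : ∀ t u, δ (t + u) = δ t + δ u) (t : K) :
    δ t = 0 := by
  have := T.charP
  obtain ⟨s0, s1, s2, s3, s4, s5⟩ := scal (T := T) h0 h1
  have z : δ 0 = 0 := by have := hadd 0 0; rw [add_zero] at this; grind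
  have e := hadd a 1
  rw [he (a + 1) (by grind), he a h0, map_add, map_one] at e
  have e1 : δ 1 = 0 := by grind
  by_cases ht : t = 0
  · rw [ht, z]
  · rw [he t ht, e1, mul_zero]

theorem yy2 (t u : K) : y2 T t * y2 T u = y2 T (t + u) * x2 T (t * T.θ u) := by
  ext <;> o8s <;> o8ring T

theorem sq2 (t : K) : y2 T t * y2 T t = x2 T (t * T.θ t) := by
  ext <;> o8s <;> o8ring T

theorem sq2' (t d : K) : y2 T t * x2 T d * (y2 T t * x2 T d) = x2 T (t * T.θ t) := by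
  ext <;> o8s <;> o8ring T

theorem yy4 (t u : K) : y4 T t * y4 T u = y4 T (t + u) * x4 T (t * T.θ u) := by
  ext <;> o8s <;> o8ring T

theorem sq4 (t : K) : y4 T t * y4 T t = x4 T (t * T.θ t) := by
  ext <;> o8s <;> o8ring T

theorem sq4' (t d : K) : y4 T t * x4 T d * (y4 T t * x4 T d) = x4 T (t * T.θ t) := by
  ext <;> o8s <;> o8ring T

theorem yy6 (t u : K) : y6 T t * y6 T u = y6 T (t + u) * x6 T (t * T.θ u) := by
  ext <;> o8s <;> o8ring T

theorem sq6 (t : K) : y6 T t * y6 T t = x6 T (t * T.θ t) := by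
  ext <;> o8s <;> o8ring T

theorem sq6' (t d : K) : y6 T t * x6 T d * (y6 T t * x6 T d) = x6 T (t * T.θ t) := by
  ext <;> o8s <;> o8ring T

theorem yy8 (t u : K) : y8 T t * y8 T u = y8 T (t + u) * x8 T (t * T.θ u) := by
  ext <;> o8s <;> o8ring T

theorem sq8 (t : K) : y8 T t * y8 T t = x8 T (t * T.θ t) := by
  ext <;> o8s <;> o8ring T

theorem sq8' (t d : K) : y8 T t * x8 T d * (y8 T t * x8 T d) = x8 T (t * T.θ t) := by
  ext <;> o8s <;> o8ring T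

theorem r5 (t : K) : y4 T t * y6 T 1 = y6 T 1 * y4 T t * x5 T t := by
  ext <;> o8s <;> o8ring T

theorem r3 (t : K) : y2 T t * y4 T 1 = y4 T 1 * y2 T t * x3 T t := by
  ext <;> o8s <;> o8ring T

theorem r7 (t : K) : y6 T t * y8 T 1 = y8 T 1 * y6 T t * x7 T t := by
  ext <;> o8s <;> o8ring T

theorem r4 (t d : K) : y2 T t * x2 T d * x5 T 1 = x5 T 1 * (y2 T t * x2 T d) * x4 T t := by
  ext <;> o8s <;> o8ring T

theorem r6 (t d : K) : y8 T t * x8 T d * x5 T 1 = x5 T 1 * (y8 T t * x8 T d) * x6 T t := by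
  ext <;> o8s <;> o8ring T

theorem r4' (t : K) : y2 T t * x5 T 1 = x5 T 1 * y2 T t * x4 T t := by
  ext <;> o8s <;> o8ring T

theorem r6' (t : K) : y8 T t * x5 T 1 = x5 T 1 * y8 T t * x6 T t := by
  ext <;> o8s <;> o8ring T

theorem rig4 {a : K} (h0 : a ≠ 0) (h1 : a ≠ 1) (γ : U T → U T)
    (hm : ∀ g ∈ E T, ∀ k ∈ E T, γ (g * k) = γ g * γ k)
    (ht : ∀ c, ∀ g ∈ E T, γ (tor T c g) = tor T c (γ g))
    (hx : ∀ t, γ (x4 T t) = x4 T t) (δ : K → K) (hy : ∀ t, γ (y4 T t) = y4 T t * x4 T (δ t))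
    (t : K) : γ (y4 T t) = y4 T t := by
  have : δ t = 0 := by
    refine delta (T := T) h0 h1 δ (fun c hc => ?_) (fun t u => ?_) t
    · have hc' := T.θ_ne_zero.2 hc
      have e := ht (Units.mk0 c hc, 1) (y4 T 1) rfl
      rw [show tor T (Units.mk0 c hc, 1) (y4 T 1) = y4 T c by
        ext <;> simp [tor_apply, sc, y4], hy, hy] at e
      replace e := congrArg U.a4 e
      rw [tor_apply] at e
      o8s at e
      simpa using e
    · have e := hm (y4 T t) rfl (y4 T u) rfl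
      rw [yy4, hm _ rfl _ rfl, hy, hy, hy, hx] at e
      replace e := congrArg U.a4 e
      o8s at e
      o8g T
  rw [hy, this]
  ext <;> o8s

theorem rig6 {a : K} (h0 : a ≠ 0) (h1 : a ≠ 1) (γ : U T → U T)
    (hm : ∀ g ∈ E T, ∀ k ∈ E T, γ (g * k) = γ g * γ k)
    (ht : ∀ c, ∀ g ∈ E T, γ (tor T c g) = tor T c (γ g))
    (hx : ∀ t, γ (x6 T t) = x6 T t) (δ : K → K) (hy : ∀ t, γ (y6 T t) = y6 T t * x6 T (δ t))
    (t : K) : γ (y6 T t) = y6 T t := by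
  have : δ t = 0 := by
    refine delta (T := T) h0 h1 δ (fun c hc => ?_) (fun t u => ?_) t
    · have hc' := T.θ_ne_zero.2 hc
      have e := ht (1, Units.mk0 c hc) (y6 T 1) rfl
      rw [show tor T (1, Units.mk0 c hc) (y6 T 1) = y6 T c by
        ext <;> simp [tor_apply, sc, y6], hy, hy] at e
      replace e := congrArg U.a6 e
      rw [tor_apply] at e
      o8s at e
      simpa using e
    · have e := hm (y6 T t) rfl (y6 T u) rfl
      rw [yy6, hm _ rfl _ rfl, hy, hy, hy, hx] at e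
      replace e := congrArg U.a6 e
      o8s at e
      o8g T
  rw [hy, this]
  ext <;> o8s

theorem rig2 {a : K} (h0 : a ≠ 0) (h1 : a ≠ 1) (γ : U T → U T)
    (hm : ∀ g ∈ E T, ∀ k ∈ E T, γ (g * k) = γ g * γ k)
    (ht : ∀ c, ∀ g ∈ E T, γ (tor T c g) = tor T c (γ g))
    (hx : ∀ t, γ (x2 T t) = x2 T t) (δ : K → K) (hy : ∀ t, γ (y2 T t) = y2 T t * x2 T (δ t))
    (t : K) : γ (y2 T t) = y2 T t := by
  have : δ t = 0 := by
    refine delta (T := T) h0 h1 δ (fun c hc => ?_) (fun t u => ?_) t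
    · have hc' := T.θ_ne_zero.2 hc
      have e := ht (1, (Units.mk0 c hc)⁻¹) (y2 T 1) rfl
      rw [show tor T (1, (Units.mk0 c hc)⁻¹) (y2 T 1) = y2 T c by
        ext <;> simp [tor_apply, sc, y2], hy, hy] at e
      replace e := congrArg U.a2 e
      rw [tor_apply] at e
      o8s at e
      simpa using e
    · have e := hm (y2 T t) rfl (y2 T u) rfl
      rw [yy2, hm _ rfl _ rfl, hy, hy, hy, hx] at e
      replace e := congrArg U.a2 e
      o8s at e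
      o8g T
  rw [hy, this]
  ext <;> o8s

theorem rig8 {a : K} (h0 : a ≠ 0) (h1 : a ≠ 1) (γ : U T → U T)
    (hm : ∀ g ∈ E T, ∀ k ∈ E T, γ (g * k) = γ g * γ k)
    (ht : ∀ c, ∀ g ∈ E T, γ (tor T c g) = tor T c (γ g))
    (hx : ∀ t, γ (x8 T t) = x8 T t) (δ : K → K) (hy : ∀ t, γ (y8 T t) = y8 T t * x8 T (δ t))
    (t : K) : γ (y8 T t) = y8 T t := by
  have : δ t = 0 := by
    refine delta (T := T) h0 h1 δ (fun c hc => ?_) (fun t u => ?_) t
    · have hc' := T.θ_ne_zero.2 hc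
      have e := ht ((Units.mk0 c hc)⁻¹, 1) (y8 T 1) rfl
      rw [show tor T ((Units.mk0 c hc)⁻¹, 1) (y8 T 1) = y8 T c by
        ext <;> simp [tor_apply, sc, y8], hy, hy] at e
      replace e := congrArg U.a8 e
      rw [tor_apply] at e
      o8s at e
      simpa using e
    · have e := hm (y8 T t) rfl (y8 T u) rfl
      rw [yy8, hm _ rfl _ rfl, hy, hy, hy, hx] at e
      replace e := congrArg U.a8 e
      o8s at e
      o8g T
  rw [hy, this]
  ext <;> o8s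

set_option maxRecDepth 4000 in
theorem nfE {g : U T} (hg : g ∈ E T) : g = y2 T g.b2 * x2 T g.a2 * x3 T g.a3 * y4 T g.b4 *
    x4 T g.a4 * x5 T g.a5 * y6 T g.b6 * x6 T g.a6 * x7 T g.a7 * y8 T g.b8 * x8 T g.a8 := by
  ext <;> o8s
  exact hg

theorem rig [Finite K] (hq : 2 < Nat.card K) (γ : U T → U T)
    (hm : ∀ g ∈ E T, ∀ k ∈ E T, γ (g * k) = γ g * γ k) (hW : ∀ w ∈ W T, γ w = w)
    (ht : ∀ c, ∀ g ∈ E T, γ (tor T c g) = tor T c (γ g)) (g : U T) (hg : g ∈ E T) : γ g = g := by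
  obtain ⟨a, h0, h1⟩ := exists_ne hq
  have ha := T.θ_ne_zero.2 h0
  have x4f : ∀ t, γ (x4 T t) = x4 T t := fun t => hW _ (by o8s)
  have x6f : ∀ t, γ (x6 T t) = x6 T t := fun t => hW _ (by o8s)
  have y4f : ∀ t, γ (y4 T t) = y4 T t := by
    refine rig4 h0 h1 γ hm ht x4f (fun t => (γ (y4 T t)).a4) fun t => ?_
    have e := fix4 h0 h1 (γ (y4 T t)) (by
      rw [← ht _ _ rfl]; congr 1; ext <;> simp [tor_apply, sc, y4])
    have e2 := hm (y4 T t) rfl (y4 T t) rfl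
    rw [sq4, x4f, e, sq4'] at e2
    rwa [← nrm_inj (T := T) (congrArg U.a4 e2)] at e
  have y6f : ∀ t, γ (y6 T t) = y6 T t := by
    refine rig6 h0 h1 γ hm ht x6f (fun t => (γ (y6 T t)).a6) fun t => ?_
    have e := fix6 h0 h1 (γ (y6 T t)) (by
      rw [← ht _ _ rfl]; congr 1; ext <;> simp [tor_apply, sc, y6])
    have e2 := hm (y6 T t) rfl (y6 T t) rfl
    rw [sq6, x6f, e, sq6'] at e2
    rwa [← nrm_inj (T := T) (congrArg U.a6 e2)] at e
  have rel : ∀ g k c : U T, g ∈ E T → k ∈ E T → c ∈ E T → g * k = k * g * c →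
      γ g * γ k = γ k * γ g * γ c := fun g k c hg hk hc e => by
    rw [← hm _ hg _ hk, e, hm _ (mul_mem hk hg) _ hc, hm _ hk _ hg]
  have rel' : ∀ g k c : U T, g ∈ E T → k ∈ E T → c ∈ E T → g * k = k * g * c →
      γ g = g → γ k = k → γ c = c := fun g k c hg hk hc e e1 e2 => by
    have := rel g k c hg hk hc e
    rw [e1, e2, e] at this
    exact (mul_left_cancel this).symm
  have x5f : ∀ t, γ (x5 T t) = x5 T t := fun t =>
    rel' (y4 T t) (y6 T 1) _ rfl rfl rfl (r5 t) (y4f _) (y6f _)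
  have y2a : ∀ t, γ (y2 T t) = y2 T t * x2 T (γ (y2 T t)).a2 := fun t => by
    have e := fix2 h0 h1 (γ (y2 T t)) (by
      rw [← ht _ _ rfl]; congr 1; ext <;> simp [tor_apply, sc, y2, ha])
    have e2 := rel (y2 T t) (x5 T 1) (x4 T t) rfl rfl rfl (r4' t)
    rw [x5f, x4f, e, r4] at e2
    have e3 : (γ (y2 T t)).b2 = t := congrArg U.a4 (mul_left_cancel e2)
    rwa [e3] at e
  have x2f : ∀ t, γ (x2 T t) = x2 T t := fun t => by
    obtain ⟨u, rfl⟩ := nrm_surj (T := T) t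
    have e2 := hm (y2 T u) rfl (y2 T u) rfl
    rwa [sq2, y2a, sq2'] at e2
  have y2f := rig2 h0 h1 γ hm ht x2f _ y2a
  have y8a : ∀ t, γ (y8 T t) = y8 T t * x8 T (γ (y8 T t)).a8 := fun t => by
    have e := fix8 h0 h1 (γ (y8 T t)) (by
      rw [← ht _ _ rfl]; congr 1; ext <;> simp [tor_apply, sc, y8, ha])
    have e2 := rel (y8 T t) (x5 T 1) (x6 T t) rfl rfl rfl (r6' t)
    rw [x5f, x6f, e, r6] at e2
    have e3 : (γ (y8 T t)).b8 = t := congrArg U.a6 (mul_left_cancel e2)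
    rwa [e3] at e
  have x8f : ∀ t, γ (x8 T t) = x8 T t := fun t => by
    obtain ⟨u, rfl⟩ := nrm_surj (T := T) t
    have e2 := hm (y8 T u) rfl (y8 T u) rfl
    rwa [sq8, y8a, sq8'] at e2
  have y8f := rig8 h0 h1 γ hm ht x8f _ y8a
  have x3f : ∀ t, γ (x3 T t) = x3 T t := fun t =>
    rel' (y2 T t) (y4 T 1) _ rfl rfl rfl (r3 t) (y2f _) (y4f _)
  have x7f : ∀ t, γ (x7 T t) = x7 T t := fun t =>
    rel' (y6 T t) (y8 T 1) _ rfl rfl rfl (r7 t) (y6f _) (y8f _)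
  have mul : ∀ g k : U T, (g ∈ E T ∧ γ g = g) → (k ∈ E T ∧ γ k = k) →
      (g * k ∈ E T ∧ γ (g * k) = g * k) := fun g k hg hk =>
    ⟨mul_mem hg.1 hk.1, by rw [hm _ hg.1 _ hk.1, hg.2, hk.2]⟩
  rw [nfE hg]
  refine (mul _ _ (mul _ _ (mul _ _ (mul _ _ (mul _ _ (mul _ _ (mul _ _ (mul _ _ (mul _ _ (mul _ _
    ⟨rfl, y2f _⟩ ⟨rfl, x2f _⟩) ⟨rfl, x3f _⟩) ⟨rfl, y4f _⟩) ⟨rfl, x4f _⟩) ⟨rfl, x5f _⟩)
    ⟨rfl, y6f _⟩) ⟨rfl, x6f _⟩) ⟨rfl, x7f _⟩) ⟨rfl, y8f _⟩) ⟨rfl, x8f _⟩).2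

section odd

variable {G : Type*} [Group G]

theorem odd_fix [Finite G] (hG : IsPGroup 2 G) {β : MulAut G} (hβ : Odd (orderOf β)) {g : G}
    (h : β (g⁻¹ * β g) = g⁻¹ * β g) : β g = g := by
  set c := g⁻¹ * β g with hc
  have e : β g = g * c := by rw [hc]; group
  have key : ∀ n : ℕ, (β ^ n) g = g * c ^ n := fun n => by
    induction n with
    | zero => simp
    | succ n ih => rw [pow_succ', MulAut.mul_apply, ih, map_mul, map_pow, h, e, pow_succ', mul_assoc]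
  have h1 := key (orderOf β)
  rw [pow_orderOf_eq_one, MulAut.one_apply, left_eq_mul] at h1
  obtain ⟨k, hk⟩ := hG c
  have : orderOf c = 1 := Nat.eq_one_of_dvd_coprimes
    (Nat.Coprime.pow_right k (Nat.coprime_two_right.2 hβ)) (orderOf_dvd_of_pow_eq_one h1)
    (orderOf_dvd_of_pow_eq_one hk)
  rw [e, orderOf_eq_one_iff.1 this, mul_one]

theorem pres_surj [Finite G] (β : MulAut G) {P : Subgroup G} (h : ∀ g ∈ P, β g ∈ P) (g : G)
    (hg : g ∈ P) : ∃ k ∈ P, β k = g :=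
  ((Set.toFinite (P : Set G)).injOn_iff_bijOn_of_mapsTo h).1 β.injective.injOn |>.surjOn hg

end odd

theorem rel6 (u : U T) : x6 T 1 * u = x4 T u.a1 * (u * x6 T 1) := by
  ext <;> o8s <;> o8ring T

theorem cV (g : U T) : g ∈ D T ↔ ∀ v ∈ V T, g * v = v * g := by
  obtain ⟨a1, b2, a2, a3, b4, a4, a5, b6, a6, a7, b8, a8⟩ := g
  refine ⟨?_, fun h => ?_⟩
  · rintro ⟨rfl : a1 = 0, rfl : b2 = 0, rfl : b6 = 0, rfl : a7 = 0, rfl : b8 = 0, rfl : a8 = 0⟩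
      ⟨c1, d2, c2, c3, d4, c4, c5, d6, c6, c7, d8, c8⟩ ⟨rfl : c1 = 0, rfl : d2 = 0, rfl : d4 = 0,
      rfl : d6 = 0, rfl : c7 = 0, rfl : d8 = 0, rfl : c8 = 0⟩
    ext <;> o8s <;> o8ring T
  · have h6 := coords (h (x6 T 1) (by o8s))
    have h5 := coords (h (x5 T 1) (by o8s))
    have h3 := coords (h (x3 T 1) (by o8s))
    have h2 := coords (h (x2 T 1) (by o8s))
    clear h
    o8s at h6 h5 h3 h2 ⊢
    obtain rfl : a1 = 0 := by o8g T
    obtain rfl : b2 = 0 := by o8g T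
    obtain rfl : b8 = 0 := by o8g T
    o8s at h6 h5 h3 h2 ⊢
    obtain rfl : a8 = 0 := by o8g T
    obtain rfl : b6 = 0 := by o8g T
    o8g T

theorem sqD {k : U T} (hk : k ∈ D T) : (k * k).a4 = k.b4 * T.θ k.b4 := by
  obtain ⟨a1, b2, a2, a3, b4, a4, a5, b6, a6, a7, b8, a8⟩ := k
  obtain ⟨rfl : a1 = 0, rfl : b2 = 0, rfl : b6 = 0, rfl : a7 = 0, rfl : b8 = 0, rfl : a8 = 0⟩ := hk
  o8s; o8ring T

theorem sqQE {k : U T} (hk : k ∈ Q T) (h1 : k.a1 = 0) : (k * k).a2 = k.b2 * T.θ k.b2 := by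
  obtain ⟨a1, b2, a2, a3, b4, a4, a5, b6, a6, a7, b8, a8⟩ := k
  obtain ⟨rfl : b8 = 0, rfl : a8 = 0⟩ := hk
  obtain rfl : a1 = 0 := h1
  o8s; o8ring T

theorem sqO {k : U T} (hk : k ∈ Q T) (h1 : k.a1 = 0) (h2 : k.b2 = 0) (h4 : k.b4 = 0) :
    k * k ∈ W T ∧ (k * k).a6 = k.b6 * T.θ k.b6 := by
  obtain ⟨a1, b2, a2, a3, b4, a4, a5, b6, a6, a7, b8, a8⟩ := k
  obtain ⟨rfl : b8 = 0, rfl : a8 = 0⟩ := hk
  obtain rfl : a1 = 0 := h1
  obtain rfl : b2 = 0 := h2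
  obtain rfl : b4 = 0 := h4
  o8s
  refine ⟨⟨?_, ?_, ?_, ?_, ?_⟩, ?_⟩ <;> o8ring T

theorem commQD {g k : U T} (hg : g ∈ Q T) (hk : k ∈ D T) : ⁅g, k⁆.a2 = g.a1 * k.b4 := by
  obtain ⟨a1, b2, a2, a3, b4, a4, a5, b6, a6, a7, b8, a8⟩ := k
  obtain ⟨c1, d2, c2, c3, d4, c4, c5, d6, c6, c7, d8, c8⟩ := g
  obtain ⟨rfl : a1 = 0, rfl : b2 = 0, rfl : b6 = 0, rfl : a7 = 0, rfl : b8 = 0, rfl : a8 = 0⟩ := hk
  obtain ⟨rfl : d8 = 0, rfl : c8 = 0⟩ := hg
  o8s; o8ring T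

theorem commOD {g k : U T} (hg : g ∈ Q T) (h1 : g.a1 = 0) (h2 : g.b2 = 0) (hk : k ∈ D T) :
    ⁅k, g⁆ ∈ R T ∧ ⁅k, g⁆.a5 = k.b4 * g.b6 := by
  obtain ⟨a1, b2, a2, a3, b4, a4, a5, b6, a6, a7, b8, a8⟩ := k
  obtain ⟨c1, d2, c2, c3, d4, c4, c5, d6, c6, c7, d8, c8⟩ := g
  obtain ⟨rfl : a1 = 0, rfl : b2 = 0, rfl : b6 = 0, rfl : a7 = 0, rfl : b8 = 0, rfl : a8 = 0⟩ := hk
  obtain ⟨rfl : d8 = 0, rfl : c8 = 0⟩ := hg
  obtain rfl : c1 = 0 := h1
  obtain rfl : d2 = 0 := h2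
  o8s
  refine ⟨⟨?_, ?_, ?_, ?_, ?_⟩, ?_⟩ <;> o8ring T

theorem commOV {g k : U T} (hg : g ∈ Q T) (h1 : g.a1 = 0) (h2 : g.b2 = 0) (hk : k ∈ V T)
    (h3 : k.a2 = 0) : ⁅k, g⁆.a4 = k.a3 * g.b6 := by
  obtain ⟨a1, b2, a2, a3, b4, a4, a5, b6, a6, a7, b8, a8⟩ := k
  obtain ⟨c1, d2, c2, c3, d4, c4, c5, d6, c6, c7, d8, c8⟩ := g
  obtain ⟨rfl : a1 = 0, rfl : b2 = 0, rfl : b4 = 0, rfl : b6 = 0, rfl : a7 = 0, rfl : b8 = 0,
    rfl : a8 = 0⟩ := hk
  obtain ⟨rfl : d8 = 0, rfl : c8 = 0⟩ := hg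
  obtain rfl : c1 = 0 := h1
  obtain rfl : d2 = 0 := h2
  obtain rfl : a2 = 0 := h3
  o8s; o8ring T

theorem cm5 (t : K) : ⁅y4 T t, y6 T 1⁆ = x5 T t := by ext <;> o8s <;> o8ring T

theorem cm3 (t : K) : ⁅y2 T t, y4 T 1⁆ = x3 T t := by ext <;> o8s <;> o8ring T

theorem cm2 (t : K) : ⁅x1 T t, y4 T 1⁆ = x2 T t := by ext <;> o8s <;> o8ring T

theorem cm4 (t : K) : ⁅x3 T t, y6 T 1⁆ = x4 T t := by ext <;> o8s <;> o8ring T

theorem stepW {g : U T} (t : K) (hg : g ∈ R T) (h : g.a5 = t) : (x5 T t)⁻¹ * g ∈ W T := by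
  obtain ⟨a1, b2, a2, a3, b4, a4, a5, b6, a6, a7, b8, a8⟩ := g
  obtain ⟨rfl : a1 = 0, rfl : b2 = 0, rfl : a2 = 0, rfl : a3 = 0, rfl : b4 = 0, rfl : b6 = 0,
    rfl : a7 = 0, rfl : b8 = 0, rfl : a8 = 0⟩ := hg
  obtain rfl : a5 = t := h
  o8s; o8ring T

theorem nfD {g : U T} (hg : g ∈ D T) :
    g = x2 T g.a2 * x3 T g.a3 * y4 T g.b4 * x4 T g.a4 * x5 T g.a5 * x6 T g.a6 := by
  obtain ⟨a1, b2, a2, a3, b4, a4, a5, b6, a6, a7, b8, a8⟩ := g
  obtain ⟨rfl : a1 = 0, rfl : b2 = 0, rfl : b6 = 0, rfl : a7 = 0, rfl : b8 = 0, rfl : a8 = 0⟩ := hg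
  ext <;> o8s

theorem odd [Finite K] (β : MulAut (U T)) (hβ : Odd (orderOf β)) (hW : ∀ w ∈ W T, β w = w)
    (hQ : ∀ u ∈ Q T, β u ∈ Q T) (hV : ∀ v ∈ V T, β v ∈ V T) : β = 1 := by
  have hc := T.charP
  have L : ∀ g, β (g⁻¹ * β g) = g⁻¹ * β g → β g = g := fun g => odd_fix isPGroup_U hβ
  have x4f : ∀ t, β (x4 T t) = x4 T t := fun t => hW _ (by o8s)
  have x6f : ∀ t, β (x6 T t) = x6 T t := fun t => hW _ (by o8s)
  have h1 : ∀ g, (β g).a1 = g.a1 := fun g => by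
    have e := congrArg β (rel6 g)
    rw [map_mul, map_mul, map_mul, x4f, x6f, rel6] at e
    exact congrArg U.a4 (mul_right_cancel e)
  have hD : ∀ g ∈ D T, β g ∈ D T := fun g hg => (cV _).2 fun v hv => by
    obtain ⟨k, hk, rfl⟩ := pres_surj β hV v hv
    rw [← map_mul, (cV g).1 hg k hk, map_mul]
  have d4 : ∀ t, β (y4 T t) ∈ D T := fun t => hD _ (by o8s)
  have b4 : ∀ t, (β (y4 T t)).b4 = t := fun t => by
    have e := sqD (d4 t)
    rw [← map_mul, sq4, x4f] at e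
    exact (nrm_inj (T := T) e).symm
  have q6 : β (y6 T 1) ∈ Q T := hQ _ ⟨rfl, rfl⟩
  have a6 : (β (y6 T 1)).a1 = 0 := h1 _
  have c6 : (β (y6 T 1)).b2 = 0 := by
    have e := sqQE q6 a6
    rw [← map_mul, sq6, x6f] at e
    exact nrm_eq_zero (T := T) e.symm
  have e6 : (β (y6 T 1)).b4 = 0 := by
    obtain ⟨k1, k2, k3, k4, k5, k6⟩ := d4 (β (y6 T 1)).b4
    have e := (sqO (k := β (y4 T (β (y6 T 1)).b4) * β (y6 T 1)) (mul_mem ⟨k5, k6⟩ q6)
      (by rw [U.mul_a1, k1, a6, add_zero]) (by rw [U.mul_b2, k2, c6, a6]; simp)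
      (by rw [U.mul_b4, b4, c6, a6]; simp [CharTwo.add_self_eq_zero])).1
    rw [← map_mul, ← map_mul] at e
    have e' := β.injective (hW _ e)
    rw [e'] at e
    have := e.2.2.2.2.2.1
    generalize (β (y6 T 1)).b4 = s at this
    o8s at this
    simpa [CharTwo.add_self_eq_zero] using this
  have f6 : (β (y6 T 1)).b6 = 1 := by
    have e := (sqO q6 a6 c6 e6).2
    rw [← map_mul, sq6, x6f] at e
    exact (nrm_inj (T := T) e).symm
  have x5f : ∀ t, β (x5 T t) = x5 T t := fun t => by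
    have e := commOD q6 a6 c6 (d4 t)
    rw [← map_commutatorElement, cm5, b4, f6, mul_one] at e
    exact L _ (hW _ (stepW t e.1 e.2))
  have fD : ∀ g ∈ D T, β (x2 T g.a2) = x2 T g.a2 → β (x3 T g.a3) = x3 T g.a3 →
      β (y4 T g.b4) = y4 T g.b4 → β g = g := fun g hg e2 e3 e4 => by
    have e := nfD hg
    rw [e]
    simp only [map_mul, e2, e3, e4, x4f, x5f, x6f]
  have z2 : β (x2 T 0) = x2 T 0 := map_one β
  have z3 : β (x3 T 0) = x3 T 0 := map_one β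
  have z4 : β (y4 T 0) = y4 T 0 := map_one β
  have x3f : ∀ t, β (x3 T t) = x3 T t := fun t => by
    have e2 := commQD (hQ (y2 T t) ⟨rfl, rfl⟩) (d4 1)
    rw [← map_commutatorElement, cm3, h1, b4, mul_one] at e2
    have hv := hV (x3 T t) (by o8s)
    have e3 := commOV q6 a6 c6 hv e2
    rw [← map_commutatorElement, cm4, x4f, f6, mul_one] at e3
    change _ = (0 : K) at e2
    change t = _ at e3
    refine L _ ?_
    generalize β (x3 T t) = k at e2 e3 hv ⊢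
    obtain ⟨k1, k2, k3, k4, k5, k6, k7⟩ := hv
    have l2 : ((x3 T t)⁻¹ * k).a2 = 0 := by o8s; simp [k1, k2, e2]
    have l3 : ((x3 T t)⁻¹ * k).a3 = 0 := by o8s; simp [← e3, CharTwo.add_self_eq_zero]
    have l4 : ((x3 T t)⁻¹ * k).b4 = 0 := by o8s; simp [k3]
    refine fD _ ?_ (l2 ▸ z2) (l3 ▸ z3) (l4 ▸ z4)
    exact mul_mem (inv_mem (by o8s)) ⟨k1, k2, k4, k5, k6, k7⟩
  have x2f : ∀ t, β (x2 T t) = x2 T t := fun t => by
    have e2 := commQD (hQ (x1 T t) ⟨rfl, rfl⟩) (d4 1)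
    rw [← map_commutatorElement, cm2, h1, b4, mul_one] at e2
    have hv := hV (x2 T t) (by o8s)
    change _ = t at e2
    refine L _ ?_
    generalize β (x2 T t) = k at e2 hv ⊢
    obtain ⟨k1, k2, k3, k4, k5, k6, k7⟩ := hv
    have l2 : ((x2 T t)⁻¹ * k).a2 = 0 := by o8s; simp [e2, CharTwo.add_self_eq_zero]
    have l4 : ((x2 T t)⁻¹ * k).b4 = 0 := by o8s; simp [k3]
    refine fD _ ?_ (l2 ▸ z2) (x3f _) (l4 ▸ z4)
    exact mul_mem (inv_mem (by o8s)) ⟨k1, k2, k4, k5, k6, k7⟩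
  have y4f : ∀ t, β (y4 T t) = y4 T t := fun t => by
    refine L _ ?_
    have l4 : ((y4 T t)⁻¹ * β (y4 T t)).b4 = 0 := by
      rw [U.mul_b4, b4]; o8s; simp [CharTwo.add_self_eq_zero]
    exact fD _ (mul_mem (inv_mem (by o8s)) (d4 t)) (x2f _) (x3f _) (l4 ▸ z4)
  have fD' : ∀ g ∈ D T, β g = g := fun g hg => fD g hg (x2f _) (x3f _) (y4f _)
  have fV : ∀ g ∈ V T, β g = g := fun g ⟨k1, k2, _, k4, k5, k6, k7⟩ =>
    fD' g ⟨k1, k2, k4, k5, k6, k7⟩
  ext1 g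
  refine L _ (fD' _ ((cV _).2 fun v hv => ?_))
  have e := fV _ (nV.conj_mem v hv g)
  rw [map_mul, map_mul, fV v hv, map_inv] at e
  calc g⁻¹ * β g * v = g⁻¹ * (β g * v * (β g)⁻¹) * β g := by group
    _ = v * (g⁻¹ * β g) := by rw [e]; group

theorem uf3 [Finite K] : UF3 T := ⟨odd, fix1, fix, rig, nrm⟩

end Cfsg.Agent.H92.UL
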