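import Cfsg.Agent.H17.KnDef2

/-!
# KN-FFB: a group `F` of order 256 normalised by `E`
-/

set_option autoImplicit false
set_option linter.unusedSectionVars false

namespace Cfsg.Agent.H92.KnFfb

open Equiv Subgroup Cfsg.Agent.H63
open Cfsg.Agent.H11.A16 (Ω)
open Cfsg.Agent.H89.Rec (Syl)
open Cfsg.Agent.H17.Kn

universe u

section General

variable {G : Type u} [Group G]

/-- An extension of index at most two. -/
def ext2 {Γ : Type} [Group Γ] (X : Subgroup Γ) (m : Γ) (h2 : m * m ∈ X)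
    (hn : ∀ u ∈ X, m * u * m⁻¹ ∈ X) : Subgroup Γ where
  carrier := {u | u ∈ X ∨ m⁻¹ * u ∈ X}
  one_mem' := Or.inl (one_mem _)
  mul_mem' := fun {a b} ha hb => by
    have k : ∀ u ∈ X, m⁻¹ * u * m ∈ X := fun u hu => by
      have := mul_mem (mul_mem (inv_mem h2) (hn u hu)) h2
      rwa [show (m * m)⁻¹ * (m * u * m⁻¹) * (m * m) = m⁻¹ * u * m by group] at this
    rcases ha with ha | ha <;> rcases hb with hb | hb
    · exact Or.inl (mul_mem ha hb)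
    · right
      have := mul_mem (k a ha) hb
      rwa [show m⁻¹ * a * m * (m⁻¹ * b) = m⁻¹ * (a * b) by group] at this
    · right
      have := mul_mem ha hb
      rwa [mul_assoc] at this
    · left
      have := mul_mem (mul_mem (hn _ ha) h2) hb
      rwa [show m * (m⁻¹ * a) * m⁻¹ * (m * m) * (m⁻¹ * b) = a * b by group] at this
  inv_mem' := fun {a} ha => by
    rcases ha with ha | ha
    · exact Or.inl (inv_mem ha)
    · right
      have := mul_mem (inv_mem h2) (hn _ (inv_mem ha))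
      have := mul_mem this h2
      have := mul_mem this (inv_mem h2)
      have e : (m * m)⁻¹ * (m * (m⁻¹ * a)⁻¹ * m⁻¹) * (m * m) * (m * m)⁻¹ = m⁻¹ * a⁻¹ := by group
      rwa [e] at this

theorem nrm_cen {H : Subgroup G} {g : G} (hg : g ∈ N[H]) : g ∈ N[C[H]] := by
  have k : ∀ g ∈ N[H], ∀ x ∈ C[H], g * x * g⁻¹ ∈ C[H] := fun g hg x hx =>
    mem_centralizer_iff.2 fun y hy => by
      have := mem_centralizer_iff.1 hx _ ((mem_normalizer_iff.1 (inv_mem hg) y).1 hy)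
      calc y * (g * x * g⁻¹) = g * (g⁻¹ * y * g⁻¹⁻¹ * x) * g⁻¹ := by group
        _ = _ := by rw [this]; group
  refine mem_normalizer_iff.2 fun x => ⟨k g hg x, fun hx => ?_⟩
  have := k _ (inv_mem hg) _ hx
  rwa [show g⁻¹ * (g * x * g⁻¹) * g⁻¹⁻¹ = x by group] at this

theorem nrm_nrm {H : Subgroup G} {g : G} (hg : g ∈ N[H]) : g ∈ N[N[H]] := le_normalizer hg

theorem nrm_inf {H K : Subgroup G} {g : G} (h1 : g ∈ N[H]) (h2 : g ∈ N[K]) : g ∈ N[H ⊓ K] :=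
  inf_normalizer_le_normalizer_inf ⟨h1, h2⟩

theorem nrm_closure [Finite G] {S : Set G} {g : G} (h : ∀ x ∈ S, g * x * g⁻¹ ∈ closure S) :
    g ∈ N[closure S] := by
  refine mem_normalizer_fintype fun x hx => ?_
  have : closure S ≤ (closure S).comap (MulAut.conj g).toMonoidHom := (closure_le _).2 h
  exact this hx

theorem nrm_im [Finite G] {J : N2 → G} {X : Subgroup N2} {g : G}
    (h : ∀ u ∈ X, g * J u * g⁻¹ ∈ im J X) : g ∈ N[im J X] :=
  nrm_closure (by rintro _ ⟨u, hu, rfl⟩; exact h u hu)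

theorem cen_im {J : N2 → G} {X : Subgroup N2} {g : G}
    (h : ∀ u ∈ X, Commute (J u) g) : g ∈ C[im J X] := by
  have : im J X ≤ C1[g] := im_le fun u hu => mem_centralizer_singleton_iff.2 (h u hu)
  exact mem_centralizer_iff.2 fun y hy => mem_centralizer_singleton_iff.1 (this hy)

theorem two_mul_le [Finite G] {H K : Subgroup G} (h : H ≤ K) {x : G} (hx : x ∈ K) (hn : x ∉ H) :
    2 * Nat.card H ≤ Nat.card K := by
  have h1 := card_mul_index (H.subgroupOf K)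
  rw [Nat.card_congr (subgroupOfEquivOfLe h).toEquiv] at h1
  have h2 : (H.subgroupOf K).index ≠ 1 := fun e => by
    rw [index_eq_one] at e
    exact hn (show (⟨x, hx⟩ : K) ∈ H.subgroupOf K from e ▸ mem_top _)
  have h3 : (H.subgroupOf K).index ≠ 0 := index_ne_zero_of_finite
  rw [← h1, mul_comm]
  exact Nat.mul_le_mul_left _ (by omega)

theorem syl_card [Finite G] {R R' K : Subgroup G} (h : Syl R K) (h' : Syl R' K) :
    Nat.card R = Nat.card R' := by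
  have : Fact (Nat.Prime 2) := ⟨Nat.prime_two⟩
  have e1 := h.toSylow.card_eq_multiplicity
  have e2 := h'.toSylow.card_eq_multiplicity
  rw [Syl.coe_toSylow, Nat.card_congr (subgroupOfEquivOfLe h.le).toEquiv] at e1
  rw [Syl.coe_toSylow, Nat.card_congr (subgroupOfEquivOfLe h'.le).toEquiv] at e2
  rw [e1, e2]

end General

theorem md : e34 ∈ E1 ∧ e34 ∉ T0 ∧ f0 ∉ F1 ∧ f0 ∈ FF ∧ z2 ∈ E1 ∧ xe 2 4 ∈ VV ∧ xe 3 4 ∈ VV ∧
    s12 * pm2 (xe 2 4) * s12⁻¹ = pm2 (xe 2 4) ∧ s12 * pm2 (xe 3 4) * s12⁻¹ = pm2 (xe 3 4) ∧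
    s12 * pm2 (e34 * xe 2 4 * e34⁻¹) * s12⁻¹ = pm2 (f0 * xe 2 4 * f0⁻¹) ∧
    s12 * pm2 (e34 * xe 3 4 * e34⁻¹) * s12⁻¹ = pm2 (f0 * xe 3 4 * f0⁻¹) ∧
    Commute (xe 2 4) (xe 3 4) ∧ xe 2 4 * xe 2 4 = 1 ∧ xe 3 4 * xe 3 4 = 1 := by decide +kernel

section Main

variable {G : Type u} [Group G] [Finite G] {J : N2 → G} {φ : G → Perm Ω}

theorem DT : DD ≤ T0 := fun _ h => h.1.1
theorem DX : DD ≤ XX := fun _ h => h.1
theorem XT : XX ≤ T0 := fun _ h => h.1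
theorem UT : U1 ≤ T0 := fun _ h => h.1
theorem UF : U1 ≤ FF := fun _ h => h.2
theorem EF : E1 ≤ FF := fun _ h => h.2
theorem E1E : E1 ≤ EE := fun _ h => h.1
theorem F1F : F1 ≤ FF := fun _ h => h.2

theorem fvD (h2 : Mod2) (h3 : Mod3) {e v : N2} (he : e ∈ FF) (hv : v ∈ VV) :
    e * v * e⁻¹ ∈ DD := by
  obtain ⟨-, -, -, -, -, -, -, -, -, -, -, -, -, -, -, l16, -, l18, -⟩ := h2.le
  have := mul_mem (l16 (h3.fvU e he v hv)) (l18 hv)
  rwa [inv_mul_cancel_right] at this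

theorem nD_of (h2 : Mod2) (h : Ki J φ) {g : G} (hc : g ∈ C[im J U1])
    (a : g * J (xe 2 4) * g⁻¹ ∈ im J DD) (b : g * J (xe 3 4) * g⁻¹ ∈ im J DD) :
    g ∈ N[im J DD] := by
  obtain ⟨-, -, -, -, -, -, -, -, -, -, -, -, -, -, -, l16, -, l18, -⟩ := h2.le
  obtain ⟨-, -, -, -, -, m6, m7, -⟩ := md
  refine nrm_im fun m hm => ?_
  obtain ⟨v, hv, w, hw, rfl⟩ := h2.pDD m hm
  rw [h.em.mul v (DT (l18 hv)) w (UT hw), show g * (J v * J w) * g⁻¹ = g * J v * (J w * g⁻¹) by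
    group, mem_centralizer_iff.1 (inv_mem hc) _ (mem_im hw), ← mul_assoc]
  refine mul_mem ?_ (mem_im (l16 hw))
  rcases h2.lVV v hv with rfl | rfl | rfl | rfl
  · rw [h.em.one]; simp
  · exact a
  · exact b
  · rw [h.em.mul _ (DT (l18 m6)) _ (DT (l18 m7)), show g * (J (xe 2 4) * J (xe 3 4)) * g⁻¹ =
      g * J (xe 2 4) * g⁻¹ * (g * J (xe 3 4) * g⁻¹) by group]
    exact mul_mem a b

/-- The coordinates on `DD ⟨e34⟩`. -/
theorem coord (hB : Base.{u}) (h : Eu J φ) : ∃ (J' : N2 → G) (Y : Subgroup N2), Em J' Y ∧ DD ≤ Y ∧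
    F1 ≤ Y ∧ (∀ u ∈ DD, J' u = J u) ∧ im J' F1 = im J U1 ⊔ im J E1 := by
  obtain ⟨-, -, -, l4, -, l6, -, -, -, -, -, -, -, l14, l15, l16, l17, l18, -⟩ := hB.m2.le
  have l3 := hB.m2.le.2.2.1
  obtain ⟨m1, m2, -⟩ := md
  have k := h.toKi
  have eA : e34 ∈ AE := l6 (E1E m1)
  have e2 : e34 * e34 = 1 := hB.m2.ab.2.2.2.2.1 _ (EF m1)
  have hn : ∀ u ∈ DD, e34 * u * e34⁻¹ ∈ DD := fun m hm => by
    obtain ⟨v, hv, w, hw, rfl⟩ := hB.m2.pDD m hm
    have c := hB.m2.ab.2.1 _ (UF hw) _ (inv_mem (EF m1))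
    rw [show e34 * (v * w) * e34⁻¹ = e34 * v * (w * e34⁻¹) by group, c.eq, ← mul_assoc]
    exact mul_mem (fvD hB.m2 hB.m3 (EF m1) hv) (l16 hw)
  have hx : Ex J (J e34) e34 DD := fun m hm => by
    obtain ⟨v, hv, w, hw, rfl⟩ := hB.m2.pDD m hm
    have c := hB.m2.ab.2.1 _ (UF hw) _ (inv_mem (EF m1))
    have c' := (h.cm w hw _ m1).inv_right
    have r := h.emE.self eA (l3 (l4 (l17 hv)))
    unfold R at r ⊢
    rw [show e34 * (v * w) * e34⁻¹ = e34 * v * (w * e34⁻¹) by group, c.eq, ← mul_assoc,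
      k.em.mul v (DT (l18 hv)) w (UT hw), k.em.mul _ (DT (fvD hB.m2 hB.m3 (EF m1) hv)) w (UT hw),
      ← r, show J e34 * (J v * J w) * (J e34)⁻¹ = J e34 * J v * (J w * (J e34)⁻¹) by group, c'.eq]
    group
  have nm : J e34 ∉ im J DD := fun a => by
    obtain ⟨t, ht, e⟩ := (k.em.mono DT).mem.1 a
    have : t⁻¹ * e34 ∈ AA := hB.m3.cAA _ fun a ha => by
      have r1 := h.emE.self eA (l3 (l4 ha))
      have r2 := k.em.self (DT ht) (AA_le_T0 ha)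
      unfold R at r1 r2
      rw [e, r1] at r2
      have m1' : t * a * t⁻¹ ∈ AA := ((hB.m2.nrm t).2.2.2.1 (DT ht).1).1 a ha
      have := h.emE.inj _ (mul_mem (mul_mem eA (l3 (l4 ha))) (inv_mem eA)) _ (l3 (l4 m1')) r2
      show t⁻¹ * e34 * a = a * (t⁻¹ * e34)
      calc t⁻¹ * e34 * a = t⁻¹ * (e34 * a * e34⁻¹) * e34 := by group
        _ = _ := by rw [this]; group
    have := mul_mem (DT ht) (AA_le_T0 this)
    rw [mul_inv_cancel_left] at this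
    exact m2 this
  let Y := ext2 DD e34 (e2 ▸ one_mem _) hn
  have eY : e34 ∈ Y := Or.inr (by rw [inv_mul_cancel]; exact one_mem _)
  have DY : DD ≤ Y := fun _ hu => Or.inl hu
  obtain ⟨J', em', ag, je⟩ := (hB.gen (G := G)).ext J DD Y e34 (J e34) (k.em.mono DT) DY eY
    (fun a => m2 (DT a)) (fun _ hu => hu) hx (h.emE.mul _ eA _ eA).symm nm
  have FY : F1 ≤ Y := fun u hu => (hB.m2.iF1 u hu).imp (fun a => l16 a) fun a => l16 a
  have sp : ∀ u, e34⁻¹ * u ∈ U1 → J' u = J e34 * J (e34⁻¹ * u) := fun u hu => by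
    rw [← je, ← ag _ (l16 hu), ← em'.mul _ eY _ (DY (l16 hu)), mul_inv_cancel_left]
  refine ⟨J', Y, em', DY, FY, ag, le_antisymm (im_le fun u hu => ?_) (sup_le (im_le fun u hu => ?_)
    (im_le fun u hu => ?_))⟩
  · rcases hB.m2.iF1 u hu with a | a
    · rw [ag u (l16 a)]; exact mem_sup_left (mem_im a)
    · rw [sp u a]; exact mul_mem (mem_sup_right (mem_im m1)) (mem_sup_left (mem_im a))
  · rw [← ag u (l16 hu)]; exact mem_im (l15 hu)
  · rcases hB.m2.iF1 u (l14 hu) with a | a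
    · rw [← ag u (l16 a)]; exact mem_im (l14 hu)
    · have : J u = J' u := by
        rw [sp u a, ← h.emE.mul _ eA _ (mul_mem (inv_mem eA) (l6 (E1E hu))), mul_inv_cancel_left]
      rw [this]; exact mem_im (l14 hu)

theorem nT0 (hB : Base.{u}) (h : Eu J φ) {t : N2} (ht : t ∈ T0) :
    J t ∈ N[im J U1] ∧ J t ∈ N[im J DD] ∧ J t ∈ N[im J E1] := by
  have k := h.toKi
  obtain ⟨n1, n2, n3, -, -, n6⟩ := hB.m2.nrm t
  refine ⟨nrm_im fun u hu => ?_, nrm_im fun u hu => ?_, nrm_im fun u hu => ?_⟩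
  · rw [k.em.self ht (UT hu)]; exact mem_im ((n6 ht).1 u hu)
  · rw [k.em.self ht (DT hu)]; exact mem_im ((n6 ht).2.1 u hu)
  · have a : t * u * t⁻¹ ∈ E1 := ⟨n2 u hu.1, (n3 ht.2).1 u hu.2⟩
    rcases h.act t ht u hu.1 with r | r <;> rw [r]
    · exact mem_im a
    · exact mem_im (mul_mem a md.2.2.2.2.1)

theorem twoT (hB : Base.{u}) (h : Eu J φ) : IsPGroup 2 ↥(im J T0 ⊔ im J EE) := by
  obtain ⟨-, -, -, -, -, l6, -, -, -, -, l11, l12, -⟩ := hB.m2.le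
  refine IsPGroup.to_sup_of_normal_right' (h.toKi.em.two (hB.m1.two.to_le fun _ a => a.2))
    ((h.emE.mono l6).two (hB.m1.two.to_le fun _ a => l12 (l11 a.1))) (im_le h.nE)

theorem abF1 (hB : Base.{u}) (h : Eu J φ) : im J U1 ⊔ im J E1 ≤ C[im J U1 ⊔ im J E1] := by
  obtain ⟨J', Y, em', -, FY, -, e⟩ := coord hB h
  rw [← e]
  refine im_le fun u hu => cen_im fun v hv => ?_
  show J' v * J' u = J' u * J' v
  rw [← em'.mul _ (FY hv) _ (FY hu), ← em'.mul _ (FY hu) _ (FY hv),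
    (hB.m2.ab.2.1 v (F1F hv) u (F1F hu)).eq]

theorem step1 (hB : Base.{u}) (hv : HvStmt.{u}) (h : Eu J φ) : ∃ F, Fp J F := by
  obtain ⟨-, -, l3, l4, -, l6, -, -, -, -, -, -, -, l14, l15, l16, l17, l18, -, -, -, -, -,
    l24, -⟩ := hB.m2.le
  obtain ⟨m1, m2, m3, m4, m5, m6, m7, m8, m9, m10, m11, -⟩ := md
  have k := h.toKi
  obtain ⟨v1, -, -, v4⟩ := hv J φ k
  obtain ⟨J', Y, em', DY, FY, ag, e⟩ := coord hB h
  have cU : im J U1 ⊔ im J E1 ≤ C[im J U1] := (abF1 hB h).trans (centralizer_le (SetLike.coe_subset_coe.2 le_sup_left))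
  have rE : ∀ u ∈ E1, ∀ v ∈ VV, R J (J u) v (u * v * u⁻¹) := fun u hu v hv =>
    h.emE.self (l6 (E1E hu)) (l3 (l4 (l17 hv)))
  have EM : im J E1 ≤ C[im J U1] ⊓ N[im J DD] := im_le fun u hu => by
    have c := cU (mem_sup_right (mem_im hu))
    refine ⟨c, nD_of hB.m2 k c ?_ ?_⟩
    · rw [rE u hu _ m6]; exact mem_im (fvD hB.m2 hB.m3 (EF hu) m6)
    · rw [rE u hu _ m7]; exact mem_im (fvD hB.m2 hB.m3 (EF hu) m7)
  have TM : ∀ t ∈ T0, J t ∈ N[C[im J U1] ⊓ N[im J DD]] := fun t ht =>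
    nrm_inf (nrm_cen (nT0 hB h ht).1) (nrm_nrm (nT0 hB h ht).2.1)
  obtain ⟨S, S2', TS, -, -, syl⟩ := (hB.gen (G := G)).ovs (C[im J U1] ⊓ N[im J DD])
    (im J T0 ⊔ im J E1) ((twoT hB h).to_le (sup_le_sup_left (im_mono E1E) _))
    (sup_le (im_le TM) (EM.trans le_normalizer))
  have a1 : im J U1 ≤ S ⊓ (C[im J U1] ⊓ N[im J DD]) :=
    le_inf ((im_mono UT).trans (le_sup_left.trans TS))
      (le_inf (le_sup_left.trans cU) ((im_mono l16).trans le_normalizer))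
  have a2 : im J E1 ≤ S ⊓ (C[im J U1] ⊓ N[im J DD]) := le_inf (le_sup_right.trans TS) EM
  refine ⟨S ⊓ (C[im J U1] ⊓ N[im J DD]), syl.grp, a1, a2, fun _ a => a.2.1, fun _ a => a.2.2,
    fun t ht => nrm_inf (le_normalizer (TS (mem_sup_left (mem_im ht)))) (TM t ht),
    le_antisymm (v4 _ syl.grp (fun _ a => a.2.1) fun _ a => a.2.2) ?_⟩
  obtain ⟨s, -, -, sy⟩ := (hB.kit J φ k).real XX XX XT XT s12 hB.af.s hB.m2.s12m.2.1
  have sU : s ∈ N[im J U1] := nrm_im fun u hu => by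
    obtain ⟨v, hv, e⟩ := hB.m2.s12m.2.2.2.1 u hu
    rw [sy u (DX (l16 hu)) v (DX (l16 hv)) e]; exact mem_im hv
  have fc : s * J e34 * s⁻¹ ∈ C[im J U1] :=
    (mem_normalizer_iff.1 (nrm_cen sU) _).1 (EM (mem_im m1)).1
  have fr : ∀ v ∈ VV, s12 * pm2 v * s12⁻¹ = pm2 v →
      s12 * pm2 (e34 * v * e34⁻¹) * s12⁻¹ = pm2 (f0 * v * f0⁻¹) →
      R J (s * J e34 * s⁻¹) v (f0 * v * f0⁻¹) := fun v hv e1 e2 =>
    (((sy v (DX (l18 hv)) v (DX (l18 hv)) e1).symm.trans (rE _ m1 v hv)).trans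
      (sy _ (DX (fvD hB.m2 hB.m3 (EF m1) hv)) _ (DX (fvD hB.m2 hB.m3 m4 hv)) e2)) |> fun r => by
        rwa [← mul_assoc] at r
  have f2 := fr _ m6 m8 m10
  have f3 := fr _ m7 m9 m11
  have fM : s * J e34 * s⁻¹ ∈ C[im J U1] ⊓ N[im J DD] := ⟨fc, nD_of hB.m2 k fc
    (by rw [f2]; exact mem_im (fvD hB.m2 hB.m3 m4 m6))
    (by rw [f3]; exact mem_im (fvD hB.m2 hB.m3 m4 m7))⟩
  have eA : e34 ∈ AE := l6 (E1E m1)
  have fs : (s * J e34 * s⁻¹) ^ 2 ^ 1 = 1 := by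
    rw [pow_one, conj_pow, pow_two, ← h.emE.mul _ eA _ eA, hB.m2.ab.2.2.2.2.1 _ (EF m1),
      h.emE.one]; group
  obtain ⟨g, hg, hgf⟩ := syl.exists_conj fM fs
  generalize s * J e34 * s⁻¹ = f at *
  have nf : g * f * g⁻¹ ∉ im J' F1 := fun a => by
    obtain ⟨y, hy, ey⟩ := (em'.mono FY).mem.1 a
    obtain ⟨c, hc, cx⟩ := v1 g hg.1 hg.2
    have key : ∀ v ∈ VV, R J f v (f0 * v * f0⁻¹) → Commute ((y * c)⁻¹ * (c * f0)) v := by
      intro v hv r
      have d1 := fvD hB.m2 hB.m3 hc hv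
      have d2 := fvD hB.m2 hB.m3 (mul_mem hc m4) hv
      have d3 := fvD hB.m2 hB.m3 (mul_mem (F1F hy) hc) hv
      have r1 := r.trans (cx _ (fvD hB.m2 hB.m3 m4 hv))
      have r2 := cx _ (l18 hv)
      have r3 := em'.self (FY hy) (DY d1)
      unfold R at r1 r2 r3
      rw [show c * (f0 * v * f0⁻¹) * c⁻¹ = c * f0 * v * (c * f0)⁻¹ by group] at r1
      rw [show y * (c * v * c⁻¹) * y⁻¹ = y * c * v * (y * c)⁻¹ by group, ag _ d1, ag _ d3, ey,
        ← r2, show g * f * g⁻¹ * (g * J v * g⁻¹) * (g * f * g⁻¹)⁻¹ = g * f * J v * (g * f)⁻¹ by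
          group, r1] at r3
      have := k.em.inj _ (DT d2) _ (DT d3) r3
      show (y * c)⁻¹ * (c * f0) * v = v * ((y * c)⁻¹ * (c * f0))
      calc _ = (y * c)⁻¹ * (c * f0 * v * (c * f0)⁻¹) * (c * f0) := by group
        _ = _ := by rw [this]; group
    have k2 := key _ m6 f2
    have k3 := key _ m7 f3
    have := l15 (l24 (hB.m3.cFV _ (mul_mem (inv_mem (mul_mem (F1F hy) hc)) (mul_mem hc m4))
      fun v hv => by
        rcases hB.m2.lVV v hv with rfl | rfl | rfl | rfl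
        · exact Commute.one_right _
        · exact k2
        · exact k3
        · exact k2.mul_right k3))
    rw [(hB.m2.ab.2.1 y (F1F hy) c hc).eq, show (c * y)⁻¹ * (c * f0) = y⁻¹ * f0 by group] at this
    have := mul_mem hy this
    rw [mul_inv_cancel_left] at this
    exact m3 this
  have := two_mul_le (e ▸ sup_le a1 a2 : im J' F1 ≤ _) hgf nf
  rwa [(em'.mono FY).card, hB.m1.cF1] at this

end Main

theorem ffb (hB : Base.{u}) (hv : HvStmt.{u}) (ha : FfaStmt.{u}) : FfbStmt.{u} := by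
  intro G _ _ J φ h
  obtain ⟨-, -, l3, l4, -, l6, -, -, -, -, l11, l12, -, l14, l15, l16, l17, l18, -⟩ := hB.m2.le
  obtain ⟨m1, m2, m3, m4, m5, m6, m7, -, -, -, -, m12, m13, m14⟩ := md
  have k := h.toKi
  obtain ⟨F0, hF0⟩ := step1 hB hv h
  obtain ⟨f, s, hd⟩ := ha J φ h F0 hF0
  obtain ⟨J', Y, em', DY, FY, ag, e⟩ := coord hB h
  have TN : ∀ t ∈ T0, J t ∈ N[im J U1 ⊔ im J E1] := fun t ht =>
    normalizer_inf_normalizer_le_normalizer_sup _ _ ⟨(nT0 hB h ht).1, (nT0 hB h ht).2.2⟩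
  have EN : ∀ t ∈ EE, J t ∈ N[im J U1 ⊔ im J E1] := fun t ht => by
    refine mem_normalizer_fintype fun x hx => ?_
    have : im J U1 ⊔ im J E1 ≤ (im J U1 ⊔ im J E1).comap (MulAut.conj (J t)).toMonoidHom := by
      refine sup_le (im_le fun u hu => ?_) (im_le fun u hu => ?_)
      · show J t * J u * (J t)⁻¹ ∈ im J U1 ⊔ im J E1
        have a : t * (u * t⁻¹ * u⁻¹) ∈ E1 := by
          refine ⟨mul_mem ht ((hB.m2.nrm u).2.1 _ (inv_mem ht)), ?_⟩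
          have := mul_mem (((hB.m2.nrm t).2.2.1 (l12 (l11 ht.1))).1 u (UF hu)) (inv_mem (UF hu))
          rwa [show t * u * t⁻¹ * u⁻¹ = t * (u * t⁻¹ * u⁻¹) by group] at this
        have b : u * t⁻¹ * u⁻¹ ∈ EE := (hB.m2.nrm u).2.1 _ (inv_mem ht)
        rw [show J t * J u * (J t)⁻¹ = J t * (J u * (J t)⁻¹ * (J u)⁻¹) * J u by group,
          ← h.emE.inv (l6 ht)]
        refine mul_mem (mem_sup_right ?_) (mem_sup_left (mem_im hu))
        rcases h.act u (UT hu) _ (inv_mem ht) with r | r <;> rw [r]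
        · rw [← h.emE.mul _ (l6 ht) _ (l6 b)]; exact mem_im a
        · rw [← h.emE.mul _ (l6 ht) _ (l6 (mul_mem b (E1E m5))), ← mul_assoc]
          exact mem_im (mul_mem a m5)
      · show J t * J u * (J t)⁻¹ ∈ im J U1 ⊔ im J E1
        rw [h.emE.self (l6 ht) (l6 (E1E hu)), (hB.m2.ab.1 t ht.1 u hu.1.1).eq,
          mul_inv_cancel_right]
        exact mem_sup_right (mem_im hu)
    exact this hx
  obtain ⟨S, S2', TS, -, -, syl⟩ := (hB.gen (G := G)).ovs C[im J U1 ⊔ im J E1]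
    (im J T0 ⊔ im J EE) (twoT hB h)
    (sup_le (im_le fun t ht => nrm_cen (TN t ht)) (im_le fun t ht => nrm_cen (EN t ht)))
  have KU : C[im J U1 ⊔ im J E1] ≤ C[im J U1] := centralizer_le (SetLike.coe_subset_coe.2 le_sup_left)
  have cd : Nat.card ↥(S ⊓ C[im J U1 ⊔ im J E1]) = 256 := by
    rw [← hF0.card]
    exact syl_card syl (hd.syl.mono (fun a ha => mem_centralizer_iff.2 fun b hb =>
      hd.ab b (sup_le hF0.le1 hF0.le2 hb) a ha) KU)
  have le : im J U1 ⊔ im J E1 ≤ S ⊓ C[im J U1 ⊔ im J E1] :=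
    le_inf ((sup_le_sup (im_mono UT) (im_mono E1E)).trans TS) (abF1 hB h)
  have nT : ∀ t ∈ T0, J t ∈ N[S ⊓ C[im J U1 ⊔ im J E1]] := fun t ht =>
    nrm_inf (le_normalizer (TS (mem_sup_left (mem_im ht)))) (nrm_cen (TN t ht))
  refine ⟨S ⊓ C[im J U1 ⊔ im J E1], ⟨syl.grp, le_sup_left.trans le, le_sup_right.trans le,
    fun _ a => KU a.2, fun p hp => ?_, nT, cd⟩, fun t ht =>
      nrm_inf (le_normalizer (TS (mem_sup_right (mem_im ht)))) (nrm_cen (EN t ht))⟩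
  have pc := KU hp.2
  generalize S ⊓ C[im J U1 ⊔ im J E1] = F at *
  have ix : ((im J U1 ⊔ im J E1).subgroupOf F).index = 2 := by
    have h1 := card_mul_index ((im J U1 ⊔ im J E1).subgroupOf F)
    rw [Nat.card_congr (subgroupOfEquivOfLe le).toEquiv, cd, ← e, (em'.mono FY).card,
      hB.m1.cF1] at h1
    rw [← e]; omega
  have key : ∀ v ∈ VV, ∃ b ∈ F1, p * J v * p⁻¹ = J' (v * b) := fun v hv => by
    have vT := DT (l18 hv)
    have q : (J v)⁻¹ * p * (J v)⁻¹⁻¹ ∈ F := (mem_normalizer_iff.1 (inv_mem (nT v vT)) p).1 hp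
    have := (mul_mem_iff_of_index_two ix (a := ⟨_, q⟩) (b := ⟨_, inv_mem hp⟩)).2 (by
      simp only [mem_subgroupOf, inv_mem_iff]
      exact (mem_normalizer_iff.1 (inv_mem (TN v vT)) p).symm)
    rw [mem_subgroupOf, ← e] at this
    obtain ⟨b, hb, eb⟩ := (em'.mono FY).mem.1 this
    refine ⟨b, hb, ?_⟩
    rw [em'.mul _ (DY (l18 hv)) _ (FY hb), eb, ag _ (l18 hv)]
    simp only [coe_mul]; group
  obtain ⟨b, hb, eb⟩ := key _ m6
  obtain ⟨c, hc, ec⟩ := key _ m7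
  have yb := mul_mem (DY (l18 m6)) (FY hb)
  have yc := mul_mem (DY (l18 m7)) (FY hc)
  have sq : ∀ v ∈ VV, v * v = 1 → ∀ w ∈ Y, p * J v * p⁻¹ = J' w → w ^ 2 = 1 :=
    fun v hv v2 w hw ew => em'.inj _ (pow_mem hw 2) _ (one_mem _) (by
      rw [em'.pow hw, ← ew, conj_pow, pow_two, ← k.em.mul _ (DT (l18 hv)) _ (DT (l18 hv)), v2,
        k.em.one, em'.one]; group)
  obtain ⟨w, hw, w2, w3⟩ := hB.m3.cplF b (F1F hb) c (F1F hc) (sq _ m6 m13 _ yb eb)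
    (sq _ m7 m14 _ yc ec) (em'.inj _ (mul_mem yb yc) _ (mul_mem yc yb) (by
      rw [em'.mul _ yb _ yc, em'.mul _ yc _ yb, ← eb, ← ec, conj_mul, conj_mul,
        ← k.em.mul _ (DT (l18 m6)) _ (DT (l18 m7)), ← k.em.mul _ (DT (l18 m7)) _ (DT (l18 m6)),
        m12.eq]))
  have d2 := fvD hB.m2 hB.m3 hw m6
  have d3 := fvD hB.m2 hB.m3 hw m7
  exact nD_of hB.m2 k pc (by rw [eb, ← w2, ag _ d2]; exact mem_im d2)
    (by rw [ec, ← w3, ag _ d3]; exact mem_im d3)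

end Cfsg.Agent.H92.KnFfb
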