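import Cfsg.Agent.H92.AcLfA

/-! Project AC: the lifts of the root data of `L₃(4)` to a central extension. -/

set_option autoImplicit false
set_option linter.unusedSectionVars false

namespace Cfsg.Agent.H92.AC

open Cfsg Subgroup Cfsg.Agent.H28 Cfsg.Agent.H42.AL Cfsg.Agent.H42.AC
open Cfsg.Agent.H42.AS (om)
open Cfsg.Agent.H44.AP (aa cases4 cj zero_of sq_of inv_of)
open scoped commutatorElement

universe u

variable {G H : Type u} [Group G] [Group H] {A : Subgroup G}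

theorem hb3 {B : RD H} (h : B.Fa) : B.hb ^ 3 = 1 := by
  by_contra hne
  have hA : B.hb ^ 3 ∈ B.A := pow_mem H65.AL.hbA 3
  have e6 : B.hb ^ 3 * B.hb ^ 3 = 1 := by
    rw [← h.rel.r3, RD.rho, ← pow_two B.hb, ← pow_add, ← pow_mul]
  obtain ⟨y, hy, e⟩ := h.glob.inv _ hA e6 hne
  have hc : y * B.rho * y⁻¹ * B.xv 1 = B.xv 1 * (y * B.rho * y⁻¹) := by
    rw [← e, RD.rho]; group
  have hU := h.glob.centV 1 one_ne_zero _ (H65.AL.cjm hy H65.AL.rhoA) hc
  obtain ⟨n, hn⟩ := H65.AL.pU h.rel ⟨_, hU⟩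
  have hn' : (y * B.rho * y⁻¹) ^ 2 ^ n = 1 := congrArg Subtype.val hn
  rw [conj_pow, conj_eq_one_iff] at hn'
  have h1 : B.rho = 1 := orderOf_eq_one_iff.1 (Nat.eq_one_of_dvd_coprimes
    (Nat.Coprime.pow_right n (by norm_num : Nat.Coprime 3 2)) (orderOf_dvd_of_pow_eq_one h.rel.r3)
    (orderOf_dvd_of_pow_eq_one hn'))
  have h2 := h.rel.rv 1
  rw [h1, one_mul, mul_one] at h2
  exact absurd (H65.AL.xv_inj h.rel h2) (by decide +kernel)

theorem st_conj {B : RD H} (h : B.Rel) (hK : B.K = ⊥) {g : H} {l m : F4} {fr : Bool}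
    (s : B.St B g l m fr ∨ B.St B.swap g l m fr) :
    g * B.rho * g⁻¹ = B.rho ∨ g * B.rho * g⁻¹ = B.rho ^ 2 := by
  have k : ∀ (fr : Bool) (a : F4), a ≠ 0 → a * pw fr (om * pw false (pw fr (a ^ 2))) = pw fr om := by
    decide +kernel
  have k' : ∀ fr : Bool, xor fr (xor false fr) = false := by decide
  have s1 : B.St B (g * (B.rho * g⁻¹)) (pw fr om) (pw fr om) false := by
    rcases s with s | s
    · have := H65.AL.stMul (H65.AL.stMul (H65.AL.stInv s) (H65.AL.st_rho h)) s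
      rwa [k _ _ s.l0, k _ _ s.m0, k'] at this
    · have := H65.AL.stMul (H65.AL.stMul (H65.AL.stInv s) (H65.AL.st_rho h)) s
      rw [k _ _ s.l0, k _ _ s.m0, k'] at this
      exact H65.AL.stSwap this
  rw [← mul_assoc] at s1
  cases fr
  · have := H65.AL.st_uniq h s1 (H65.AL.st_rho h)
    rw [hK, mem_bot, inv_mul_eq_one] at this
    exact Or.inl this
  · have s2 := H65.AL.stMul (H65.AL.st_rho h) (H65.AL.st_rho h)
    rw [show om * pw false om = pw true om by decide +kernel] at s2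
    have := H65.AL.st_uniq h s1 s2
    rw [hK, mem_bot, inv_mul_eq_one] at this
    exact Or.inr (this.trans (pow_two _).symm)

variable {B : Subgroup H} {p : G → H} in
theorem weyl (c : Cov A B p) {x : F4 → G} {X : F4 → H} {N : H} (xA : ∀ t, x t ∈ A)
    (x2 : ∀ t, x t * x t = 1) (px : ∀ t, p (x t) = X t) (NB : N ∈ B) (N2 : N * N = 1)
    (Ne : N = X 1 * (N * X 1 * N) * X 1)
    (h3 : (X om * N * X (om ^ 2) * N * X om * N) ^ 3 = 1) :
    ∃ n ∈ A, p n = N ∧ n * n = 1 ∧ (n * x 1) ^ 3 = 1 ∧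
      ∀ h, h = x om * n * x (om ^ 2) * n * x om * n →
        (h * h) ^ 3 = 1 ∧ n * (h * h) * n = (h * h) ^ 2 := by
  obtain ⟨n0, h0, e0⟩ := (c.img _).1 NB
  have m1 := cm h0 (xA 1)
  have nA : x 1 * (n0 * x 1 * n0⁻¹) * x 1 ∈ A := mul_mem (mul_mem (xA 1) m1) (xA 1)
  have pn : p (x 1 * (n0 * x 1 * n0⁻¹) * x 1) = N := by
    rw [pm c (mul_mem (xA 1) m1) (xA 1), pm c (xA 1) m1,
      c.cj (le_normalizer h0) (le_normalizer (xA 1)), px, e0, inv_eq_of_mul_eq_one_right N2, ← Ne]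
  have y2 : n0 * x 1 * n0⁻¹ * (n0 * x 1 * n0⁻¹) = 1 := by
    calc _ = n0 * (x 1 * x 1) * n0⁻¹ := by group
      _ = 1 := by rw [x2]; group
  have sm := same c (le_normalizer nA) (le_normalizer h0) (pn.trans e0.symm) (xA 1)
  generalize n0 * x 1 * n0⁻¹ = y at *
  have n2 : x 1 * y * x 1 * (x 1 * y * x 1) = 1 := by
    calc _ = x 1 * y * (x 1 * x 1) * y * x 1 := by group
      _ = 1 := by rw [x2, mul_one, mul_assoc (x 1), y2, mul_one, x2]
  refine ⟨_, nA, pn, n2, ?_, ?_⟩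
  · rw [inv_eq_of_mul_eq_one_right n2] at sm
    calc _ = (x 1 * y * x 1 * x 1 * (x 1 * y * x 1)) * x 1 * (x 1 * y * x 1 * x 1) := by
          simp only [pow_succ, pow_zero, one_mul, mul_assoc]
      _ = y * (x 1 * x 1) * y * (x 1 * x 1) := by rw [sm]; group
      _ = 1 := by rw [x2, mul_one, mul_one, y2]
  · generalize x 1 * y * x 1 = n at *
    intro h e
    have hA : h ∈ A := e ▸
      mul_mem (mul_mem (mul_mem (mul_mem (mul_mem (xA _) nA) (xA _)) nA) (xA _)) nA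
    have ph : p h = X om * N * X (om ^ 2) * N * X om * N := by
      rw [e, pm c (mul_mem (mul_mem (mul_mem (mul_mem (xA _) nA) (xA _)) nA) (xA _)) nA,
        pm c (mul_mem (mul_mem (mul_mem (xA _) nA) (xA _)) nA) (xA _),
        pm c (mul_mem (mul_mem (xA _) nA) (xA _)) nA, pm c (mul_mem (xA _) nA) (xA _),
        pm c (xA _) nA, px, px, pn]
    have hK := kerA c (pow_mem hA 3) (by rw [c.pow (le_normalizer hA), ph, h3])
    have ni := inv_eq_of_mul_eq_one_right n2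
    have hi : n * h * n⁻¹ = h⁻¹ := by
      rw [e]
      simp only [mul_inv_rev, ni, inv_eq_of_mul_eq_one_right (x2 _), mul_assoc, n2, mul_one]
    have h6 : h ^ 3 * h ^ 3 = 1 := by
      have := congrArg (· ^ 3) hi
      simp only [conj_pow] at this
      rw [K_comm hK nA, mul_inv_cancel_right, inv_pow] at this
      exact mul_eq_one_iff_eq_inv.2 this
    have r3 : (h * h) ^ 3 = 1 := by rw [← h6, ← pow_two h, ← pow_add, ← pow_mul]
    refine ⟨r3, ?_⟩
    calc n * (h * h) * n = n * h * n⁻¹ * (n * h * n⁻¹) := by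
          rw [ni]; simp only [mul_assoc]; rw [← mul_assoc n n, n2, one_mul]
      _ = (h * h) ^ 3 * (h * h)⁻¹ := by rw [hi, r3]; group
      _ = _ := by rw [pow_succ, mul_inv_cancel_right]

section D

variable {D : RD G} {χ : F4 → G} (ee : ∀ t u, D.xe (t + u) = D.xe t * D.xe u)
  (bb : ∀ t u, D.xb (t + u) = D.xb t * D.xb u) (vv : ∀ t u, D.xv (t + u) = D.xv t * D.xv u)
  (vA : ∀ t, D.xv t ∈ D.A) (P : Pre D.A D.xe D.xb D.xv χ)
include P

theorem Y_le : closure (Set.range χ) ≤ centralizer (D.A : Set G) :=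
  (closure_le _).2 (by rintro _ ⟨x, rfl⟩; exact P.χK x)

include ee bb vv vA

theorem unf {u : G} (hu : u ∈ D.U) :
    ∃ t1 t2 t3, ∃ z ∈ closure (Set.range χ), u = D.xe t1 * D.xb t2 * D.xv t3 * z := by
  have Y : ∀ x, χ x ∈ closure (Set.range χ) := fun x => subset_closure ⟨x, rfl⟩
  have eA := fun t => H65.AL.xeA (D := D) t
  have bA := fun t => H65.AL.xbA (D := D) t
  have ve : ∀ s t x, D.xv s * (D.xe t * x) = D.xe t * (D.xv s * (χ (s * t) ^ 2 * x)) :=
    fun s t x => by rw [← mul_assoc, P.ve]; simp only [mul_assoc]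
  have vb : ∀ s t x, D.xv s * (D.xb t * x) = D.xb t * (D.xv s * (χ (s ^ 2 * t ^ 2) ^ 2 * x)) :=
    fun s t x => by rw [← mul_assoc, P.vb]; simp only [mul_assoc]
  have be : ∀ t u x, D.xb t * (D.xe u * x) =
      D.xe u * (D.xv (t * u) * (χ (t * u ^ 2) * (D.xb t * x))) :=
    fun s t x => by rw [← mul_assoc, P.be]; simp only [mul_assoc]
  have step : ∀ x ∈ Set.range D.xe ∪ Set.range D.xb ∪ Set.range D.xv, ∀ y,
      (∃ t1 t2 t3, ∃ z ∈ closure (Set.range χ), y = D.xe t1 * D.xb t2 * D.xv t3 * z) →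
      ∃ t1 t2 t3, ∃ z ∈ closure (Set.range χ), x * y = D.xe t1 * D.xb t2 * D.xv t3 * z := by
    rintro _ ((⟨t, rfl⟩ | ⟨t, rfl⟩) | ⟨t, rfl⟩) _ ⟨t1, t2, t3, z, hz, rfl⟩
    · exact ⟨t + t1, t2, t3, z, hz, by rw [ee]; simp only [mul_assoc]⟩
    · refine ⟨t1, t + t2, t * t1 + t3, _, mul_mem (pow_mem (Y ((t * t1) ^ 2 * (t + t2) ^ 2)) 2)
        (mul_mem (Y (t * t1 ^ 2)) hz), ?_⟩
      rw [vv]
      simp only [mul_assoc, be]
      rw [← mul_assoc (D.xb t), ← bb]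
      simp only [lc (P.χK _) (bA _), lc (P.χK _) (vA _), vb, lc (pow_mem (P.χK _) 2) (vA _)]
    · refine ⟨t1, t2, t + t3, _, mul_mem (pow_mem (Y (t ^ 2 * t2 ^ 2)) 2)
        (mul_mem (pow_mem (Y (t * t1)) 2) hz), ?_⟩
      rw [vv]
      simp only [mul_assoc, ve, vb, lc (pow_mem (P.χK _) 2) (vA _), lc (pow_mem (P.χK _) 2) (bA _)]
  refine closure_induction_left (p := fun y _ => ∃ t1 t2 t3, ∃ z ∈ closure (Set.range χ),
    y = D.xe t1 * D.xb t2 * D.xv t3 * z) ⟨0, 0, 0, 1, one_mem _, ?_⟩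
    (fun x hx y _ ih => step x hx y ih) (fun x hx y _ ih => ?_) hu
  · rw [zero_of ee, zero_of bb, zero_of vv]; simp
  · have : x⁻¹ = x := by
      rcases hx with (⟨t, rfl⟩ | ⟨t, rfl⟩) | ⟨t, rfl⟩
      exacts [inv_of ee t, inv_of bb t, inv_of vv t]
    rw [this]; exact step x hx y ih

omit ee bb vv vA in
theorem χU (x : F4) : χ x ∈ D.U := by
  have := P.be x 1
  rw [one_pow, mul_one] at this
  have e : χ x = (D.xe 1 * D.xv x)⁻¹ * (D.xb x * D.xe 1) * (D.xb x)⁻¹ := by rw [this]; group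
  rw [e]
  exact mul_mem (mul_mem (inv_mem (mul_mem (H65.AL.xeU _) (H65.AL.xvU _)))
    (mul_mem (H65.AL.xbU _) (H65.AL.xeU _))) (inv_mem (H65.AL.xbU _))

omit ee bb vv vA in
theorem χst {g : G} {l m : F4} {fr : Bool} (s : D.St D g l m fr) (x : F4) :
    g * χ x * g⁻¹ = χ (m * l ^ 2 * pw fr x) := by
  have e := congrArg (fun y => g * y * g⁻¹) (P.be x 1)
  simp only [← conj_mul, s.e, s.b, s.v, one_pow, mul_one] at e
  rw [show pw fr 1 = 1 by cases fr <;> simp [pw], mul_one, P.be,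
    show m * pw fr x * l = l * m * pw fr x by ring,
    show m * pw fr x * l ^ 2 = m * l ^ 2 * pw fr x by ring] at e
  exact (mul_left_cancel (mul_right_cancel e)).symm

theorem χsw {g : G} {l m : F4} {fr : Bool} (s : D.St D.swap g l m fr) (x : F4) :
    g * χ x * g⁻¹ = (χ (l * m ^ 2 * pw fr x ^ 2))⁻¹ := by
  have eb : ∀ t u, D.xe t * D.xb u = D.xb u * D.xv (u * t) * (χ (u * t ^ 2))⁻¹ * D.xe t :=
    fun t u => by
      have := congrArg (·⁻¹) (P.be u t)
      simp only [mul_inv_rev, inv_of ee, inv_of bb, inv_of vv] at this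
      rw [this, lc (inv_mem (P.χK _)) (vA _)]
      simp only [mul_assoc]
  have e := congrArg (fun y => g * y * g⁻¹) (P.be x 1)
  simp only [← conj_mul, s.e, s.b, s.v, one_pow, mul_one] at e
  change D.xe _ * D.xb _ = D.xb _ * D.xv _ * _ * D.xe _ at e
  rw [show pw fr 1 = 1 by cases fr <;> simp [pw], mul_one, eb,
    show l * (m * pw fr x) = l * m * pw fr x by ring,
    show l * (m * pw fr x) ^ 2 = l * m ^ 2 * pw fr x ^ 2 by ring] at e
  exact (mul_left_cancel (mul_right_cancel e)).symm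

end D

theorem lf : LfStmt.{u} := by
  intro G H _ _ _ _ A B p c hB
  have h := hB.rel
  obtain ⟨R, hR, eR⟩ := (c.img _).1 (H65.AL.rhoA (D := B))
  have h3 : p R ^ 3 = 1 := eR ▸ h.r3
  obtain ⟨e, ce, pe, ee⟩ := exists_can c hR h3 B.xe H65.AL.xeA h.ee om (Or.inl rfl)
    (eR ▸ h.re) fun a ha b hb s t => commE c h ha hb
  obtain ⟨b, cb, pb, bb⟩ := exists_can c hR h3 B.xb H65.AL.xbA h.bb om (Or.inl rfl)
    (eR ▸ h.rb) fun a ha b hb s t => commB c h ha hb
  obtain ⟨v, cv, pv, vv⟩ := exists_can c hR h3 B.xv (H65.AL.xvA h) h.vv (om ^ 2) (Or.inr rfl)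
    (eR ▸ h.rv) fun a ha b hb s t => commV c h ha hb
  have eA := fun t => (ce t).mem
  have bA := fun t => (cb t).mem
  have vA := fun t => (cv t).mem
  have cc : ∀ g ∈ normalizer (A : Set G),
      (p g * B.rho * (p g)⁻¹ = B.rho ∨ p g * B.rho * (p g)⁻¹ = B.rho ^ 2) →
      ∀ y y', Can A R y → Can A R y' → p g * p y * (p g)⁻¹ = p y' → g * y * g⁻¹ = y' :=
    fun g hg k y y' hy hy' e => Can.uniq c hR (hy.conj c hR h3 hg (eR ▸ k)) hy'
      (by rw [c.cj hg (le_normalizer hy.mem), e])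
  have cr : ∀ g ∈ A, p g = B.rho → (∀ t, g * e t * g⁻¹ = e (om * t)) ∧
      (∀ t, g * b t * g⁻¹ = b (om * t)) ∧ ∀ t, g * v t * g⁻¹ = v (om ^ 2 * t) := fun g hg k =>
    have k' := cc g (le_normalizer hg) (Or.inl (by rw [k, mul_inv_cancel_right]))
    ⟨fun t => k' _ _ (ce _) (ce _) (by rw [k, pe, pe, cj (h.re t)]),
      fun t => k' _ _ (cb _) (cb _) (by rw [k, pb, pb, cj (h.rb t)]),
      fun t => k' _ _ (cv _) (cv _) (by rw [k, pv, pv, cj (h.rv t)])⟩
  choose f1 f1A f1K ve using fun s t => dfc c (mul_mem (eA t) (vA s)) (mul_mem (vA s) (eA t))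
    (by rw [pm c (eA _) (vA _), pm c (vA _) (eA _), pe, pv, h.ev])
  choose f2 f2A f2K vb using fun s t => dfc c (mul_mem (bA t) (vA s)) (mul_mem (vA s) (bA t))
    (by rw [pm c (bA _) (vA _), pm c (vA _) (bA _), pb, pv, h.bv])
  choose d dA dK be using fun t u => dfc c (mul_mem (mul_mem (eA u) (vA (t * u))) (bA t))
    (mul_mem (bA t) (eA u)) (by
      rw [pm c (mul_mem (eA _) (vA _)) (bA _), pm c (eA _) (vA _), pm c (bA _) (eA _), pe, pv, pb,
        h.be])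
  obtain ⟨re, rb, rv⟩ := cr R hR eR
  have P := pre hR eA bA vA ee bb vv re rb rv f1K f2K f1A f2A dA dK ve vb
    (fun t u => by rw [be, mul_assoc _ (d t u), rc (dK t u) (bA t), ← mul_assoc])
  generalize (fun x => d x 1) = χ at P
  obtain ⟨ne, neA, pne, ne2, ne3, he⟩ := weyl c eA (sq_of ee) pe H65.AL.neA h.ne2 (H65.AL.ne_eq h)
    (by have := hb3 hB; rwa [← h.heb] at this)
  obtain ⟨nb, nbA, pnb, nb2, nb3, hb⟩ := weyl c bA (sq_of bb) pb H65.AL.nbA h.nb2 (H65.AL.nb_eq h)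
    (hb3 hB)
  have cne := cc ne (le_normalizer neA) (Or.inr (by rw [pne, H65.AL.neinv h, h.ner]))
  have cnb := cc nb (le_normalizer nbA) (Or.inr (by rw [pnb, H65.AL.nbinv h, h.nbr]))
  obtain ⟨D, rfl, rfl, rfl, rfl, rfl⟩ : ∃ D : RD G, D.xe = e ∧ D.xb = b ∧ D.xv = v ∧ D.ne = ne ∧
    D.nb = nb := ⟨⟨e, b, v, ne, nb⟩, rfl, rfl, rfl, rfl, rfl⟩
  have DA : D.A ≤ A := H65.AL.A_le eA bA neA nbA
  have lift : ∀ {S : Subgroup G} {s : Set H}, S ≤ A → (∀ y ∈ s, ∃ x ∈ S, p x = y) →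
      ∀ y ∈ closure s, ∃ x ∈ S, p x = y := fun {S s} hS hs y hy => by
    induction hy using closure_induction with
    | mem y hy => exact hs y hy
    | one => exact ⟨1, one_mem _, c.one⟩
    | mul y y' _ _ k k' =>
      obtain ⟨x, hx, rfl⟩ := k
      obtain ⟨x', hx', rfl⟩ := k'
      exact ⟨_, mul_mem hx hx', pm c (hS hx) (hS hx')⟩
    | inv y _ k =>
      obtain ⟨x, hx, rfl⟩ := k
      exact ⟨_, inv_mem hx, pi c (hS hx)⟩
  have cmle : ∀ {S S' : Subgroup G}, S ≤ A → S' ≤ A → (∀ a ∈ S', ∃ x ∈ S, p x = p a) →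
      ⁅S', S'⁆ ≤ S := fun {S S'} hS hS' k => commutator_le.2 fun a ha a' ha' => by
    obtain ⟨x, hx, e1⟩ := k a ha
    obtain ⟨x', hx', e2⟩ := k a' ha'
    obtain ⟨z, zA, zK, rfl⟩ := dfc c (hS hx) (hS' ha) e1
    obtain ⟨z', zA', zK', rfl⟩ := dfc c (hS hx') (hS' ha') e2
    have : ⁅x * z, x' * z'⁆ = ⁅x, x'⁆ := by
      simp only [commutatorElement_def, mul_inv_rev, mul_assoc, lc zK (hS hx'), lc zK zA']
      rw [mul_inv_cancel_left, lc zK' (inv_mem (hS hx)), mul_inv_cancel_left]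
    rw [this, commutatorElement_def]
    exact mul_mem (mul_mem (mul_mem hx hx') (inv_mem hx)) (inv_mem hx')
  obtain rfl : D.A = A := by
    refine le_antisymm DA ?_
    rw [← perf c.std]
    refine cmle DA le_rfl fun a ha => lift DA ?_ _ (c.memB ha)
    rintro _ ((⟨t, rfl⟩ | ⟨t, rfl⟩) | rfl | rfl)
    exacts [⟨_, H65.AL.xeA t, pe t⟩, ⟨_, H65.AL.xbA t, pb t⟩, ⟨_, H65.AL.neA, pne⟩,
      ⟨_, H65.AL.nbA, pnb⟩]
  have ph : ∀ {x : F4 → G} {X : F4 → H} {n : G} {N : H}, (∀ t, x t ∈ D.A) → n ∈ D.A →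
      (∀ t, p (x t) = X t) → p n = N → p (x om * n * x (om ^ 2) * n * x om * n) =
        X om * N * X (om ^ 2) * N * X om * N := fun {x X n N} xA nA px pn => by
    rw [pm c (mul_mem (mul_mem (mul_mem (mul_mem (xA _) nA) (xA _)) nA) (xA _)) nA,
      pm c (mul_mem (mul_mem (mul_mem (xA _) nA) (xA _)) nA) (xA _),
      pm c (mul_mem (mul_mem (xA _) nA) (xA _)) nA, pm c (mul_mem (xA _) nA) (xA _),
      pm c (xA _) nA, px, px, pn]
  have heA : D.swap.hb ∈ D.A :=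
    mul_mem (mul_mem (mul_mem (mul_mem (mul_mem (eA _) neA) (eA _)) neA) (eA _)) neA
  have pr : p D.rho = B.rho := by
    rw [RD.rho, pm c H65.AL.hbA H65.AL.hbA, show p D.hb = B.hb from ph bA nbA pb pnb, RD.rho]
  have pr' : p D.swap.rho = B.rho := by
    rw [RD.rho, pm c heA heA, show p D.swap.hb = B.he from ph eA neA pe pne, h.heb, RD.rho]
  obtain ⟨re', rb', rv'⟩ := cr _ H65.AL.rhoA pr
  have UA : D.U ≤ D.A := (closure_le _).2 (by
    rintro _ ((⟨t, rfl⟩ | ⟨t, rfl⟩) | ⟨t, rfl⟩)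
    exacts [eA t, bA t, vA t])
  have nei := inv_eq_of_mul_eq_one_right ne2
  have nbi := inv_eq_of_mul_eq_one_right nb2
  have ce' : ∀ t, Can D.A R (D.ne * D.xe t * D.ne) := fun t => by
    have := (ce t).conj c hR h3 (le_normalizer neA)
      (Or.inr (by rw [eR, pne, H65.AL.neinv h, h.ner]))
    rwa [nei] at this
  have cb' : ∀ t, Can D.A R (D.nb * D.xb t * D.nb) := fun t => by
    have := (cb t).conj c hR h3 (le_normalizer nbA)
      (Or.inr (by rw [eR, pnb, H65.AL.nbinv h, h.nbr]))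
    rwa [nbi] at this
  have pe' : ∀ t, p (D.ne * D.xe t * D.ne) = B.ne * B.xe t * B.ne := fun t => by
    rw [pm c (mul_mem neA (eA t)) neA, pm c neA (eA t), pne, pe]
  have pb' : ∀ t, p (D.nb * D.xb t * D.nb) = B.nb * B.xb t * B.nb := fun t => by
    rw [pm c (mul_mem nbA (bA t)) nbA, pm c nbA (bA t), pnb, pb]
  refine ⟨D, χ, rfl, c, hB, pe, pb, pv, pne, pnb, ee, bb, vv, P.be, P.ve, P.vb, ne2, nb2,
    fun t => ?_, fun t => ?_, ne3, nb3, ?_, (hb _ rfl).1, (he _ rfl).1,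
    fun t => mul_inv_eq_iff_eq_mul.1 (re' t), fun t => mul_inv_eq_iff_eq_mul.1 (rb' t),
    fun t => mul_inv_eq_iff_eq_mul.1 (rv' t), (he _ rfl).2, (hb _ rfl).2, χU P, P.χK, P.χ0, P.χ4,
    P.χ3, P.χadd, fun u => unf ee bb vv vA P, fun z zA zK n hn => ?_, fun g hg l m fr s => ?_,
    fun g hg l m fr s => ?_, fun g l m fr => χst P, fun g l m fr => χsw ee bb vv vA P⟩
  · exact mul_inv_eq_iff_eq_mul.1 (cne _ _ (cb t) (cv t) (by rw [pne, pb, pv, cj (h.neb t)]))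
  · exact mul_inv_eq_iff_eq_mul.1 (cnb _ _ (ce t) (cv t) (by rw [pnb, pe, pv, cj (h.nbe t)]))
  · exact (c.eq_iff (le_normalizer (mul_mem heA heA)) (le_normalizer H65.AL.rhoA)).1
      (pr'.trans pr.symm)
  · let f : D.A →* H := c.hom.comp (inclusion le_normalizer)
    have fr : f.range = B.A := by
      ext y
      rw [c.img]
      exact ⟨fun ⟨x, e⟩ => ⟨x, x.2, e⟩, fun ⟨x, hx, e⟩ => ⟨⟨x, hx⟩, e⟩⟩
    let S : Subgroup G := (B.U.comap f).map D.A.subtype
    have SA : S ≤ D.A := map_subtype_le _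
    have hi : ¬ 2 ∣ S.relIndex D.A := by
      rw [relIndex, subgroupOf, comap_map_eq_self_of_injective (subtype_injective _), index_comap,
        fr]
      exact hB.par.syl.not_dvd
    have hz : z ∈ S := ⟨⟨z, zA⟩, show p z ∈ B.U from c.K zK ▸ one_mem _, rfl⟩
    have hU : z ∈ D.U := by
      refine cmle UA SA ?_ (tr' (perf c.std) SA hi hz zK hn)
      rintro _ ⟨x, hx, rfl⟩
      refine lift UA ?_ _ hx
      rintro _ ((⟨t, rfl⟩ | ⟨t, rfl⟩) | ⟨t, rfl⟩)
      exacts [⟨_, H65.AL.xeU t, pe t⟩, ⟨_, H65.AL.xbU t, pb t⟩, ⟨_, H65.AL.xvU t, pv t⟩]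
    obtain ⟨t1, t2, t3, y, hy, e⟩ := unf ee bb vv vA P hU
    have := c.K zK
    rw [e, c.mulK (le_normalizer (mul_mem (mul_mem (eA _) (bA _)) (vA _))) (Y_le P hy),
      pm c (mul_mem (eA _) (bA _)) (vA _), pm c (eA _) (bA _), pe, pb, pv] at this
    obtain ⟨rfl, rfl, rfl⟩ := h.nf _ _ _ this
    rwa [e, zero_of ee, zero_of bb, zero_of vv, one_mul, one_mul, one_mul]
  · have k := cc g hg (st_conj h c.faith (Or.inl s))
    exact ⟨s.l0, s.m0, fun t => k _ _ (ce _) (ce _) (by rw [pe, pe, s.e]),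
      fun t => k _ _ (cb _) (cb _) (by rw [pb, pb, s.b]),
      fun t => k _ _ (cv _) (cv _) (by rw [pv, pv, s.v]),
      fun t => k _ _ (ce' _) (ce' _) (by rw [pe', pe', s.e']),
      fun t => k _ _ (cb' _) (cb' _) (by rw [pb', pb', s.b'])⟩
  · have k := cc g hg (st_conj h c.faith (Or.inr s))
    exact ⟨s.l0, s.m0, fun t => k _ _ (ce _) (cb _) (by rw [pe, s.e]; exact (pb _).symm),
      fun t => k _ _ (cb _) (ce _) (by rw [pb, s.b]; exact (pe _).symm),
      fun t => k _ _ (cv _) (cv _) (by rw [pv, s.v]; exact (pv _).symm),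
      fun t => k _ _ (ce' _) (cb' _) (by rw [pe', s.e']; exact (pb' _).symm),
      fun t => k _ _ (cb' _) (ce' _) (by rw [pb', s.b']; exact (pe' _).symm)⟩

end Cfsg.Agent.H92.AC
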