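import Cfsg.Agent.H19.S93Kit

/-! The quotient by an odd subgroup centralising the cover. -/

set_option autoImplicit false
open scoped Pointwise commutatorElement
open Subgroup

namespace Cfsg.Agent.H92.S93Quo
open Cfsg.Agent.H46.S95 Cfsg.Agent.H19.S93Q

universe u

local notation "C[" A "]" => Subgroup.centralizer (SetLike.coe A)
local notation "N[" A "]" => Subgroup.normalizer (SetLike.coe A)

theorem br {G : Type*} [Group G] {a b z w : G} (h1 : Commute z b) (h2 : Commute z w)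
    (h3 : Commute w a) : ⁅a * z, b * w⁆ = ⁅a, b⁆ := by
  rw [commutatorElement_def, commutatorElement_def]
  calc a * z * (b * w) * (a * z)⁻¹ * (b * w)⁻¹
      = a * (z * (b * w)) * z⁻¹ * a⁻¹ * w⁻¹ * b⁻¹ := by group
    _ = a * b * (w * a⁻¹) * w⁻¹ * b⁻¹ := by rw [(h1.mul_right h2).eq]; group
    _ = _ := by rw [h3.inv_right.eq]; group

theorem quo : H19.S93Q.QuoStmt.{u} := by
  intro Γ Δ _ _ G _ _ p φ hv hi W WC odd hk
  have cW : ∀ a, ∀ w ∈ W, Commute w (φ a) := fun a w hw => (mem_C_range.1 (WC hw) a).symm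
  have mem : ∀ a, φ a ∈ N[W] := fun a => centralizer_le_normalizer _ fun w hw => (cW a w hw).eq
  let π := QuotientGroup.mk' (W.subgroupOf N[W])
  have ker : ∀ x, π x = 1 ↔ (x : G) ∈ W := fun x => QuotientGroup.eq_one_iff x
  let φ' : Δ →* N[W] := φ.codRestrict _ mem
  let ψ : Γ →* _ := p.liftOfSurjective hv.surj ⟨π.comp φ', fun a e => (ker _).2 (hk a e)⟩
  have hψ : ∀ a, ψ (p a) = π (φ' a) := fun a => p.liftOfRightInverse_comp_apply _ _ _ a
  have inj : Function.Injective ψ := (injective_iff_map_eq_one ψ).2 fun y e => by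
    obtain ⟨a, rfl⟩ := hv.surj y
    exact hv.of_C hi (WC ((ker _).1 ((hψ a).symm.trans e)))
  have rg : ∀ y, y ∈ ψ.range ↔ ∃ a, π (φ' a) = y := fun y =>
    ⟨fun ⟨c, e⟩ => by obtain ⟨a, rfl⟩ := hv.surj c; exact ⟨a, (hψ a).symm.trans e⟩,
      fun ⟨a, e⟩ => ⟨p a, (hψ a).trans e⟩⟩
  have norm : ∀ x : N[W], π x ∈ N[ψ.range] ↔ (x : G) ∈ N[φ.range] := fun x => by
    refine ⟨fun h => mem_normalizer_fintype ?_, fun h => mem_normalizer_fintype fun y hy => ?_⟩
    · have k : ∀ a, ∃ a' w, w ∈ W ∧ (∀ v ∈ W, Commute w v) ∧ x * φ a * (x : G)⁻¹ = φ a' * w := by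
        intro a
        obtain ⟨a', e⟩ := (rg _).1 ((mem_normalizer_iff.1 h _).1 ((rg _).2 ⟨a, rfl⟩))
        refine ⟨a', (φ a')⁻¹ * (x * φ a * (x : G)⁻¹), (ker ((φ' a')⁻¹ * (x * φ' a * x⁻¹))).1 (by
          rw [map_mul, map_inv, e, map_mul, map_mul, map_inv, inv_mul_cancel]), fun v hv' => ?_,
          by group⟩
        refine (cW a' v hv').symm.inv_left.mul_left ?_
        have := (cW a _ ((mem_normalizer_iff''.1 x.2 v).1 hv')).eq
        calc x * φ a * (x : G)⁻¹ * v = x * (φ a * ((x : G)⁻¹ * v * x)) * (x : G)⁻¹ := by group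
          _ = _ := by rw [← this]; group
      have : (⊤ : Subgroup Δ) ≤ φ.range.comap ((MulAut.conj (x : G)).toMonoidHom.comp φ) := by
        rw [← hv.perf, commutator_le]
        intro a _ b _
        obtain ⟨a', w, w1, w2, e⟩ := k a
        obtain ⟨b', v, v1, -, f⟩ := k b
        refine ⟨⁅a', b'⁆, ?_⟩
        rw [map_commutatorElement, map_commutatorElement]
        change _ = ⁅x * φ a * (x : G)⁻¹, x * φ b * (x : G)⁻¹⁆
        rw [e, f, br (cW b' w w1) (w2 v v1) (cW a' v v1)]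
      rintro _ ⟨a, rfl⟩
      exact this (mem_top a)
    · obtain ⟨a, rfl⟩ := (rg y).1 hy
      obtain ⟨b, e⟩ := (mem_normalizer_iff.1 h _).1 ⟨a, rfl⟩
      refine (rg _).2 ⟨b, ?_⟩
      rw [← map_inv, ← map_mul, ← map_mul]
      exact congrArg π (Subtype.ext e)
  refine ⟨_, inferInstance, inferInstance, π, ψ, hv, hi, WC, odd, QuotientGroup.mk'_surjective _,
    ker, mem, fun a x e => (congrArg π (Subtype.ext e)).trans (hψ a).symm, inj,
    fun x => ⟨fun h => ?_, fun h => mem_C_range.2 fun y => ?_⟩, norm⟩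
  · obtain ⟨α, hα⟩ := exists_aut hi ((norm x).1 (centralizer_le_normalizer _ h))
    refine hv.C_of hi hα fun a => inj ?_
    rw [hψ, show φ' (α a) = x * φ' a * x⁻¹ from Subtype.ext (hα a), map_mul, map_mul, map_inv,
      ← hψ, ← mem_C_range.1 h, mul_inv_cancel_right]
  · obtain ⟨a, rfl⟩ := hv.surj y
    rw [hψ, ← map_mul, ← map_mul]
    exact congrArg π (Subtype.ext (mem_C_range.1 h a))

end Cfsg.Agent.H92.S93Quo
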