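import Cfsg.Agent.H46.SKit

/-! Project S95, piece LINE. -/

set_option autoImplicit false
set_option linter.unusedSectionVars false

open scoped Pointwise commutatorElement
open Subgroup

namespace Cfsg.Agent.H92.S95

open Cfsg.Agent.H46.S95

universe u

section

variable {X : Type*} [Group X]

theorem pw2 {a : X} (h : a * a = 1) (i : ℕ) : a ^ i = 1 ∨ a ^ i = a := by
  induction i with
  | zero => exact Or.inl (pow_zero a)
  | succ i ih =>
    rw [pow_succ]
    rcases ih with e | e <;> rw [e]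
    exacts [Or.inr (one_mul a), Or.inl h]

theorem clo3 {a b c v : X} (ha : a * a = 1) (hb : b * b = 1) (hc : c * c = 1) (ab : Commute a b)
    (ac : Commute a c) (bc : Commute b c) (hv : v ∈ closure ({a, b, c} : Set X)) :
    ∃ i j k : ℕ, v = a ^ i * b ^ j * c ^ k := by
  have m : ∀ i j k i' j' k' : ℕ, a ^ i * b ^ j * c ^ k * (a ^ i' * b ^ j' * c ^ k') =
      a ^ (i + i') * b ^ (j + j') * c ^ (k + k') := fun i j k i' j' k' => by
    rw [pow_add, pow_add, pow_add]
    exact ((((ac.pow_pow i' k).mul_left (bc.pow_pow j' k)).symm.mul_mul_mul_comm _ _).trans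
      (by rw [(ab.pow_pow i' j).symm.mul_mul_mul_comm]))
  induction hv using closure_induction with
  | mem x hx =>
    rcases hx with rfl | rfl | rfl
    exacts [⟨1, 0, 0, by simp⟩, ⟨0, 1, 0, by simp⟩, ⟨0, 0, 1, by simp⟩]
  | one => exact ⟨0, 0, 0, by simp⟩
  | mul x y _ _ hx hy =>
    obtain ⟨i, j, k, rfl⟩ := hx
    obtain ⟨i', j', k', rfl⟩ := hy
    exact ⟨_, _, _, m ..⟩
  | inv x _ hx =>
    obtain ⟨i, j, k, rfl⟩ := hx
    refine ⟨i, j, k, inv_eq_of_mul_eq_one_right ?_⟩
    rw [m, ← two_mul, ← two_mul, ← two_mul, pow_mul, pow_mul, pow_mul, pow_two, pow_two, pow_two,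
      ha, hb, hc]
    simp

theorem clo2 {a b v : X} (ha : a * a = 1) (hb : b * b = 1) (ab : Commute a b)
    (hv : v ∈ closure ({a, b} : Set X)) : v = 1 ∨ v = a ∨ v = b ∨ v = a * b := by
  obtain ⟨i, j, k, rfl⟩ := clo3 ha hb (mul_one 1) ab (Commute.one_right a) (Commute.one_right b)
    (closure_mono (by rintro x (rfl | rfl) <;> simp) hv)
  rcases pw2 ha i with e | e <;> rcases pw2 hb j with e' | e' <;> simp [e, e']

theorem swp1 {a b w : X} (ha : a * a = 1) (hb : b * b = 1) (h : a * b * (a * b) = w) :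
    a * b = b * a * w := by
  rw [← h]
  calc _ = b * (a * a) * b * (a * b) := by rw [ha, mul_one, hb, one_mul]
    _ = _ := by simp only [mul_assoc]

theorem swp2 {a b w : X} (ha : a * a = 1) (hb : b * b = 1) (h : a * b * (a * b) = w)
    (hw : w * w = 1) : b * a = a * b * w := by
  rw [swp1 ha hb h, mul_assoc, hw, mul_one]

end

variable {Γ : Type} [Group Γ] {G : Type u} [Group G] {φ : Γ →* G} {t : G} {O : Subgroup G}
  {z : Γ} {f : Γ → G}

theorem fc (h : Lf φ t z f) {r l : Γ} (i : IsConj z r) (c : Commute l r) : Commute (φ l) (f r) := by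
  have := h.eq l r i
  rw [c.eq, mul_inv_cancel_right, eq_mul_inv_iff_mul_eq] at this
  exact this.symm

theorem finv (h : Lf φ t z f) {r : Γ} (i : IsConj z r) : (f r)⁻¹ = f r :=
  inv_eq_of_mul_eq_one_right (h.sq r i)

theorem ffx (h : Lf φ t z f) {r : Γ} (i : IsConj z r) (x : G) : f r * (f r * x) = x := by
  rw [← mul_assoc, h.sq r i, one_mul]

theorem ft (h : Lf φ t z f) {r : Γ} (i : IsConj z r) : f r * t = t * φ r * f r := by
  rw [← h.br r i, mul_assoc, h.sq r i, mul_one]

theorem tr_mul {x x' : G} {r r' : Γ} (h : x * t = t * φ r * x) (h' : x' * t = t * φ r' * x')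
    (c : Commute (φ r') x) : x * x' * t = t * φ (r * r') * (x * x') := by
  rw [mul_assoc, h', ← mul_assoc, ← mul_assoc, h, map_mul, mul_assoc _ x, ← c.eq]
  simp only [mul_assoc]

theorem decomp (h : Cx φ t O) {c : G} (hc : c * t = t * φ 1 * c) {K : Γ → Prop} {S : Subgroup Γ}
    (cen : ∀ α : MulAut Γ, (∀ l, K l → α l = l) → ∃ v ∈ S, α = MulAut.conj v)
    (hK : ∀ l, K l → Commute (φ l) c) : ∃ v ∈ S, ∃ o ∈ O, c = φ v * o ∨ c = φ v * t * o := by
  rw [map_one, mul_one] at hc
  obtain ⟨α, hα⟩ := h.aut hc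
  obtain ⟨v, hv, e⟩ := cen α fun l hl => h.inj (by rw [hα, ← (hK l hl).eq, mul_inv_cancel_right])
  exact ⟨v, hv, h.split' hc hα e⟩

theorem cj_t (hl : Lf φ t z f) (lo : LO O z f) {r v : Γ} (i : IsConj z r) (c : Commute v r) {o : G}
    (ho : o ∈ O) (h : Cx φ t O) :
    f r * (φ v * o) * f r = φ v * o ∧ f r * (φ v * t * o) * f r = φ v * t * o * φ r := by
  constructor
  · rw [mul_assoc, mul_assoc, ← lo r i o ho, ← mul_assoc (φ v), (fc hl i c).eq, mul_assoc,
      ffx hl i]
  · calc _ = (f r * φ v) * t * (o * f r) := by simp only [mul_assoc]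
      _ = φ v * (f r * t * f r) * o := by rw [← (fc hl i c).eq, ← lo r i o ho]; simp only [mul_assoc]
      _ = _ := by rw [hl.br r i, mul_assoc, mul_assoc, h.oA ho]; simp only [mul_assoc]

theorem cj_a (h : Cx φ t O) (a v : Γ) {o : G} (ho : o ∈ O) :
    φ a * (φ v * o) * (φ a)⁻¹ = φ (a * v * a⁻¹) * o ∧
      φ a * (φ v * t * o) * (φ a)⁻¹ = φ (a * v * a⁻¹) * t * o := by
  rw [← map_inv, map_mul, map_mul]
  constructor
  · rw [mul_assoc, mul_assoc, ← h.oA ho]; simp only [mul_assoc]
  · rw [mul_assoc, mul_assoc, ← h.oA ho, mul_assoc _ t, ← mul_assoc t, ← h.AC]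
    simp only [mul_assoc]

theorem nA (h : Cx φ t O) (a : Γ) (x : G) : t * (φ a * x) = φ a * (t * x) := by
  rw [← mul_assoc, ← h.AC, mul_assoc]

theorem nO (h : Cx φ t O) {o : G} (ho : o ∈ O) (a : Γ) (x : G) : o * (φ a * x) = φ a * (o * x) := by
  rw [← mul_assoc, ← h.oA ho, mul_assoc]

theorem nT (h : Cx φ t O) {o : G} (ho : o ∈ O) (x : G) : o * (t * x) = t * (o * x) := by
  rw [← mul_assoc, h.Ot o ho, mul_assoc]

theorem ttx (h : Cx φ t O) (x : G) : t * (t * x) = x := by rw [← mul_assoc, h.tt, one_mul]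

theorem nF (h : Lf φ t z f) {r : Γ} (i : IsConj z r) (x : G) :
    t * (f r * x) = f r * (φ r * (t * x)) := by
  rw [← mul_assoc (φ r), h.AC, ← h.br r i]
  simp only [mul_assoc, ffx h i]

theorem nL (lo : LO O z f) {r : Γ} (i : IsConj z r) {o : G} (ho : o ∈ O) (x : G) :
    o * (f r * x) = f r * (o * x) := by rw [← mul_assoc, ← lo r i o ho, mul_assoc]

theorem line : LineStmt.{u} := by
  intro Γ _ G _ _ φ t O z y s f hb lc h hl lo
  obtain ⟨σ, σz, σy⟩ := lc.sg
  obtain ⟨q, qz, qy, qs⟩ := lc.q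
  obtain ⟨ρ, ρz, ρy, ρs⟩ := lc.rho
  have zz := lc.zz
  have zy : Commute z y := lc.zy
  have ys : Commute y s := lc.ys
  have iz : IsConj z z := IsConj.refl z
  have iw : IsConj z (z * y) := isConj_iff.2 ⟨σ, σz⟩
  have iy : IsConj z y := iw.trans (isConj_iff.2 ⟨q, qy.trans zy.eq.symm⟩ : IsConj y (z * y)).symm
  have is : IsConj z s := iy.trans (isConj_iff.2 ⟨ρ, ρy⟩)
  have iu : IsConj z (y * s) := is.trans (isConj_iff.2 ⟨ρ, ρs⟩)
  have sq : ∀ r, IsConj z r → r * r = 1 := fun r i => by
    obtain ⟨c, rfl⟩ := isConj_iff.1 i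
    rw [conj_mul, zz, mul_one, mul_inv_cancel]
  have n1 : ∀ r, IsConj z r → r ≠ 1 := fun r i e => lc.z1 (isConj_one_left.1 (e ▸ i))
  have yy := sq y iy
  have ss := sq s is
  have zs : Commute z s := by
    have := congrArg (fun x => ρ * x * ρ⁻¹) zy.eq
    simp only [← conj_mul, ρz, ρy] at this
    exact this
  have zw : Commute z (z * y) := (Commute.refl z).mul_right zy
  have yw : Commute y (z * y) := zy.symm.mul_right (Commute.refl y)
  have zzx : ∀ x, z * (z * x) = x := fun x => by rw [← mul_assoc, zz, one_mul]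
  have yyx : ∀ x, y * (y * x) = x := fun x => by rw [← mul_assoc, yy, one_mul]
  -- the three-cycle `q σ` and the swap `q σ q⁻¹`
  have cz : q * σ * z * (q * σ)⁻¹ = y := by
    calc _ = q * (σ * z * σ⁻¹) * q⁻¹ := by group
      _ = _ := by rw [σz, ← conj_mul, qz, qy, ← zy.eq, zzx]
  have cy : q * σ * y * (q * σ)⁻¹ = z * y := by
    calc _ = q * (σ * y * σ⁻¹) * q⁻¹ := by group
      _ = _ := by rw [σy, qy, zy.eq]
  have cw : q * σ * (z * y) * (q * σ)⁻¹ = z := by rw [← conj_mul, cz, cy, zy.eq, yyx]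
  have ρu : ρ * (y * s) * ρ⁻¹ = y := by rw [← conj_mul, ρy, ρs, ys.eq, ← mul_assoc, ss, one_mul]
  have cj2 : ∀ a r r', IsConj z r → IsConj z r' →
      φ a * (f r * f r') * (φ a)⁻¹ = f (a * r * a⁻¹) * f (a * r' * a⁻¹) := fun a r r' i i' => by
    rw [hl.eq a r i, hl.eq a r' i', conj_mul]
  have cj3 : ∀ a r r' r'', IsConj z r → IsConj z r' → IsConj z r'' →
      φ a * (f r * f r' * f r'') * (φ a)⁻¹ =
        f (a * r * a⁻¹) * f (a * r' * a⁻¹) * f (a * r'' * a⁻¹) := fun a r r' r'' i i' i'' => by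
    rw [hl.eq a r i, hl.eq a r' i', hl.eq a r'' i'', conj_mul, conj_mul]
  have cv : ∀ v ∈ closure ({z, y} : Set Γ), v * v = 1 ∧ Commute v z ∧ Commute v y ∧ Commute v s := by
    intro v hv
    rcases clo2 zz yy zy hv with rfl | rfl | rfl | rfl
    · simp
    · exact ⟨zz, Commute.refl _, zy, zs⟩
    · exact ⟨yy, zy.symm, Commute.refl _, ys⟩
    · exact ⟨sq _ iw, zw.symm, yw.symm, zs.mul_left ys⟩
  have t2 := tr_mul (ft hl iz) (ft hl iy) (fc hl iz zy.symm)
  -- step 1
  obtain ⟨ε, hε, c1⟩ : ∃ ε : ℕ, (ε = 0 ∨ ε = 1) ∧ f z * f y * (f z * f y) = φ ((z * y) ^ ε) := by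
    have t4 := tr_mul t2 t2 ((fc hl iz zw.symm).mul_right (fc hl iy yw.symm))
    rw [sq _ iw] at t4
    obtain ⟨v, hv, o, ho, e⟩ := decomp h t4 (K := fun l => l * z = z * l ∧ l * y = y * l)
      (fun α hα => lc.cP α fun l a b => hα l ⟨a, b⟩) fun l hl' =>
        have := (fc hl iz hl'.1).mul_right (fc hl iy hl'.2)
        this.mul_right this
    obtain ⟨vv, vz, vy, -⟩ := cv v hv
    have inv : f z * (f z * f y * (f z * f y)) * f z * (f z * f y * (f z * f y)) = 1 := by
      simp only [mul_assoc, ffx hl iz, ffx hl iy, hl.sq y iy]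
    have e1 : f z * f y * (f z * f y) = φ v := by
      rcases e with e | e
      · rw [e, (cj_t hl lo iz vz ho h).1, mul_assoc, ← mul_assoc o, ← h.oA ho, ← mul_assoc,
          ← mul_assoc, ← map_mul, vv, map_one, one_mul] at inv
        rw [e, h.o_sq ho inv, mul_one]
      · rw [e, (cj_t hl lo iz vz ho h).2] at inv
        have : φ (v * z * v) * (o * o) = 1 := by
          rw [← inv, map_mul, map_mul]
          simp only [mul_assoc, nA h, nO h ho, nT h ho, ttx h]
        have := (h.o_of_mul hb (mul_mem ho ho) this).1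
        rw [vz.eq, mul_assoc, vv, mul_one] at this
        exact absurd this lc.z1
    have τz : q * σ * q⁻¹ * z * (q * σ * q⁻¹)⁻¹ = y := by
      rw [← cz]
      conv_lhs => rw [← qz]
      group
    have τy : q * σ * q⁻¹ * y * (q * σ * q⁻¹)⁻¹ = z := by
      have : q * (z * y) * q⁻¹ = y := by rw [← conj_mul, qz, qy, ← zy.eq, zzx]
      rw [← cw]
      conv_lhs => rw [← this]
      group
    have fx : q * σ * q⁻¹ * v * (q * σ * q⁻¹)⁻¹ = v := h.inj (by
      rw [map_mul, map_mul, map_inv, ← e1, ← conj_mul, cj2 _ _ _ iz iy, τz, τy]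
      refine inv_injective ?_
      rw [e1, ← map_inv, inv_eq_of_mul_eq_one_right vv, ← e1]
      simp only [mul_inv_rev, finv hl iz, finv hl iy])
    rcases clo2 zz yy zy hv with e | e | e | e
    · exact ⟨0, Or.inl rfl, by rw [e1, e, pow_zero]⟩
    · rw [e, τz] at fx; exact absurd fx lc.n1
    · rw [e, τy] at fx; exact absurd fx.symm lc.n1
    · exact ⟨1, Or.inr rfl, by rw [e1, e, pow_one]⟩
  have cjs : ∀ a r r' w, IsConj z r → IsConj z r' → f r * f r' * (f r * f r') = φ (w ^ ε) →
      f (a * r * a⁻¹) * f (a * r' * a⁻¹) * (f (a * r * a⁻¹) * f (a * r' * a⁻¹)) =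
        φ ((a * w * a⁻¹) ^ ε) := fun a r r' w i i' e => by
    rw [← cj2 a r r' i i', conj_mul, e, conj_pow, map_mul, map_mul, map_inv]
  have c2 := cjs (q * σ) _ _ _ iz iy c1
  rw [cz, cy, cw] at c2
  have c3 := cjs (q * σ) _ _ _ iy iw c2
  rw [cz, cy, cw] at c3
  have c4 := cjs ρ _ _ _ iz iy c1
  rw [← conj_mul (b := ρ), ρz, ρy] at c4
  have c5 := cjs ρ _ _ _ iz is c4
  rw [← conj_mul (b := ρ), ρz, ρs] at c5
  -- the two triple products
  have t3 := tr_mul t2 (ft hl iw) ((fc hl iz zw.symm).mul_right (fc hl iy yw.symm))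
  rw [sq _ iw] at t3
  obtain ⟨v0, hv0, o0, ho0, e0⟩ := decomp h t3 (K := fun l => l * z = z * l ∧ l * y = y * l)
    (fun α hα => lc.cP α fun l a b => hα l ⟨a, b⟩) fun l hl' =>
      ((fc hl iz hl'.1).mul_right (fc hl iy hl'.2)).mul_right
        (fc hl iw (Commute.mul_right hl'.1 hl'.2))
  obtain ⟨vv0, v0z, v0y, v0s⟩ := cv v0 hv0
  have yu : Commute y (y * s) := (Commute.refl y).mul_right ys
  have su : Commute s (y * s) := ys.symm.mul_right (Commute.refl s)
  have t5 := tr_mul (tr_mul (ft hl iy) (ft hl is) (fc hl iy ys.symm)) (ft hl iu)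
    ((fc hl iy yu.symm).mul_right (fc hl is su.symm))
  rw [sq _ iu] at t5
  obtain ⟨v, hv, o, ho, e⟩ := decomp h t5 (K := fun l => l * y = y * l ∧ l * s = s * l)
    (fun α hα => lc.cN α fun l a b => hα l ⟨a, b⟩) fun l hl' =>
      ((fc hl iy hl'.1).mul_right (fc hl is hl'.2)).mul_right
        (fc hl iu (Commute.mul_right hl'.1 hl'.2))
  obtain ⟨i, j, k, ev⟩ := clo3 yy ss zz ys zy.symm zs.symm hv
  have vz : Commute v z := ev ▸ ((zy.symm.pow_left i).mul_left (zs.symm.pow_left j)).mul_left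
    ((Commute.refl z).pow_left k)
  have vy : Commute v y := ev ▸ (((Commute.refl y).pow_left i).mul_left (ys.symm.pow_left j)).mul_left
    (zy.pow_left k)
  have vs : Commute v s := ev ▸ ((ys.pow_left i).mul_left ((Commute.refl s).pow_left j)).mul_left
    (zs.pow_left k)
  have Z := hl.sq z iz
  have d2 := cj3 (q * σ) _ _ _ iz iy iw
  rw [cz, cy, cw] at d2
  have d3 : f z * (f z * f y * f (z * y)) * f z = f y * f (z * y) * f z := by
    simp only [mul_assoc, ffx hl iz]
  rcases hε with rfl | rfl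
  · simp only [pow_zero, map_one] at c1 c2 c3 c4 c5
    have k1 : Commute (f z) (f y) := (swp1 Z (hl.sq y iy) c1).trans (mul_one _)
    have k2 : Commute (f y) (f (z * y)) := (swp1 (hl.sq y iy) (hl.sq _ iw) c2).trans (mul_one _)
    have k3 : Commute (f (z * y)) (f z) := (swp1 (hl.sq _ iw) Z c3).trans (mul_one _)
    have k4 : Commute (f z) (f s) := (swp1 Z (hl.sq s is) c4).trans (mul_one _)
    have k5 : Commute (f z) (f (y * s)) := (swp1 Z (hl.sq _ iu) c5).trans (mul_one _)
    have fix : ∀ {x : G}, Commute (f z) x → f z * x * f z = x := fun c => by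
      rw [c.eq, mul_assoc, Z, mul_one]
    have no : ∀ {w : Γ} {o : G}, Commute w z → o ∈ O → ¬ Commute (f z) (φ w * t * o) :=
      fun c ho k => by
        have := fix k
        rw [(cj_t hl lo iz c ho h).2, mul_eq_left] at this
        exact lc.z1 (h.inj (this.trans (map_one φ).symm))
    have k0 := ((Commute.refl (f z)).mul_right k1).mul_right k3.symm
    have e0 := e0.resolve_right fun e => no v0z ho0 (e ▸ k0)
    have e := e.resolve_right fun e => no vz ho (e ▸ (k1.mul_right k4).mul_right k5)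
    have o1 : o0 = 1 := h.o_sq ho0 (by
      have : f z * f y * f (z * y) * (f z * f y * f (z * y)) = 1 := by
        simp only [mul_assoc, k3.left_comm, k1.symm.left_comm, k2.symm.left_comm, ffx hl iz,
          ffx hl iy, hl.sq _ iw]
      rwa [e0, mul_assoc, nO h ho0, ← mul_assoc, ← map_mul, vv0, map_one, one_mul] at this)
    rw [o1, mul_one] at e0
    rw [← d3, fix k0, e0, ← map_inv, ← map_mul, ← map_mul] at d2
    have v1 : v0 = 1 := by
      have d2 := h.inj d2
      rcases clo2 zz yy zy hv0 with e | e | e | e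
      · exact e
      · rw [e, cz] at d2; exact absurd d2 lc.n1
      · rw [e, cy, mul_eq_right] at d2; exact absurd d2 lc.z1
      · rw [e, cw, eq_comm, mul_eq_left] at d2; exact absurd d2 (n1 y iy)
    have o2 : o = 1 := by
      have a1 : f y * f s = φ v * o * f (y * s) := by rw [← e, mul_assoc _ (f _), hl.sq _ iu, mul_one]
      have vv : φ v * φ v = 1 := by
        rw [← map_mul, ← map_one φ, ev]
        congr 1
        rcases pw2 yy i with e1 | e1 <;> rcases pw2 ss j with e2 | e2 <;>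
          rcases pw2 zz k with e3 | e3 <;>
          simp only [e1, e2, e3, mul_assoc, one_mul, mul_one, zy.left_comm, zs.left_comm,
            ys.symm.left_comm, yyx, yy, ss, zz, ← mul_assoc s s]
      have a2 : f y * f s * (f y * f s) = o * o := by
        rw [a1, mul_assoc, ← mul_assoc (f _), ← mul_assoc (f _), ← (fc hl iu (vy.mul_right vs)).eq,
          mul_assoc _ (f _), lo _ iu o ho]
        simp only [mul_assoc, hl.sq _ iu, mul_one, nO h ho]
        rw [← mul_assoc, vv, one_mul]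
      have a3 : f y * (f y * f s * (f y * f s)) * f y * (f y * f s * (f y * f s)) = 1 := by
        simp only [mul_assoc, ffx hl iy, ffx hl is, hl.sq s is]
      rw [a2] at a3
      simp only [mul_assoc, nL lo iy ho, ffx hl iy] at a3
      exact h.o_sq ho (h.o_sq (mul_mem ho ho) (by simpa only [mul_assoc] using a3))
    rw [o2, mul_one] at e
    have d4 := cj3 ρ _ _ _ iy is iu
    rw [ρy, ρs, ρu, e, ← map_inv, ← map_mul, ← map_mul] at d4
    have d5 : f s * f (y * s) * f y = φ v := by
      calc _ = f y * (f y * f s * f (y * s)) * f y := by simp only [mul_assoc, ffx hl iy]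
        _ = _ := by rw [e, ← (fc hl iy vy).eq, mul_assoc, hl.sq y iy, mul_one]
    have d6 := h.inj (d4.trans d5)
    rw [ev, ← conj_mul, ← conj_mul, ← conj_pow, ← conj_pow, ← conj_pow, ρy, ρs, ρz,
      mul_left_inj] at d6
    have v2 : v = 1 ∨ v = z := by
      have u2 := sq _ iu
      rcases pw2 yy i with e1 | e1 <;> rcases pw2 ss j with e2 | e2
      · rw [ev, e1, e2, one_mul, one_mul]; exact pw2 zz k
      all_goals exfalso
      · have a : s ^ i = 1 := by
          have := congrArg (fun x => ρ * x * ρ⁻¹) e1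
          simpa only [← conj_pow, ρy, mul_one, mul_inv_cancel] using this
        have b : (y * s) ^ j = y * s := by
          have := congrArg (fun x => ρ * x * ρ⁻¹) e2
          simpa only [← conj_pow, ρs] using this
        rw [a, b, e1, e2, one_mul, one_mul, mul_eq_right] at d6
        exact n1 y iy d6
      · have a : s ^ i = s := by
          have := congrArg (fun x => ρ * x * ρ⁻¹) e1
          simpa only [← conj_pow, ρy] using this
        have b : (y * s) ^ j = 1 := by
          have := congrArg (fun x => ρ * x * ρ⁻¹) e2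
          simpa only [← conj_pow, ρs, mul_one, mul_inv_cancel] using this
        rw [a, b, e1, e2, mul_one, mul_one] at d6
        exact lc.n2 (d6 ▸ ss)
      · have a : s ^ i = s := by
          have := congrArg (fun x => ρ * x * ρ⁻¹) e1
          simpa only [← conj_pow, ρy] using this
        have b : (y * s) ^ j = y * s := by
          have := congrArg (fun x => ρ * x * ρ⁻¹) e2
          simpa only [← conj_pow, ρs] using this
        rw [a, b, e1, e2, mul_eq_right] at d6
        exact n1 s is d6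
    refine ⟨?_, ?_, v2.imp (fun e' => by rw [e, e', map_one]) fun e' => by rw [e, e']⟩
    · rw [v1, map_one, mul_eq_one_iff_eq_inv, finv hl iw] at e0
      exact e0
    · have a1 : f y * f s = φ v * f (y * s) := by rw [← e, mul_assoc _ (f _), hl.sq _ iu, mul_one]
      refine (swp1 (hl.sq y iy) (hl.sq s is) ?_).trans (mul_one _)
      rw [a1, mul_assoc, ← (fc hl iu (vy.mul_right vs)).left_comm, hl.sq _ iu, mul_one, ← map_mul]
      rcases v2 with e' | e' <;> simp [e', zz]
  · exfalso
    simp only [pow_one] at c1 c2 c3 c4 c5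
    have k1 := swp2 Z (hl.sq y iy) c1 (by rw [← map_mul, sq _ iw, map_one])
    have k3 := swp1 (hl.sq _ iw) Z c3
    have k4 := swp1 Z (hl.sq s is) c4
    have d1 : f y * f (z * y) * f z = f z * f y * f (z * y) * φ z := by
      rw [mul_assoc, k3, ← mul_assoc, ← mul_assoc, k1, mul_assoc _ _ (f (z * y)),
        (fc hl iw (Commute.refl _)).eq]
      simp only [mul_assoc, ← map_mul, yy, mul_one]
    have e0 := e0.resolve_left fun e => by
      rw [d1, e, (cj_t hl lo iz v0z ho0 h).1, eq_comm, mul_eq_left] at d3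
      exact lc.z1 (h.inj (d3.trans (map_one φ).symm))
    rw [d1, e0, (cj_a h _ _ ho0).2, mul_assoc _ o0, ← h.oA ho0, ← mul_assoc, mul_assoc (φ v0),
      ← h.AC, ← mul_assoc, ← map_mul, mul_left_inj, mul_left_inj] at d2
    have d2 := h.inj d2
    have a1 : f (z * y) = f y * f z * (φ v0 * t * o0) := by
      rw [← e0]; simp only [mul_assoc, ffx hl iz, ffx hl iy]
    have a2 : f (z * s) = f s * f z * (φ (ρ * v0 * ρ⁻¹) * t * o0) := by
      have := hl.eq ρ _ iw
      rwa [a1, ← conj_mul (b := φ ρ), cj2 _ _ _ iy iz, (cj_a h _ _ ho0).2, ← conj_mul (b := ρ), ρz,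
        ρy] at this
    have d4 := cj3 q _ _ _ iy is iu
    rw [← conj_mul (b := q), qy, qs, mul_assoc y z, ← zs.eq, zzx, ← zy.eq, a1, a2] at d4
    have w1 : Commute (ρ * v0 * ρ⁻¹) (y * s) := by
      have := congrArg (fun x => ρ * x * ρ⁻¹) v0s.eq
      simp only [← conj_mul, ρs] at this
      exact this
    have d5 : f y * f z * (φ v0 * t * o0) * (f s * f z * (φ (ρ * v0 * ρ⁻¹) * t * o0)) * f (y * s) =
        f y * f s * f (y * s) * (φ (v0 * (ρ * v0 * ρ⁻¹)) * (o0 * o0)) := by
      generalize ρ * v0 * ρ⁻¹ = v1 at w1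
      have k5 : ∀ x, f z * (f s * x) = f s * (f z * (φ (z * s) * x)) := fun x => by
        rw [← mul_assoc, k4]; simp only [mul_assoc]
      have zu : Commute z (y * s) := zy.mul_right zs
      rw [mul_assoc _ (f (y * s)), ← mul_one (f (y * s))]
      simp only [mul_assoc, nL lo is ho0, nL lo iz ho0, nL lo iu ho0, nT h ho0, nO h ho0, nF hl is,
        nF hl iz, nF hl iu, nA h, ttx h, (fc hl is v0s).left_comm, (fc hl iz v0z).left_comm,
        (fc hl iz zs.symm).left_comm, k5, (fc hl iz ((Commute.refl z).mul_left zs.symm)).left_comm,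
        ffx hl iz, (fc hl iu w1).left_comm, (fc hl iu (v0y.mul_right v0s)).left_comm,
        (fc hl iu zu).left_comm, (fc hl iu su).left_comm, (fc hl iu (zu.mul_left su)).left_comm]
      have : z * s * v0 * s * z * v1 = v0 * v1 := by
        rw [mul_assoc z s, ← v0s.eq, mul_assoc z, mul_assoc v0, ss, mul_one, ← v0z.eq, mul_assoc v0, zz,
          mul_one]
      rw [← this]
      simp only [map_mul, mul_assoc, one_mul, mul_one]
    have qv : q * v * q⁻¹ = v * z ^ (i + j) := by
      rw [ev, ← conj_mul, ← conj_mul, ← conj_pow, ← conj_pow, ← conj_pow, qy, qs, qz,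
        zy.symm.mul_pow, zs.symm.mul_pow, (zs.pow_pow i j).mul_mul_mul_comm, ← pow_add,
        mul_assoc, mul_assoc (y ^ i * s ^ j), (Commute.pow_pow_self z _ _).eq]
    have d6 : z ^ (i + j) = v0 * (ρ * v0 * ρ⁻¹) := by
      rw [d5] at d4
      generalize v0 * (ρ * v0 * ρ⁻¹) = w at d4
      have : φ ((z ^ (i + j))⁻¹ * w) * (o0 * o0) = 1 := by
        rw [map_mul, map_inv, mul_assoc, inv_mul_eq_one]
        rcases e with e | e
        · rw [e, (cj_a h _ _ ho).1, qv, map_mul, mul_assoc, h.oA ho, mul_assoc, mul_right_inj,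
            mul_right_inj] at d4
          exact d4
        · rw [e, (cj_a h _ _ ho).2, qv, map_mul, mul_assoc (φ v), h.AC, ← mul_assoc, mul_assoc,
            h.oA ho, ← mul_assoc, mul_right_inj] at d4
          exact d4
      exact inv_mul_eq_one.1 (h.o_of_mul hb (mul_mem ho0 ho0) this).1
    have d7 : y * s ≠ z ^ (i + j) := fun e => by
      rcases pw2 zz (i + j) with e' | e'
      exacts [lc.n2 (e.trans e'), lc.n3 (e.trans e')]
    rcases clo2 zz yy zy hv0 with e | e | e | e
    · rw [e, mul_one, mul_inv_cancel, one_mul] at d2; exact lc.z1 d2.symm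
    · rw [e, cz, zz] at d2; exact n1 y iy d2
    · rw [e, ρy] at d6; exact d7 d6.symm
    · rw [e, ← conj_mul, ρz, ρy, zy.symm.mul_mul_mul_comm, zz, one_mul] at d6; exact d7 d6.symm

end Cfsg.Agent.H92.S95
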