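import Cfsg.Agent.H74.CksDefs
import Cfsg.Agent.H27.SympSimple
import Cfsg.Agent.S2141
import Cfsg.Agent.S2142

/-! Project CKS, piece SP3: counting transvections in `PSp_{2n}(2)` and `PSp_{2n}(3)`. -/

set_option autoImplicit false
set_option linter.unusedSectionVars false

namespace Cfsg.Agent.H92.CksSp

open Cfsg.Agent.H74.Cks Cfsg.Agent.H27 Matrix MulAction

theorem orbit_eq_of_coprime {G Ω : Type*} [Group G] [Finite G] [MulAction G Ω] (Z : Subgroup G) (c : Ω)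
    (h : Z.index.Coprime (orbit G c).ncard) : orbit Z c = orbit G c := by
  have h1 : (stabilizer G c ⊓ Z).index = Z.index * (stabilizer Z c).index := by
    rw [← Subgroup.relIndex_mul_index (inf_le_right : stabilizer G c ⊓ Z ≤ Z),
      Subgroup.inf_relIndex_right, mul_comm]
    rfl
  have h2 : (orbit G c).ncard ∣ Z.index * (stabilizer Z c).index := by
    rw [← h1, ← MulAction.index_stabilizer]
    exact Subgroup.index_dvd_of_le inf_le_left
  have h3 := h.symm.dvd_of_dvd_mul_left h2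
  rw [MulAction.index_stabilizer] at h3
  refine Set.eq_of_subset_of_ncard_le (fun _ ⟨z, hz⟩ => ⟨z, hz⟩) ?_ (Set.finite_range _)
  exact Nat.le_of_dvd ((Set.ncard_pos (Set.finite_range _)).2 ⟨c, mem_orbit_self c⟩) h3

theorem exists_conj_mem {G : Type*} [Group G] [Finite G] {p : ℕ} [Fact p.Prime] {H : Subgroup G}
    (h : ¬ p ∣ H.index) {x : G} (hx : x ^ p = 1) : ∃ g, g * x * g⁻¹ ∈ H := by
  have hP : IsPGroup p (Subgroup.zpowers x) := by
    rintro ⟨_, k, rfl⟩
    exact ⟨1, Subtype.ext (by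
      rw [pow_one, Subgroup.coe_pow, ← zpow_natCast, ← _root_.zpow_mul, mul_comm, _root_.zpow_mul,
        zpow_natCast, hx, _root_.one_zpow, Subgroup.coe_one])⟩
  obtain ⟨w, hw⟩ := hP.nonempty_fixed_point_of_prime_not_dvd_card (G ⧸ H) h
  obtain ⟨g, rfl⟩ := QuotientGroup.mk_surjective w
  have h2 : ((x * g : G) : G ⧸ H) = g := hw ⟨x, Subgroup.mem_zpowers x⟩
  exact ⟨g⁻¹, by simpa [mul_assoc] using QuotientGroup.eq.1 h2.symm⟩

variable {F : Type} [Field F] [Fintype F] {n : ℕ}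

/-- the image of a transvection -/
def tv (v : Fin n ⊕ Fin n → F) : PSp n F := (spTv v 1 : symplecticGroup (Fin n) F)

/-- the class of transvections -/
def D (n : ℕ) (F : Type) [Field F] : Set (PSp n F) := tv '' {v | v ≠ 0}

theorem mulVec_ne (g : symplecticGroup (Fin n) F) {v : Fin n ⊕ Fin n → F} (hv : v ≠ 0) :
    g.1 *ᵥ v ≠ 0 := fun h => hv ((spToLin (Fin n) F g).injective (by
      rw [spToLin_apply, map_zero]; exact h))

theorem tv_conj (g : symplecticGroup (Fin n) F) (v : Fin n ⊕ Fin n → F) :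
    (g : PSp n F) * tv v * (g : PSp n F)⁻¹ = tv (g.1 *ᵥ v) := by
  rw [tv, tv, ← spTv_conj]; rfl

theorem D_conj : ∀ d ∈ D n F, ∀ g, g * d * g⁻¹ ∈ D n F := by
  rintro _ ⟨v, hv, rfl⟩ g
  obtain ⟨g, rfl⟩ := QuotientGroup.mk_surjective g
  exact ⟨_, mulVec_ne g hv, (tv_conj g v).symm⟩

theorem D_not_mem (hF : ∀ c : F, c ≠ 0 → c = 1 ∨ c = -1) {H : Subgroup (PSp n F)} (hH : H ≠ ⊤)
    (hT : VecT H) : ∀ d ∈ D n F, d ∉ H := by
  rintro _ ⟨v, hv, rfl⟩ h
  have h1 : ∀ w, tv w ∈ H := fun w => by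
    by_cases hw : w = 0
    · rw [hw, tv, spTv_zero_vec]; exact one_mem H
    obtain ⟨g, hg, rfl⟩ := hT v w hv hw
    rw [← tv_conj]
    exact mul_mem (mul_mem hg h) (inv_mem hg)
  have h2 := sp_eq_top_of_spTv_mem (H.comap (QuotientGroup.mk' _)) fun w c => by
    by_cases hc : c = 0
    · rw [hc, spTv_zero]; exact one_mem _
    rcases hF c hc with rfl | rfl
    · exact h1 w
    · rw [← spTv_inv]; exact inv_mem (h1 w)
  refine hH (eq_top_iff.2 fun g _ => ?_)
  obtain ⟨g, rfl⟩ := QuotientGroup.mk_surjective g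
  exact (h2.ge (Subgroup.mem_top g) :)

theorem ncard_ne : {v : Fin n ⊕ Fin n → F | v ≠ 0}.ncard + 1 = Fintype.card F ^ (2 * n) := by
  have h : {v : Fin n ⊕ Fin n → F | v ≠ 0} = {0}ᶜ := rfl
  have := Set.ncard_add_ncard_compl ({0} : Set (Fin n ⊕ Fin n → F))
  rw [Set.ncard_singleton, Nat.card_eq_fintype_card, Fintype.card_fun, Fintype.card_sum,
    Fintype.card_fin, ← two_mul] at this
  rw [h]; omega

theorem vecT_of_coprime {H : Subgroup (PSp n F)}
    (h : H.index.Coprime {v : Fin n ⊕ Fin n → F | v ≠ 0}.ncard) : VecT H := fun v w hv hw => by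
  have e : orbit (symplecticGroup (Fin n) F) v = {v | v ≠ 0} := by
    ext x
    refine ⟨fun ⟨g, hg⟩ => hg ▸ mulVec_ne g hv, fun hx => ?_⟩
    obtain ⟨g, -, hg⟩ := sp_exists_mulVec_eq ⊤ (fun _ _ => trivial) hv hx
    exact ⟨g, hg⟩
  have h2 := orbit_eq_of_coprime (H.comap (QuotientGroup.mk' _)) v (by
    rw [e, H.index_comap_of_surjective (QuotientGroup.mk'_surjective _)]; exact h)
  obtain ⟨g, hg⟩ := (h2.trans e).ge hw
  exact ⟨g.1, g.2, hg⟩

theorem D_pos (hn : 0 < n) : 0 < (D n F).ncard :=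
  (Set.ncard_pos (Set.toFinite _)).2 ⟨_, Pi.single (Sum.inl ⟨0, hn⟩) 1, by simp, rfl⟩

theorem two_mul_D (h2 : (2 : F) ≠ 0) :
    2 * (D n F).ncard ≤ {v : Fin n ⊕ Fin n → F | v ≠ 0}.ncard := by
  classical
  have h := Finset.mul_card_image_le_card (f := tv)
    (Finset.univ.filter fun v : Fin n ⊕ Fin n → F => v ≠ 0) 2 fun b hb => by
      obtain ⟨v, hv, rfl⟩ := Finset.mem_image.1 hb
      have hv0 : v ≠ 0 := (Finset.mem_filter.1 hv).2
      refine Finset.one_lt_card.2 ⟨v, by simp [hv0], -v, ?_, fun e => hv0 ?_⟩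
      · have : tv (-v) = tv v := by
          rw [tv, tv, ← neg_one_smul F v, spTv_smul]; simp
        simp [hv0, this]
      · have : (2 : F) • v = 0 := by rw [two_smul]; nth_rw 2 [e]; exact add_neg_cancel v
        exact (smul_eq_zero.1 this).resolve_left h2
  rw [← Set.ncard_coe_finset, ← Set.ncard_coe_finset, Finset.coe_image] at h
  simpa [D] using h

theorem units_three (hF : Fintype.card F = 3) : (2 : F) ≠ 0 ∧ ∀ c : F, c ≠ 0 → c = 1 ∨ c = -1 :=
  ⟨fun h => by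
    have := two_eq_zero_iff_even_card.1 h
    rw [hF] at this
    exact absurd this (by decide), fun c hc => by
    have := FiniteField.pow_card_sub_one_eq_one c hc
    rw [hF] at this
    exact mul_self_eq_one_iff.1 ((sq c).symm.trans this)⟩

/-- **SP3** -/
theorem sp3 (cnt : CntStmt) : Sp3Stmt := fun F _ _ hF n hn H h2 _ ⟨c, hc⟩ => by
  obtain ⟨u2, uu⟩ := units_three hF
  have hH : H ≠ ⊤ := h2.max.1
  have k1 := ncard_ne (F := F) (n := n)
  have k2 := two_mul_D (n := n) u2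
  have k3 := (S2141.result hF n (by omega) le_rfl (by omega)).1 H hH
  have k4 : 3 ∣ 3 ^ (2 * n) := dvd_pow_self 3 (by omega)
  have k5 : Odd (3 ^ (2 * n)) := Odd.pow (by decide)
  have k6 : 3 ^ 2 ≤ 3 ^ (2 * n) := Nat.pow_le_pow_right (by omega) (by omega)
  rw [hF] at k1
  have hT : VecT H := vecT_of_coprime (by
    rw [hc]
    exact Nat.Coprime.pow_left _ ((Nat.Prime.coprime_iff_not_dvd Nat.prime_three).2 (by omega)))
  have k7 := Nat.le_of_dvd (D_pos (by omega)) (cnt H h2 (D n F) D_conj (D_not_mem uu hH hT)).1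
  have k8 : 3 ∣ H.index := by
    rw [hc]
    refine dvd_pow_self 3 fun e => ?_
    rw [hc, e] at k3
    omega
  obtain ⟨m, hm⟩ := k5
  omega

theorem tv_inj (hn : 0 < n) (h1 : ∀ c : F, c ≠ 0 → c = 1) : Function.Injective (tv (F := F) (n := n)) := by
  intro v w h
  have : Nonempty (Fin n) := ⟨⟨0, hn⟩⟩
  have e : (-1 : F) = 1 := h1 _ (by simp)
  have h2 : spTv v (1 : F) = spTv w 1 := by
    have h3 := mem_center_sp_iff'.1 (QuotientGroup.eq.1 h)
    rw [← neg_one_smul F (1 : Matrix _ _ F), e, one_smul, or_self] at h3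
    exact inv_mul_eq_one.1 (Subtype.ext h3)
  obtain ⟨a, ha⟩ := Submodule.mem_span_singleton.1 (mem_span_of_spTv_eq one_ne_zero h2)
  obtain ⟨b, hb⟩ := Submodule.mem_span_singleton.1 (mem_span_of_spTv_eq one_ne_zero h2.symm)
  by_cases h0 : a = 0
  · rw [h0, zero_smul] at ha
    rw [← hb, ← ha, smul_zero]
  · rw [← ha, h1 a h0, one_smul]

theorem cube (h2 : (2 : F) = 0) {v w : Fin n ⊕ Fin n → F} (h : jBilin (Fin n) F v w = 1) :
    ((tv v)⁻¹ * tv w) ^ 3 = 1 := by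
  have e : (-1 : F) = 1 := by linear_combination -h2
  have i : ∀ u : Fin n ⊕ Fin n → F, (tv u)⁻¹ = tv u := fun u => by
    rw [tv, ← QuotientGroup.mk_inv, spTv_inv, e]
  have h' : jBilin (Fin n) F w v = 1 := by rw [← jBilin_isAlt.neg_eq, h, e]
  have a : tv v * tv w * (tv v)⁻¹ = tv (w + v) := by
    rw [show tv v = (spTv v 1 : symplecticGroup (Fin n) F) from rfl, tv_conj, spTv_mulVec, h']; simp
  have b : tv w * tv v * (tv w)⁻¹ = tv (w + v) := by
    rw [show tv w = (spTv w 1 : symplecticGroup (Fin n) F) from rfl, tv_conj, spTv_mulVec, h, add_comm]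
    simp
  calc _ = ((tv v)⁻¹ * tv w * (tv v)⁻¹) * (tv w * (tv v)⁻¹ * tv w) := by
        simp only [pow_succ, pow_zero, one_mul, mul_assoc]
    _ = (tv v * tv w * (tv v)⁻¹) * (tv w * tv v * (tv w)⁻¹) := by simp only [i]
    _ = 1 := by rw [a, b]; nth_rw 1 [← i]; exact inv_mul_cancel _

/-- **SP2B** -/
theorem sp2b (cnt : CntStmt) : Sp2bStmt := fun F _ _ hF n hn H h2 hT => by
  have h1 : ∀ c : F, c ≠ 0 → c = 1 := fun c hc => by
    simpa [hF] using FiniteField.pow_card_sub_one_eq_one c hc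
  have u2 : (2 : F) = 0 := two_eq_zero_iff_even_card.2 (by rw [hF]; decide)
  have hH : H ≠ ⊤ := h2.max.1
  have inj := tv_inj (n := n) (by omega) h1
  have k1 := ncard_ne (F := F) (n := n)
  rw [← Set.ncard_image_of_injective _ inj, hF] at k1
  change (D n F).ncard + 1 = _ at k1
  have k3 := (S2142.result hF n hn).1 H hH
  obtain ⟨⟨k, hk⟩, k4⟩ := cnt H h2 (D n F) D_conj (D_not_mem (fun c hc => .inl (h1 c hc)) hH hT)
  obtain ⟨m, rfl⟩ : ∃ m, n = m + 3 := ⟨n - 3, by omega⟩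
  have e1 : 2 ^ (2 * (m + 3)) = 64 * (2 ^ m * 2 ^ m) := by ring
  have e2 : 2 ^ (m + 3 - 1) * (2 ^ (m + 3) - 1) + 4 * 2 ^ m = 32 * (2 ^ m * 2 ^ m) := by
    have : 1 ≤ 2 ^ (m + 3) := Nat.one_le_two_pow
    rw [show m + 3 - 1 = m + 2 from rfl]
    zify [this]
    ring
  have e3 : 2 ^ m ≤ 2 ^ m * 2 ^ m := Nat.le_mul_self _
  have e4 : 1 ≤ 2 ^ m := Nat.one_le_two_pow
  have e5 : k = 1 := by
    rcases k with _ | _ | _ | k
    · omega
    · rfl
    · omega
    · have : (H.index - 1) * 3 ≤ (H.index - 1) * (k + 1 + 1 + 1) := Nat.mul_le_mul_left _ (by omega)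
      omega
  rw [e5, mul_one] at hk
  have hN : ¬ 3 ∣ H.index := fun h => by
    have : H.index = 2 ^ (2 * (m + 3)) := by omega
    rw [this] at h
    exact absurd (Nat.prime_three.dvd_of_dvd_pow h) (by decide)
  have : Fact (Nat.Prime 3) := ⟨Nat.prime_three⟩
  have hb : jBilin (Fin (m + 3)) F (Pi.single (Sum.inr 0) 1) (Pi.single (Sum.inl 0) 1) = 1 := by
    rw [jBilin_single_inr_left]; simp
  obtain ⟨g, hg⟩ := exists_conj_mem hN (cube u2 hb)
  refine k4 hk _ ⟨_, by simp, rfl⟩ _ ⟨_, by simp, rfl⟩ (fun e => ?_) g hg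
  simpa using congrFun (inj e) (Sum.inl 0)

end Cfsg.Agent.H92.CksSp
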