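import Cfsg.Agent.H78.G40A
import Cfsg.Agent.H8.L40Aut

/-! Project L40G, piece SD: the second copy of `L`. -/

set_option autoImplicit false
set_option linter.unusedSectionVars false

noncomputable section

namespace Cfsg.Agent.H92.G40Sd

open Subgroup Cfsg.Agent.H83 Cfsg.Agent.H46.L40 Cfsg.Agent.H78.G40
open Cfsg.Agent.H46.S94 (Cx)

universe u

variable {G : Type u} [Group G]

/-- the twisted conjugate of `φ` -/
def tw (φ : S3 →* G) (g : G) (θ : S3 ≃* S3) : S3 →* G :=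
  (MulAut.conj g).toMonoidHom.comp (φ.comp θ.toMonoidHom)

theorem tw_apply (φ : S3 →* G) (g : G) (θ : S3 ≃* S3) (x : S3) :
    tw φ g θ x = g * φ (θ x) * g⁻¹ := rfl

theorem mem_tw (φ : S3 →* G) (g : G) (θ : S3 ≃* S3) (y : G) :
    y ∈ (tw φ g θ).range ↔ g⁻¹ * y * g ∈ φ.range := by
  constructor
  · rintro ⟨x, rfl⟩
    exact ⟨θ x, by rw [tw_apply]; group⟩
  · rintro ⟨x, hx⟩
    refine ⟨θ.symm x, ?_⟩
    rw [tw_apply, MulEquiv.apply_symm_apply, hx]; group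

theorem comm_conj {g c t : G} (h : c * (g * t * g⁻¹) = g * t * g⁻¹ * c) :
    g⁻¹ * c * g * t = t * (g⁻¹ * c * g) := by
  calc g⁻¹ * c * g * t = g⁻¹ * (c * (g * t * g⁻¹)) * g := by group
    _ = g⁻¹ * (g * t * g⁻¹ * c) * g := by rw [h]
    _ = t * (g⁻¹ * c * g) := by group

theorem conj_comm {g c t : G} (h : g⁻¹ * c * g * t = t * (g⁻¹ * c * g)) :
    c * (g * t * g⁻¹) = g * t * g⁻¹ * c := by
  calc c * (g * t * g⁻¹) = g * (g⁻¹ * c * g * t) * g⁻¹ := by group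
    _ = g * (t * (g⁻¹ * c * g)) * g⁻¹ := by rw [h]
    _ = g * t * g⁻¹ * c := by group

theorem inv_nrm {O : Subgroup G} {g o : G} (hg : g ∈ normalizer (O : Set G)) (ho : o ∈ O) :
    g⁻¹ * o * g ∈ O := by
  have := (mem_normalizer_iff.1 (inv_mem hg) o).1 ho
  simpa using this

theorem nrm_of {O : Subgroup G} {g o : G} (hg : g ∈ normalizer (O : Set G)) (ho : g⁻¹ * o * g ∈ O) :
    o ∈ O := by
  have := (mem_normalizer_iff.1 hg _).1 ho
  have e : g * (g⁻¹ * o * g) * g⁻¹ = o := by group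
  rwa [e] at this

theorem cx_tw {φ : S3 →* G} {t : G} {O : Subgroup G} (h : Cx φ t O) {g : G}
    (hg : g ∈ normalizer (O : Set G)) (θ : S3 ≃* S3) : Cx (tw φ g θ) (g * t * g⁻¹) O where
  inj := by
    intro x y hxy
    rw [tw_apply, tw_apply] at hxy
    exact θ.injective (h.inj (mul_left_cancel (mul_right_cancel hxy)))
  tt := by
    calc g * t * g⁻¹ * (g * t * g⁻¹) = g * (t * t) * g⁻¹ := by group
      _ = 1 := by rw [h.tt]; group
  t1 := by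
    intro e
    apply h.t1
    calc t = g⁻¹ * (g * t * g⁻¹) * g := by group
      _ = 1 := by rw [e]; group
  AC := by
    intro a
    rw [tw_apply]
    calc g * φ (θ a) * g⁻¹ * (g * t * g⁻¹) = g * (φ (θ a) * t) * g⁻¹ := by group
      _ = g * (t * φ (θ a)) * g⁻¹ := by rw [h.AC]
      _ = g * t * g⁻¹ * (g * φ (θ a) * g⁻¹) := by group
  NJ := by
    intro c hc
    have h1 := h.NJ _ (comm_conj hc)
    rw [mem_normalizer_iff] at h1 ⊢
    intro y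
    rw [mem_tw, mem_tw, h1]
    have e : g⁻¹ * c * g * (g⁻¹ * y * g) * (g⁻¹ * c * g)⁻¹ = g⁻¹ * (c * y * c⁻¹) * g := by group
    rw [e]
  tr := by
    intro c hc hC
    have h1 : g⁻¹ * c * g ∈ centralizer (φ.range : Set G) := by
      rw [mem_centralizer_iff]
      intro y hy
      have hy' : g * y * g⁻¹ ∈ (tw φ g θ).range := by
        rw [mem_tw]
        have e : g⁻¹ * (g * y * g⁻¹) * g = y := by group
        rw [e]; exact hy
      exact (comm_conj ((mem_centralizer_iff.1 hC) _ hy').symm).symm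
    rcases h.tr _ (comm_conj hc) h1 with h2 | h2
    · exact Or.inl (nrm_of hg h2)
    · refine Or.inr (nrm_of hg ?_)
      have e : g⁻¹ * (c * (g * t * g⁻¹)) * g = g⁻¹ * c * g * t := by group
      rw [e]; exact h2
  odd := h.odd
  OC := by
    intro o ho
    rw [mem_centralizer_iff]
    rintro y ⟨x, rfl⟩
    rw [tw_apply]
    have := (mem_centralizer_iff.1 (h.OC (inv_nrm hg ho))) (φ (θ x)) ⟨_, rfl⟩
    exact (conj_comm this.symm).symm
  Ot := by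
    intro o ho
    exact conj_comm (h.Ot _ (inv_nrm hg ho))
  NO := by
    intro c hc
    have h1 := h.NO _ (comm_conj hc)
    have e : c = g * (g⁻¹ * c * g) * g⁻¹ := by group
    rw [e]
    exact mul_mem (mul_mem hg h1) (inv_mem hg)

theorem chkB : w0 * a0 * w0⁻¹ = a0 * z0 ∧ w0 * n23 * w0 = n23 * w0 * n23 ∧ w0 * w0 = z0 ∧
    a0 * a0 = 1 ∧ w0 * z0 = z0 * w0 ∧ r0 * z0 * r0⁻¹ = a0 ∧ r0⁻¹ * z0 * r0 = a0 * z0 ∧
    r0 * a0 * r0⁻¹ = a0 * z0 ∧ z0 * z0 = 1 ∧ a0 * z0 * a0 = z0 ∧ tr z0 = z0 ∧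
    r0 * (a0 * z0) * r0⁻¹ = z0 := by
  decide +kernel

/-- assembly from the conjugating element `g` and the twist `θ` -/
theorem core (K : Kit) (nk : NkS.{u}) (ac : ActS.{u}) [Finite G] (b : Bt G) (g : G) (θ : S3 ≃* S3)
    (gO : g ∈ normalizer (b.O : Set G)) (gt : g * b.t * g⁻¹ = b.t * b.φ a0)
    (e23 : tw b.φ g θ x23 = b.φ x23) (e32 : tw b.φ g θ x32 = b.φ x32) (ez : tw b.φ g θ z0 = b.φ z0)
    (gs : b.γ * tw b.φ g θ w0 = tw b.φ g θ w0 * b.γ) : ∃ d : Dat G, d.X = b.X := by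
  obtain ⟨-, -, -, -, hn, hnn, -⟩ := chkA
  obtain ⟨wa, br, ww, aa, wz, -⟩ := chkB
  have cx2 : Cx (tw b.φ g θ) (b.t * b.φ a0) b.O := gt ▸ cx_tw b.cx gO θ
  have X2 : ∀ m, tw b.φ g θ m ∈ b.X := fun m => b.Xn.conj_mem _ (b.LX _) g
  generalize tw b.φ g θ = ψ at e23 e32 ez gs cx2 X2
  have en : ψ n23 = b.φ n23 := by rw [hn]; simp only [map_mul, map_inv, e23, e32]
  have ea : ψ a0 = b.φ a0 := by rw [← hnn, map_mul, map_mul, en]
  have ss : ψ w0 * ψ w0 = b.φ z0 := by rw [← map_mul, ww, ez]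
  have sa : ψ w0 * b.φ a0 * (ψ w0)⁻¹ = b.φ (a0 * z0) := by
    rw [← ea, ← map_inv, ← map_mul, ← map_mul, wa, map_mul, map_mul, ea, ez]
  have a2 : b.φ a0 * b.φ a0 = 1 := by rw [← map_mul, aa, map_one]
  have st : ψ w0 * b.t * (ψ w0)⁻¹ = b.t * b.φ z0 := by
    calc ψ w0 * b.t * (ψ w0)⁻¹ = ψ w0 * b.t * (b.φ a0 * b.φ a0) * (ψ w0)⁻¹ := by rw [a2, mul_one]
      _ = ψ w0 * (b.t * b.φ a0) * b.φ a0 * (ψ w0)⁻¹ := by group
      _ = b.t * b.φ a0 * (ψ w0 * b.φ a0 * (ψ w0)⁻¹) := by rw [cx2.AC]; group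
      _ = b.t * (b.φ a0 * b.φ a0) * b.φ z0 := by rw [sa, map_mul]; group
      _ = b.t * b.φ z0 := by rw [a2, mul_one]
  have sz : ψ w0 * b.φ z0 = b.φ z0 * ψ w0 := by rw [← ss, mul_assoc]
  obtain ⟨c, hc, c12, c21⟩ := (ac G b.φ b.inj _ (nk K G b.φ b.t b.O b.cx _ st sz).2).1 sa
  have wa' : b.φ w0 * b.φ a0 * (b.φ w0)⁻¹ = b.φ a0 * b.φ z0 := by
    rw [← map_inv, ← map_mul, ← map_mul, wa, map_mul]
  have wt : b.φ w0 * (b.t * b.φ a0) * (b.φ w0)⁻¹ = b.t * b.φ a0 * ψ z0 := by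
    rw [ez, ← mul_assoc, ← b.tL, mul_assoc b.t, mul_assoc b.t, wa', mul_assoc]
  have wz' : b.φ w0 * ψ z0 = ψ z0 * b.φ w0 := by rw [ez, ← map_mul, wz, map_mul]
  have wa2 : b.φ w0 * ψ a0 * (b.φ w0)⁻¹ = ψ (a0 * z0) := by rw [map_mul, ea, ez, wa']
  obtain ⟨c2, hc2, d12, d21⟩ := (ac G ψ cx2.inj _ (nk K G ψ _ b.O cx2 _ wt wz').2).1 wa2
  refine ⟨{ b.toFr with
    O := b.O, γ := b.γ, φ2 := ψ, act := c, act2 := c2, cx := b.cx, gam := b.gam, nz := b.nz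
    inj2 := cx2.inj, e23 := e23, e32 := e32, ez := ez
    ta := fun m => (cx2.AC m).symm
    cO := fun o ho m => ((mem_centralizer_iff.1 (cx2.OC ho)) (ψ m) ⟨m, rfl⟩).symm
    X2 := X2, ha := hc, ha2 := hc2
    rl := ⟨b.cx.tt, b.tL, ss, st, sa, c12, c21, ?_⟩
    n12 := d12, n21 := d21, gs := gs }, rfl⟩
  rw [← en, ← map_mul, ← map_mul, br, map_mul, map_mul]

theorem sd : SdS.{u} := by
  intro K nk ac G _ _ b
  obtain ⟨r12, r21, -, -, hn, hnn, -, -, -, -, trr, trw, -, nz, n23', n32'⟩ := chkA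
  obtain ⟨-, -, -, -, -, rz, rz', ra, zz, aza, trz, raz⟩ := chkB
  obtain ⟨bO, bK⟩ := nk K G b.φ b.t b.O b.cx b.β b.βt b.βz
  obtain ⟨b12, b21⟩ := (ac G b.φ b.inj _ bK).2 b.βw b.βq
  -- the action of `g = r β r⁻¹`
  have act : ∀ x y : S3, b.β * b.φ x * b.β⁻¹ = b.φ y →
      b.φ r0 * b.β * (b.φ r0)⁻¹ * b.φ (r0 * x * r0⁻¹) * (b.φ r0 * b.β * (b.φ r0)⁻¹)⁻¹ =
        b.φ (r0 * y * r0⁻¹) := by
    intro x y h
    simp only [map_mul, map_inv, ← h]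
    group
  have rO : b.φ r0 ∈ normalizer (b.O : Set G) := b.cx.NO _ (b.cx.AC r0)
  have gO : b.φ r0 * b.β * (b.φ r0)⁻¹ ∈ normalizer (b.O : Set G) :=
    mul_mem (mul_mem rO bO) (inv_mem rO)
  have gt : b.φ r0 * b.β * (b.φ r0)⁻¹ * b.t * (b.φ r0 * b.β * (b.φ r0)⁻¹)⁻¹ = b.t * b.φ a0 := by
    have h1 : (b.φ r0)⁻¹ * b.t * b.φ r0 = b.t := by rw [mul_assoc, b.tL]; group
    calc b.φ r0 * b.β * (b.φ r0)⁻¹ * b.t * (b.φ r0 * b.β * (b.φ r0)⁻¹)⁻¹
        = b.φ r0 * (b.β * ((b.φ r0)⁻¹ * b.t * b.φ r0) * b.β⁻¹) * (b.φ r0)⁻¹ := by group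
      _ = b.φ r0 * b.t * b.φ z0 * (b.φ r0)⁻¹ := by rw [h1, b.βt]; group
      _ = b.t * b.φ a0 := by rw [← b.tL, ← rz, map_mul, map_mul, map_inv]; group
  have g23 := act x12 x12 (by rw [b12]; group)
  have g32 := act x21 x21 (by rw [b21]; group)
  rw [r12] at g23
  rw [r21] at g32
  have hz : b.β * b.φ z0 * b.β⁻¹ = b.φ z0 := by rw [b.βz]; group
  rcases b.βa with h | ⟨h1, h⟩
  · have gz := act (a0 * z0) (a0 * z0) (by
      rw [map_mul, ← mul_assoc, h, mul_assoc, mul_assoc, ← mul_assoc b.β, hz])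
    rw [raz] at gz
    refine core K nk ac b _ (MulEquiv.refl S3) gO gt g23 g32 gz ?_
    rcases b.gam.act with h1 | h1
    · rw [h1, one_mul, mul_one]
    · have c1 : Commute b.γ (b.φ r0) := by
        have := h1 r0
        rw [trr] at this
        exact mul_inv_eq_iff_eq_mul.1 this
      have c2 : Commute b.γ (b.φ w0) := by
        have := h1 w0
        rw [trw] at this
        exact mul_inv_eq_iff_eq_mul.1 this
      have c3 : Commute b.γ (b.φ r0 * b.β * (b.φ r0)⁻¹) :=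
        (c1.mul_right b.γβ).mul_right c1.inv_right
      exact (c3.mul_right c2).mul_right c3.inv_right
  · have gz := act (a0 * z0) a0 (by
      calc b.β * b.φ (a0 * z0) * b.β⁻¹ = b.β * b.φ a0 * b.β⁻¹ * (b.β * b.φ z0 * b.β⁻¹) := by
            rw [map_mul]; group
        _ = b.φ a0 := by rw [h, hz, ← map_mul, mul_assoc, zz, mul_one])
    have ga := act z0 z0 hz
    rw [raz, ra] at gz
    rw [rz] at ga
    refine core K nk ac b _ (Cfsg.Agent.H8.L40Aut.trE.trans (MulAut.conj n23)) gO gt ?_ ?_ ?_ ?_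
    · rw [tw_apply, MulEquiv.trans_apply, Cfsg.Agent.H8.L40Aut.trE_apply, MulAut.conj_apply, n23', g23]
    · rw [tw_apply, MulEquiv.trans_apply, Cfsg.Agent.H8.L40Aut.trE_apply, MulAut.conj_apply, n32', g32]
    · rw [tw_apply, MulEquiv.trans_apply, Cfsg.Agent.H8.L40Aut.trE_apply, MulAut.conj_apply, trz, nz]
      generalize b.φ r0 * b.β * (b.φ r0)⁻¹ = g at gz ga ⊢
      calc g * b.φ (z0 * a0) * g⁻¹ = g * b.φ z0 * g⁻¹ * (g * b.φ a0 * g⁻¹) := by rw [map_mul]; group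
        _ = b.φ z0 := by rw [gz, ga, ← map_mul, aza]
    · rw [h1, one_mul, mul_one]

end Cfsg.Agent.H92.G40Sd
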