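import Cfsg.Agent.H42.ACKit
import Cfsg.Agent.H65.AlPar

/-! Project AC: canonical lifts of root elements to a central extension of `L₃(4)`. -/

set_option autoImplicit false
set_option linter.unusedSectionVars false

namespace Cfsg.Agent.H92.AC

open Cfsg Subgroup Cfsg.Agent.H28 Cfsg.Agent.H42.AL Cfsg.Agent.H42.AC
open Cfsg.Agent.H42.AS (om)
open Cfsg.Agent.H44.AP (aa cases4 cj zero_of sq_of inv_of)
open scoped commutatorElement

universe u

variable {G H : Type u} [Group G] [Group H] {A : Subgroup G}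

/-- Central elements of a perfect group and subgroups of odd index. -/
theorem tr' [Finite G] {S : Subgroup G} (hA : ⁅A, A⁆ = A) (hS : S ≤ A) (hi : ¬ 2 ∣ S.relIndex A)
    {z : G} (hz : z ∈ S) (hc : z ∈ centralizer (A : Set G)) {n : ℕ} (hn : z ^ 2 ^ n = 1) :
    z ∈ ⁅S, S⁆ := by
  let P := S.subgroupOf A
  let z' : A := ⟨z, hS hz⟩
  have key : ∀ (k : ℕ) (g₀ : A), g₀⁻¹ * z' ^ k * g₀ ∈ P → g₀⁻¹ * z' ^ k * g₀ = z' ^ k :=
    fun k g₀ _ => Subtype.ext (by
      change (g₀ : G)⁻¹ * z ^ k * g₀ = z ^ k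
      rw [mul_assoc, ← K_comm (pow_mem hc k) g₀.2, inv_mul_cancel_left])
  have h1 := MonoidHom.transfer_eq_pow (Abelianization.of (G := P)) z' key
  have h2 : z' ∈ commutator A := by
    have : z ∈ (commutator A).map A.subtype := by
      rw [map_subtype_commutator, hA]; exact hS hz
    obtain ⟨y, hy, e⟩ := this
    rwa [show z' = y from Subtype.ext e.symm]
  have h3 := Abelianization.commutator_subset_ker (MonoidHom.transfer
    (Abelianization.of (G := P))) h2
  rw [MonoidHom.mem_ker, h1, ← MonoidHom.mem_ker, Abelianization.ker_of] at h3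
  have h4 : z ^ P.index ∈ ⁅S, S⁆ := by
    have := mem_map_of_mem (A.subtype.comp P.subtype) h3
    rw [commutator_def, map_commutator] at this
    have hle : (⊤ : Subgroup P).map (A.subtype.comp P.subtype) ≤ S := by
      rintro _ ⟨x, -, rfl⟩; exact x.2
    exact commutator_mono hle hle this
  have hco : (P.index).Coprime (orderOf z) := Nat.Coprime.coprime_dvd_right
    (orderOf_dvd_of_pow_eq_one hn) (Nat.Coprime.pow_right n
      ((Nat.Prime.coprime_iff_not_dvd Nat.prime_two).2 hi).symm)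
  obtain ⟨m, hm⟩ := exists_pow_eq_self_of_coprime hco
  exact hm ▸ pow_mem h4 m

theorem lc {z a : G} (hz : z ∈ centralizer (A : Set G)) (ha : a ∈ A) (x : G) :
    z * (a * x) = a * (z * x) := by rw [← mul_assoc, ← K_comm hz ha, mul_assoc]

theorem rc {z a : G} (hz : z ∈ centralizer (A : Set G)) (ha : a ∈ A) : z * a = a * z :=
  (K_comm hz ha).symm

theorem cm {a y : G} (ha : a ∈ A) (hy : y ∈ A) : a * y * a⁻¹ ∈ A :=
  mul_mem (mul_mem ha hy) (inv_mem ha)

/-- Canonical lifts. -/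
structure Can (A : Subgroup G) (R y : G) : Prop where
  mem : y ∈ A
  sq : y * y = 1
  tr : y * (R * y * R⁻¹) * (R * (R * y * R⁻¹) * R⁻¹) = 1

section cov

variable {B : Subgroup H} {p : G → H} (c : Cov A B p)
include c

theorem pm {a b : G} (ha : a ∈ A) (hb : b ∈ A) : p (a * b) = p a * p b :=
  c.mul _ (le_normalizer ha) _ (le_normalizer hb)

theorem pi {a : G} (ha : a ∈ A) : p a⁻¹ = (p a)⁻¹ := c.inv (le_normalizer ha)

theorem kerA {a : G} (ha : a ∈ A) (e : p a = 1) : a ∈ centralizer (A : Set G) :=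
  (c.ker a (le_normalizer ha)).1 e

theorem dfc {a b : G} (ha : a ∈ A) (hb : b ∈ A) (e : p a = p b) :
    ∃ z ∈ A, z ∈ centralizer (A : Set G) ∧ b = a * z :=
  ⟨_, mul_mem (inv_mem ha) hb, (c.eq_iff (le_normalizer ha) (le_normalizer hb)).1 e, by group⟩

/-- Elements with the same image act in the same way. -/
theorem same {g g' a : G} (hg : g ∈ normalizer (A : Set G)) (hg' : g' ∈ normalizer (A : Set G))
    (e : p g = p g') (ha : a ∈ A) : g * a * g⁻¹ = g' * a * g'⁻¹ := by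
  have := K_comm ((c.eq_iff hg hg').1 e) ha
  calc g * a * g⁻¹ = g * (a * (g⁻¹ * g')) * g'⁻¹ := by group
    _ = _ := by rw [this]; group

variable {R : G} (hR : R ∈ A) (h3 : p R ^ 3 = 1)
include hR h3

theorem R3 {a : G} (ha : a ∈ A) : R * (R * (R * a * R⁻¹) * R⁻¹) * R⁻¹ = a := by
  have := K_comm (kerA c (pow_mem hR 3) (by rw [c.pow (le_normalizer hR), h3])) ha
  calc _ = R ^ 3 * a * (R ^ 3)⁻¹ := by simp only [pow_succ, pow_zero, one_mul]; group
    _ = a := by rw [← this]; group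

omit h3 in
theorem Can.uniq {y y' : G} (h : Can A R y) (h' : Can A R y') (e : p y = p y') : y = y' := by
  have hz := (c.eq_iff (le_normalizer h.mem) (le_normalizer h'.mem)).1 e
  obtain ⟨z, rfl⟩ : ∃ z, y' = y * z := ⟨y⁻¹ * y', by group⟩
  rw [inv_mul_cancel_left] at hz
  have k1 := K_comm hz h.mem
  have k2 := K_comm hz hR
  have m1 : R * y * R⁻¹ ∈ A := mul_mem (mul_mem hR h.mem) (inv_mem hR)
  have m2 : R * (R * y * R⁻¹) * R⁻¹ ∈ A := mul_mem (mul_mem hR m1) (inv_mem hR)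
  have e1 : ∀ a : G, R * (a * z) * R⁻¹ = R * a * R⁻¹ * z := fun a => by
    rw [mul_assoc (R * a), K_comm hz (inv_mem hR)]; group
  have z2 : z * z = 1 := by
    have := h'.sq
    rwa [mul_assoc, ← mul_assoc z, ← k1, ← mul_assoc, ← mul_assoc, h.sq, one_mul] at this
  have z3 : z * z * z = 1 := by
    have := h'.tr
    rw [e1, e1] at this
    have ht := h.tr
    generalize R * (R * y * R⁻¹) * R⁻¹ = y2 at *
    generalize R * y * R⁻¹ = y1 at *
    simp only [mul_assoc, lc hz m1, lc hz m2] at this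
    calc z * z * z = y * y1 * y2 * (z * z * z) := by rw [ht, one_mul]
      _ = 1 := by simpa only [mul_assoc] using this
  rw [z2, one_mul] at z3
  rw [z3, mul_one]

theorem Can.conj {y g : G} (h : Can A R y) (hg : g ∈ normalizer (A : Set G))
    (e : p g * p R * (p g)⁻¹ = p R ∨ p g * p R * (p g)⁻¹ = p R ^ 2) : Can A R (g * y * g⁻¹) := by
  have hm := conj_A hg h.mem
  have hsq : g * y * g⁻¹ * (g * y * g⁻¹) = 1 := by
    calc _ = g * (y * y) * g⁻¹ := by group
      _ = 1 := by rw [h.sq]; group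
  have hR' : g * R * g⁻¹ ∈ A := conj_A hg hR
  have ht : g * y * g⁻¹ * (g * R * g⁻¹ * (g * y * g⁻¹) * (g * R * g⁻¹)⁻¹) *
      (g * R * g⁻¹ * (g * R * g⁻¹ * (g * y * g⁻¹) * (g * R * g⁻¹)⁻¹) * (g * R * g⁻¹)⁻¹) = 1 := by
    calc _ = g * (y * (R * y * R⁻¹) * (R * (R * y * R⁻¹) * R⁻¹)) * g⁻¹ := by group
      _ = 1 := by rw [h.tr]; group
  refine ⟨hm, hsq, ?_⟩
  generalize g * y * g⁻¹ = y' at *
  rcases e with e | e
  · have e' : p (g * R * g⁻¹) = p R := by rw [c.cj hg (le_normalizer hR), e]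
    have k := fun a (ha : a ∈ A) => same c (le_normalizer hR') (le_normalizer hR) e' ha
    rwa [k _ hm, k _ (cm hR hm)] at ht
  · have e' : p (g * R * g⁻¹) = p (R * R) := by
      rw [c.cj hg (le_normalizer hR), e, pm c hR hR, pow_two]
    have k := fun a (ha : a ∈ A) => same c (le_normalizer hR') (le_normalizer (mul_mem hR hR)) e' ha
    rw [k _ hm, k _ (cm (mul_mem hR hR) hm)] at ht
    have e1 : R * R * y' * (R * R)⁻¹ = R * (R * y' * R⁻¹) * R⁻¹ := by group
    have e2 : R * R * (R * R * y' * (R * R)⁻¹) * (R * R)⁻¹ = R * y' * R⁻¹ := by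
      rw [← R3 c hR h3 (cm hR hm)]; group
    rw [e2, e1] at ht
    have i0 : y'⁻¹ = y' := inv_eq_of_mul_eq_one_right hsq
    have := congrArg (fun x => y' * x⁻¹ * y'⁻¹) ht
    simp only [mul_inv_rev, inv_inv, i0, inv_one, mul_one, hsq] at this
    rw [← this]
    calc _ = y' * (R * y' * R⁻¹) * (R * (R * y' * R⁻¹) * R⁻¹) * (y' * y') := by rw [hsq, mul_one]
      _ = _ := by group

omit c hR h3 in
theorem Can.mul {y y' : G} (h : Can A R y) (h' : Can A R y') (k0 : y * y' = y' * y)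
    (k1 : y' * (R * y * R⁻¹) = R * y * R⁻¹ * y')
    (k2 : y' * (R * (R * y * R⁻¹) * R⁻¹) = R * (R * y * R⁻¹) * R⁻¹ * y') : Can A R (y * y') := by
  refine ⟨mul_mem h.mem h'.mem, ?_, ?_⟩
  · calc y * y' * (y * y') = y * (y' * y) * y' := by group
      _ = (y * y) * (y' * y') := by rw [← k0]; group
      _ = 1 := by rw [h.sq, h'.sq, one_mul]
  · have k3 : R * y' * R⁻¹ * (R * (R * y * R⁻¹) * R⁻¹) =
        R * (R * y * R⁻¹) * R⁻¹ * (R * y' * R⁻¹) := by
      calc _ = R * (y' * (R * y * R⁻¹)) * R⁻¹ := by group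
        _ = _ := by rw [k1]; group
    have e1 : ∀ a b : G, R * (a * b) * R⁻¹ = R * a * R⁻¹ * (R * b * R⁻¹) := fun a b => by group
    have t := h.tr
    have t' := h'.tr
    rw [e1, e1]
    generalize R * (R * y * R⁻¹) * R⁻¹ = y2 at *
    generalize R * (R * y' * R⁻¹) * R⁻¹ = y2' at *
    generalize R * y * R⁻¹ = y1 at *
    generalize R * y' * R⁻¹ = y1' at *
    calc _ = y * (y' * y1) * (y1' * y2) * y2' := by group
      _ = y * y1 * (y' * y2) * y1' * y2' := by rw [k1, k3]; group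
      _ = (y * y1 * y2) * (y' * y1' * y2') := by rw [k2]; group
      _ = 1 := by rw [t, t', one_mul]

/-- The canonical lifts of a root subgroup. -/
theorem exists_can (X : F4 → H) (hX : ∀ t, X t ∈ B) (add : ∀ t u, X (t + u) = X t * X u)
    (κ : F4) (hκ : κ = om ∨ κ = om ^ 2) (hr : ∀ t, p R * X t = X (κ * t) * p R)
    (hc : ∀ a ∈ A, ∀ b ∈ A, ∀ s t, p a = X s → p b = X t → a * b = b * a) :
    ∃ x : F4 → G, (∀ t, Can A R (x t)) ∧ (∀ t, p (x t) = X t) ∧
      ∀ t u, x (t + u) = x t * x u := by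
  have hp : ∀ a ∈ A, ∀ s, p a = X s → p (R * a * R⁻¹) = X (κ * s) := fun a ha s e => by
    rw [c.cj (le_normalizer hR) (le_normalizer ha), e, cj (hr s)]
  have ex : ∀ t, ∃ y, Can A R y ∧ p y = X t := fun t => by
    obtain ⟨x, hx, e⟩ := (c.img _).1 (hX (κ * t))
    have k := hc _ hx _ (cm hR hx) _ _ e (hp _ hx _ e)
    have z : x * x ∈ centralizer (A : Set G) :=
      kerA c (mul_mem hx hx) (by rw [pm c hx hx, e, sq_of add])
    refine ⟨x⁻¹ * (R * x * R⁻¹), ⟨mul_mem (inv_mem hx) (cm hR hx), ?_, ?_⟩, ?_⟩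
    · calc _ = x⁻¹ * x⁻¹ * (x * (R * x * R⁻¹)) * x⁻¹ * (R * x * R⁻¹) := by group
        _ = x⁻¹ * x⁻¹ * (R * (x * x) * R⁻¹) := by rw [k]; group
        _ = 1 := by rw [K_comm z hR]; group
    · calc _ = x⁻¹ * (R * (R * (R * x * R⁻¹) * R⁻¹) * R⁻¹) := by group
        _ = 1 := by rw [R3 c hR h3 hx, inv_mul_cancel]
    · rw [pm c (inv_mem hx) (cm hR hx), pi c hx, e, hp _ hx _ e, inv_of add, ← add]
      congr 1
      have k4 : ∀ κ t : F4, κ = om ∨ κ = om ^ 2 → κ * t + κ * (κ * t) = t := by decide +kernel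
      exact k4 κ t hκ
  choose x hx px using ex
  refine ⟨x, hx, px, fun t u => Can.uniq c hR (hx _) ?_ ?_⟩
  · have m := (hx t).mem
    have m' := (hx u).mem
    exact (hx t).mul (hx u) (hc _ m _ m' _ _ (px t) (px u))
      (hc _ m' _ (cm hR m) _ _ (px u) (hp _ m _ (px t)))
      (hc _ m' _ (cm hR (cm hR m)) _ _ (px u) (hp _ (cm hR m) _ (hp _ m _ (px t))))
  · rw [pm c (hx t).mem (hx u).mem, px, px, px, add]

end cov

section fam

variable {B : RD H} {p : G → H} (c : Cov A B.A p) (h : B.Rel)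
include c h

theorem commV {a b : G} (ha : a ∈ A) (hb : b ∈ A) {s t : F4} (ea : p a = B.xv s)
    (eb : p b = B.xv t) : a * b = b * a := by
  obtain ⟨β, hβ, eβ⟩ := (c.img _).1 (H65.AL.xbA (D := B) t)
  obtain ⟨ε, hε, eε⟩ := (c.img _).1 (H65.AL.xeA (D := B) 1)
  have key : ∀ y ∈ A, p y ∈ B.U → ∃ z ∈ A, z ∈ centralizer (A : Set G) ∧ a * y * a⁻¹ = y * z :=
    fun y hy hU => dfc c hy (cm ha hy) (by
      rw [c.cj (le_normalizer ha) (le_normalizer hy), ea, ← H65.AL.Uv h hU,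
        mul_inv_cancel_right])
  obtain ⟨z1, m1, hz1, e1⟩ := key β hβ (eβ ▸ H65.AL.xbU t)
  obtain ⟨z2, m2, hz2, e2⟩ := key ε hε (eε ▸ H65.AL.xeU 1)
  obtain ⟨z, m, hz, e⟩ := dfc c (mul_mem (mul_mem hε hb) hβ) (mul_mem hβ hε) (by
      rw [pm c (mul_mem hε hb) hβ, pm c hε hb, pm c hβ hε, eβ, eε, eb, h.be, mul_one])
  have e3 : a * β * a⁻¹ * (a * ε * a⁻¹) =
      a * ε * a⁻¹ * (a * b * a⁻¹) * (a * β * a⁻¹) * z := by
    calc _ = a * (β * ε) * a⁻¹ := by group
      _ = a * (ε * b * β) * (z * a⁻¹) := by rw [e]; group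
      _ = _ := by rw [rc hz (inv_mem ha)]; group
  have hb' := cm ha hb
  rw [e1, e2] at e3
  rw [← mul_inv_eq_iff_eq_mul]
  generalize a * b * a⁻¹ = b' at *
  simp only [mul_assoc, lc hz1 hε, lc hz2 hb', lc hz2 hβ] at e3
  rw [← mul_assoc, e, lc hz2 m1, rc hz2 m, lc hz1 m] at e3
  simp only [mul_assoc, mul_right_inj, mul_left_inj] at e3
  exact e3.symm

theorem commE {a b : G} (ha : a ∈ A) (hb : b ∈ A) {s t : F4} (ea : p a = B.xe s)
    (eb : p b = B.xe t) : a * b = b * a := by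
  obtain ⟨n, hn, en⟩ := (c.img _).1 (H65.AL.nbA (D := B))
  have k : ∀ x ∈ A, ∀ s, p x = B.xe s → p (n * x * n⁻¹) = B.xv s := fun x hx s e => by
    rw [c.cj (le_normalizer hn) (le_normalizer hx), e, en, cj (h.nbe s)]
  have := commV c h (cm hn ha) (cm hn hb) (k a ha s ea) (k b hb t eb)
  calc a * b = n⁻¹ * (n * a * n⁻¹ * (n * b * n⁻¹)) * n := by group
    _ = b * a := by rw [this]; group

theorem commB {a b : G} (ha : a ∈ A) (hb : b ∈ A) {s t : F4} (ea : p a = B.xb s)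
    (eb : p b = B.xb t) : a * b = b * a := by
  obtain ⟨n, hn, en⟩ := (c.img _).1 (H65.AL.neA (D := B))
  have k : ∀ x ∈ A, ∀ s, p x = B.xb s → p (n * x * n⁻¹) = B.xv s := fun x hx s e => by
    rw [c.cj (le_normalizer hn) (le_normalizer hx), e, en, cj (h.neb s)]
  have := commV c h (cm hn ha) (cm hn hb) (k a ha s ea) (k b hb t eb)
  calc a * b = n⁻¹ * (n * a * n⁻¹ * (n * b * n⁻¹)) * n := by group
    _ = b * a := by rw [this]; group

end fam

/-- The commutator map of `V` with a root subgroup. -/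
theorem defect {R : G} (hR : R ∈ A) {x v : F4 → G} {f : F4 → F4 → G} (vA : ∀ t, v t ∈ A)
    (xx : ∀ t u, x (t + u) = x t * x u) (vv : ∀ t u, v (t + u) = v t * v u)
    (rx : ∀ t, R * x t * R⁻¹ = x (om * t)) (rv : ∀ t, R * v t * R⁻¹ = v (om ^ 2 * t))
    (fK : ∀ s t, f s t ∈ centralizer (A : Set G)) (vx : ∀ s t, v s * x t = x t * v s * f s t) :
    (∀ s t, f s t = f (s * t) 1) ∧ ∀ s t, f s t * f s t = 1 := by
  have z1 : ∀ s, f s 0 = 1 := fun s => by
    have := vx s 0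
    rw [zero_of xx, mul_one, one_mul] at this
    exact left_eq_mul.1 this
  have z2 : ∀ t, f 0 t = 1 := fun t => by
    have := vx 0 t
    rw [zero_of vv, mul_one, one_mul] at this
    exact left_eq_mul.1 this
  have inv : ∀ s t, f (om ^ 2 * s) (om * t) = f s t := fun s t => by
    have e := vx (om ^ 2 * s) (om * t)
    rw [← rx, ← rv] at e
    refine mul_left_cancel (e.symm.trans ?_)
    calc _ = R * (v s * x t) * R⁻¹ := by group
      _ = R * (x t * v s) * (f s t * R⁻¹) := by rw [vx]; group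
      _ = _ := by rw [rc (fK s t) (inv_mem hR)]; group
  refine ⟨fun s t => ?_, fun s t => ?_⟩
  · rcases cases4 t with rfl | rfl | rfl | rfl
    · rw [z1, mul_zero, z2]
    · rw [mul_one]
    · have k : ∀ s : F4, om ^ 2 * (s * om) = s := by decide +kernel
      rw [← inv (s * om) 1, k, mul_one]
    · have k : ∀ s : F4, om ^ 2 * (om ^ 2 * (s * om ^ 2)) = s := by decide +kernel
      rw [← inv (s * om ^ 2) 1, ← inv (om ^ 2 * (s * om ^ 2)), k, mul_one, pow_two]
  · have e : v s * (v s * x t) = x t * (v s * v s) * (f s t * f s t) := by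
      rw [vx, ← mul_assoc, ← mul_assoc, vx]
      simp only [mul_assoc, lc (fK s t) (vA s)]
    rw [← mul_assoc, sq_of vv, one_mul, mul_one] at e
    exact left_eq_mul.1 e

/-- The relations between the canonical lifts. -/
structure Pre (A : Subgroup G) (e b v χ : F4 → G) : Prop where
  be : ∀ t u, b t * e u = e u * v (t * u) * χ (t * u ^ 2) * b t
  ve : ∀ s t, v s * e t = e t * v s * χ (s * t) ^ 2
  vb : ∀ s t, v s * b t = b t * v s * χ (s ^ 2 * t ^ 2) ^ 2
  χA : ∀ x, χ x ∈ A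
  χK : ∀ x, χ x ∈ centralizer (A : Set G)
  χ0 : χ 0 = 1
  χ4 : ∀ x, χ x ^ 4 = 1
  χ3 : ∀ x, χ x * χ (om * x) * χ (om ^ 2 * x) = 1
  χadd : ∀ x y, χ (x + y) = χ x * χ y * χ (x ^ 2 * y ^ 2) ^ 2

theorem pre {R : G} (hR : R ∈ A) {e b v : F4 → G} {f1 f2 c : F4 → F4 → G} (eA : ∀ t, e t ∈ A)
    (bA : ∀ t, b t ∈ A) (vA : ∀ t, v t ∈ A) (ee : ∀ t u, e (t + u) = e t * e u)
    (bb : ∀ t u, b (t + u) = b t * b u) (vv : ∀ t u, v (t + u) = v t * v u)
    (re : ∀ t, R * e t * R⁻¹ = e (om * t)) (rb : ∀ t, R * b t * R⁻¹ = b (om * t))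
    (rv : ∀ t, R * v t * R⁻¹ = v (om ^ 2 * t))
    (f1K : ∀ s t, f1 s t ∈ centralizer (A : Set G)) (f2K : ∀ s t, f2 s t ∈ centralizer (A : Set G))
    (f1A : ∀ s t, f1 s t ∈ A) (f2A : ∀ s t, f2 s t ∈ A)
    (cA : ∀ s t, c s t ∈ A) (cK : ∀ s t, c s t ∈ centralizer (A : Set G))
    (ve : ∀ s t, v s * e t = e t * v s * f1 s t) (vb : ∀ s t, v s * b t = b t * v s * f2 s t)
    (be : ∀ t u, b t * e u = e u * v (t * u) * c t u * b t) :
    Pre A e b v fun x => c x 1 := by
  obtain ⟨g1, s1⟩ := defect hR vA ee vv re rv f1K ve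
  obtain ⟨g2, s2⟩ := defect hR vA bb vv rb rv f2K vb
  have z1 : ∀ s, c s 0 = 1 := fun s => by
    have := be s 0
    rw [zero_of ee, mul_zero, zero_of vv, mul_one, one_mul, one_mul] at this
    exact right_eq_mul.1 this
  have z2 : ∀ t, c 0 t = 1 := fun t => by
    have := be 0 t
    rw [zero_of bb, zero_mul, zero_of vv, mul_one, one_mul, mul_one] at this
    exact left_eq_mul.1 this
  have inv : ∀ s t, c (om * s) (om * t) = c s t := fun s t => by
    have e1 := be (om * s) (om * t)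
    rw [show om * s * (om * t) = om ^ 2 * (s * t) by ring, ← re, ← rb, ← rv] at e1
    refine mul_left_cancel (mul_right_cancel (e1.symm.trans ?_))
    calc _ = R * (b s * e t) * R⁻¹ := by group
      _ = R * (e t * v (s * t)) * R⁻¹ * (R * c s t) * b s * R⁻¹ := by rw [be]; group
      _ = _ := by rw [← rc (cK s t) hR]; group
  have cc : ∀ t u, c t u = c (t * u ^ 2) 1 := fun t u => by
    rcases cases4 u with rfl | rfl | rfl | rfl
    · rw [z1, zero_pow two_ne_zero, mul_zero, z2]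
    · rw [one_pow, mul_one]
    · have k : ∀ s : F4, om * (s * om ^ 2) = s := by decide +kernel
      rw [← inv (t * om ^ 2) 1, k, mul_one]
    · have k : ∀ s : F4, om * (om * (s * (om ^ 2) ^ 2)) = s := by decide +kernel
      rw [← inv (t * (om ^ 2) ^ 2) 1, ← inv (om * (t * (om ^ 2) ^ 2)), k, mul_one, pow_two]
  have bv : ∀ s t x, b t * (v s * x) = v s * (b t * (f2 s t * x)) := fun s t x => by
    rw [← mul_assoc (v s), vb, mul_assoc _ (f2 s t), ← mul_assoc (f2 s t), s2, one_mul, mul_assoc]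
  have a1 : ∀ t t' u, c (t + t') u = c t u * (f2 (t' * u) t * c t' u) := fun t t' u => by
    have e1 := be (t + t') u
    rw [bb, mul_assoc, be t', add_mul, vv, ← mul_assoc, ← mul_assoc, ← mul_assoc, be] at e1
    simp only [mul_assoc, bv, lc (cK _ _) (bA _), lc (cK _ _) (vA _), rc (cK _ _) (bA _),
      lc (f2K _ _) (bA _), mul_right_inj] at e1
    rw [← e1, lc (cK _ _) (f2A _ _)]
  have a2 : ∀ t u u', c t (u + u') = f1 (t * u) u' * (c t u * c t u') := fun t u u' => by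
    have e1 := be t (u + u')
    rw [ee, ← mul_assoc, be, mul_assoc _ (b t), be t u', mul_add, vv] at e1
    have ve' : ∀ s t x, v s * (e t * x) = e t * (v s * (f1 s t * x)) := fun s t x => by
      rw [← mul_assoc, ve]; simp only [mul_assoc]
    simp only [mul_assoc, ve', lc (cK _ _) (bA _), lc (cK _ _) (vA _), rc (cK _ _) (bA _),
      lc (cK _ _) (eA _), lc (f1K _ _) (bA _), lc (f1K _ _) (vA _), mul_right_inj] at e1
    exact e1.symm
  have q2 : ∀ x, c x 1 ^ 2 = f2 (x ^ 2) 1 := fun x => by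
    have := a1 x x 1
    rw [aa, z2, mul_one, lc (cK _ _) (f2A _ _), g2, ← pow_two, ← pow_two] at this
    rw [← one_mul (c x 1 ^ 2), ← s2 (x ^ 2) 1, mul_assoc, ← this, mul_one]
  have q1 : ∀ x, c x 1 ^ 2 = f1 x 1 := fun x => by
    have := a2 x 1 1
    rw [aa, z1, mul_one, ← pow_two] at this
    rw [← one_mul (c x 1 ^ 2), ← s1 x 1, mul_assoc, ← this, mul_one]
  have q4 : ∀ x, c x 1 ^ 4 = 1 := fun x => by
    rw [show 4 = 2 + 2 from rfl, pow_add, q1, s1]
  have k4 : ∀ s t : F4, (s ^ 2 * t ^ 2) ^ 2 = s * t := by decide +kernel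
  refine ⟨fun t u => by rw [be, cc], fun s t => by rw [ve, g1, q1],
    fun s t => by rw [vb, g2, q2, k4], fun x => cA _ _, fun x => cK _ _, z2 1, q4, fun x => ?_,
    fun x y => ?_⟩
  · have := a2 x 1 om
    have k1 : ∀ x : F4, x * (1 + om) ^ 2 = om * x := by decide +kernel
    rw [cc x (1 + om), cc x om, k1, mul_one, g1, ← q1, mul_comm x om, mul_comm x (om ^ 2)] at this
    have h4 := q4 (om * x)
    have h5 : c (om * x) 1 * (c x 1 * c (om ^ 2 * x) 1) = 1 := by
      rw [pow_two, mul_assoc] at this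
      exact (left_eq_mul.1 this)
    change c x 1 * c (om * x) 1 * c (om ^ 2 * x) 1 = 1
    rw [rc (cK x 1) (cA _ _), mul_assoc, h5]
  · change c (x + y) 1 = c x 1 * c y 1 * c (x ^ 2 * y ^ 2) 1 ^ 2
    rw [a1, q2, k4, mul_one, g2, rc (f2K _ _) (cA _ _), mul_comm y x, mul_assoc]

end Cfsg.Agent.H92.AC
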