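import Cfsg.Agent.H63.GvDefs
import Cfsg.Agent.H92.CyCor

/-! Project CY, route GV, piece YP: invariant good subspaces through a fixed point. -/

set_option autoImplicit false

namespace Cfsg.Agent.H92.CyYp

open Subgroup MulAction Cfsg.Agent.H11.Cy Cfsg.Agent.H45.Iv Cfsg.Agent.H63.Gv Cfsg.Agent.H92.CyCor
open scoped commutatorElement

variable {G : Type} [Group G] {Ω : Type} [MulAction G Ω] {p : ℕ} {A : Ω → Subgroup G}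

theorem ex_a [Finite G] (st : St p A) (d : Ω) : ∃ a ∈ A d, a ≠ 1 := by
  by_contra c
  have : A d = ⊥ := (eq_bot_iff_forall _).2 fun a ha => by_contra fun h => c ⟨a, ha, h⟩
  have h := st.card d
  rw [this, card_bot] at h
  exact st.pp.one_lt.ne h

/-- `r` does not commute with its conjugate -/
theorem ne_one (st : St p A) (sk : SK A) {d y : Ω} (h : d ≠ y) (lb : LB A d y) (lc : LC A d y)
    (ani : Ani A d y) {a r : G} (ha : a ∈ A d) (a1 : a ≠ 1) (hr : r ∈ Rl A d y) (rZ : r ∉ Zl A d y) :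
    ⁅a * r * a⁻¹, r⁆ ≠ 1 := by
  intro c
  have aF : a ∈ Fl A d y := mem_sup_left ha
  have hr' : a * r * a⁻¹ ∈ Rl A d y := cj_comm aF hr
  have cm : a * r * a⁻¹ * r = r * (a * r * a⁻¹) := commutatorElement_eq_one_iff_mul_comm.1 c
  have rr := lb.sq r hr
  have zf : ∀ z ∈ Zl A d y, z • d = d := fun z hz => (sk.fx d y h z hz).2.1 (sk.ln d y).1
  have q : r * (a * r * a⁻¹) ∈ Zl A d y := by
    by_contra n
    refine ani _ (mul_mem hr hr') n ?_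
    calc r * (a * r * a⁻¹) * (r * (a * r * a⁻¹)) = r * (a * r * a⁻¹ * r) * (a * r * a⁻¹) := by group
      _ = r * r * (a * (r * r) * a⁻¹) := by rw [cm]; group
      _ = 1 := by rw [cen' rr.2 aF, lc.zsq _ rr]
  have f1 := zf _ q
  have f2 := zf _ rr
  rw [mul_smul, mul_smul, st.fix d _ (inv_mem ha), mul_smul] at f1
  rw [mul_smul] at f2
  rcases st.semi d (r • d) a ha (MulAction.injective r (f1.trans f2.symm)) with h | h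
  · exact a1 h
  · exact rZ (lb.stab r hr d (sk.ln d y).1 h)

theorem yp : YpStmt := by
  intro G _ _ Ω _ _ p A st cx P mb mk o2c ly Ψ mx z hz zP Φ sub good ΦP inv y hy hyΨ x hx
  by_contra xΨ
  have sk := cx.sk
  have gΨ : Good A Ψ := mb.2.2 Ψ mx.1 mx.2.1 mx.2.2.1
  have zx : z • x ≠ x := fun e => xΨ ((mk.fixiff Ψ mx z hz zP x (ΦP hx)).1 e)
  have zz : z * z = 1 := cx.gb Ψ mx.1 gΨ ⟨y, hyΨ⟩ z hz
  have zi : z⁻¹ = z := inv_eq_of_mul_eq_one_right zz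
  have zy : z • y = y := sk.csfix Ψ z hz.2 y hyΨ
  have ga := cx.ga Φ sub good y hy
  have gb := cx.gb Φ sub good ⟨y, hy⟩
  obtain ⟨-, nT, -⟩ := sk.nrm Φ z inv
  have TM := mk.tle Φ
  have AM : A y ≤ Ms A Φ := le_iSup₂_of_le (f := fun w (_ : w ∈ Φ) => A w) y hy le_rfl
  obtain ⟨t, ht, ty⟩ := ga.tr x hx
  have hn : ⁅z, t⁆ ∈ Ts A Φ := by
    rw [commutatorElement_def]
    exact mul_mem (nT t ht) (inv_mem ht)
  have nC : ⁅z, t⁆ ∉ Cs A Φ := fun c => by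
    apply zx
    have := sk.csfix Φ _ c x hx
    rwa [commutatorElement_def, mul_smul, inv_smul_eq_iff.2 ty.symm, mul_smul, zi, zy, mul_smul,
      ty] at this
  have zn : z * ⁅z, t⁆ * z⁻¹ = ⁅z, t⁆⁻¹ := by
    calc z * ⁅z, t⁆ * z⁻¹ = z * z * t * z⁻¹ * t⁻¹ * z⁻¹ := by rw [commutatorElement_def]; group
      _ = t * z * t⁻¹ * z⁻¹ := by rw [zz, one_mul]; nth_rewrite 1 [zi]; rfl
      _ = _ := by rw [commutatorElement_def]; group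
  have Lt := L_eq z t
  generalize ⁅z, t⁆ = n at hn nC zn Lt
  obtain ⟨a, ha, a1⟩ := ex_a st y
  have za : a * z = z * a := mem_centralizer_iff.1 ((sk.cs Ψ z).1 hz.2 y hyΨ) a ha
  have hn' : a * n * a⁻¹ ∈ Ts A Φ := cj_comm (AM ha) hn
  have cT : ∀ b ∈ Ts A Φ, ∀ c ∈ Ts A Φ, ⁅b, c⁆ ∈ Ts A Φ := fun b hb c hc =>
    commutator_mem_commutator (TM hb) (TM hc)
  have eK : ⁅a * n * a⁻¹, t⁆ ∈ Ts A Φ ⊓ Cs A Φ := ⟨cT _ hn' _ ht, ga.com _ hn' _ ht⟩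
  have ζK : ⁅a * n * a⁻¹, n⁆ ∈ Ts A Φ ⊓ Cs A Φ := ⟨cT _ hn' _ hn, ga.com _ hn' _ hn⟩
  have nn := ga.sq n hn
  have e1 : ⁅z, ⁅a * n * a⁻¹, t⁆⁆ = ⁅a * n * a⁻¹, n⁆ := by
    have e : z * (a * n * a⁻¹) * z⁻¹ = (n * n)⁻¹ * (a * n * a⁻¹) := by
      calc z * (a * n * a⁻¹) * z⁻¹ = (z * a) * n * (z * a)⁻¹ := by group
        _ = a * (z * n * z⁻¹) * a⁻¹ := by rw [← za]; group
        _ = a * (n * n)⁻¹ * a⁻¹ * (a * n * a⁻¹) := by rw [zn]; group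
        _ = _ := by rw [cen' (inv_mem nn) (AM ha)]
    have e' : ⁅a * n * a⁻¹, n * t⁆ = ⁅a * n * a⁻¹, n⁆ * (n * ⁅a * n * a⁻¹, t⁆ * n⁻¹) := by
      simp only [commutatorElement_def]; group
    rw [commutatorElement_def z, conj_cm, e, Lt, kl (inv_mem nn) (TM hn') (TM (mul_mem hn ht)), e',
      cen' eK.2 (TM hn), mul_inv_cancel_right]
  have nyΨ : n • y ∈ Ψ := by
    refine (mk.fixiff Ψ mx z hz zP _ (ΦP (sk.inv Φ sub n (TM hn) y hy))).1 ?_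
    have h1 : z • n • y = (z * n * z⁻¹) • y := by rw [mul_smul, zi, zy, mul_smul]
    rw [h1, zn, inv_smul_eq_iff, smul_smul]
    exact (sk.csfix Φ _ nn y hy).symm
  obtain ⟨y1, hy1, y1y, r, hr, rZ, k, hk, rfl⟩ := ga.lin n hn nC
  obtain ⟨-, lb, lc, -⟩ := cx.ls y y1 y1y.symm
  have rM : r ∈ Ms A Φ := TM ((sk.fle Φ y hy y1 hy1).2 hr)
  have hr' : a * r * a⁻¹ ∈ Rl A y y1 := cj_comm (mem_sup_left ha) hr
  have r'M : a * r * a⁻¹ ∈ Ms A Φ := TM ((sk.fle Φ y hy y1 hy1).2 hr')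
  have ew : ⁅a * (r * k) * a⁻¹, r * k⁆ = ⁅a * r * a⁻¹, r⁆ := by
    have e : a * (k * r) * a⁻¹ = a * k * a⁻¹ * (a * r * a⁻¹) := by group
    rw [cen hk.2 rM, e, cen' hk.2 (AM ha), kl hk.2 r'M (mul_mem (TM hk.1) rM), kr hk.2 r'M rM]
  rw [ew] at e1 ζK
  have ζ1 := ne_one st sk y1y.symm lb lc (cx.an y y1 y1y.symm).1 ha a1 hr rZ
  have ζZ := lb.com _ hr' _ hr
  rw [mul_smul, sk.csfix Φ k hk.2 y hy] at nyΨ
  have ry : y ≠ r • y := fun e => rZ (lb.stab r hr y (sk.ln y y1).1 e.symm)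
  have rL : r • y ∈ Ln A y y1 := by
    intro b hb
    have rF : r ∈ Fl A y y1 := commutator_le_self _ hr
    have h1 := st.eqv r⁻¹ _ b hb
    rw [inv_smul_smul] at h1
    have h2 := mul_mem (mul_mem rF (mem_sup_left h1 : _ ∈ Fl A y y1)) (inv_mem rF)
    have e : r * (r⁻¹ * b * r⁻¹⁻¹) * r⁻¹ = b := by group
    rwa [e] at h2
  rw [← (sk.sp y y1 y1y.symm y (sk.ln y y1).1 _ rL ry).2.1] at ζZ
  have ζΨ : ⁅a * r * a⁻¹, r⁆ ∈ Ts A Ψ ⊓ Cs A Ψ :=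
    ⟨(sk.fle Ψ y hyΨ _ nyΨ).2 ((cx.ls y _ ry).1.zle ζZ), sk.zc Ψ gΨ y hyΨ _ nyΨ ry ζZ⟩
  generalize ⁅a * (r * k) * a⁻¹, t⁆ = e at e1 eK
  generalize ⁅a * r * a⁻¹, r⁆ = ζ at e1 ζK ζ1 ζΨ
  have eP : e ∉ Cs A P := fun c => ζ1 (by
    rw [← e1]
    exact commutatorElement_eq_one_iff_mul_comm.2
      (cen c ((mk.mono Ψ P mx.2.1).1 (mk.tle Ψ hz.1))))
  obtain ⟨Ψ2, mx2, h2⟩ := mk.ex Φ sub ΦP fun c => mb.2.1 (c ▸ good)
  have g2 : Good A Ψ2 := mb.2.2 Ψ2 mx2.1 mx2.2.1 mx2.2.2.1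
  have up : ∀ b ∈ Ts A Φ ⊓ Cs A Φ, b ∈ Ts A Ψ2 ⊓ Cs A Ψ2 := fun b hb =>
    ⟨(mk.mono Φ Ψ2 h2).2.1 hb.1, mk.invol Ψ2 mx2.1 g2 b ((mk.mono Φ Ψ2 h2).2.1 hb.1) (gb b hb)⟩
  have ne : Ψ ≠ Ψ2 := fun c => xΨ (c ▸ h2 hx)
  have ζP := mk.cap Ψ Ψ2 mx mx2 ne ζ ζΨ (up ζ ζK).2
  obtain ⟨Y, hY, zY⟩ := ly Ψ Ψ2 mx mx2 ne y hyΨ (h2 hy) z hz zP e (up e eK) eP (e1 ▸ ζP)
  exact zP (o2c Y hY zY)

end Cfsg.Agent.H92.CyYp
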