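import Cfsg.Agent.H92.DiA
import Cfsg.Agent.H92.Ito
import Cfsg.Agent.S0205
import Cfsg.Agent.S4195

/-! Class sizes: Sylow subgroups central modulo a normal subgroup. -/

set_option autoImplicit false

namespace Cfsg.Agent.H92.Di

open Subgroup
open scoped Pointwise

variable {G : Type*} [Group G] [Finite G]

theorem solv_ext (N : Subgroup G) [N.Normal] (h1 : Group.IsSolvable N)
    (h2 : Group.IsSolvable (G ⧸ N)) : Group.IsSolvable G :=
  solvable_of_ker_le_range N.subtype (QuotientGroup.mk' N) (by simp)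

theorem solv_p {p : ℕ} [Fact p.Prime] (h : IsPGroup p G) : Group.IsSolvable G := by
  haveI := h.isNilpotent
  infer_instance

theorem solv_npc (h : HasNormalPComplement 2 G) : Group.IsSolvable G := by
  obtain ⟨P, N, hN, hc⟩ := h
  refine solv_ext N (S0205.result ?_) (solv_p (p := 2) ?_)
  · rw [← hc.index_eq_card]
    exact Nat.not_even_iff_odd.1 fun h => P.not_dvd_index h.two_dvd
  · obtain ⟨k, hk⟩ := IsPGroup.iff_card.1 P.isPGroup'
    exact IsPGroup.of_card (n := k) (by rw [← hk, ← hc.symm.index_eq_card]; rfl)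

theorem coset_npc' {t : ℕ} [Fact t.Prime] (W : Subgroup G) [W.Normal] (c : G)
    (h : ∀ w ∈ W, ¬ t ∣ cs[c * w]) : HasNormalPComplement t W :=
  coset_npc W c fun w hw h1 => h w hw (h1.trans (relIndex_normal_dvd_index _ _))

theorem solv_odd (h : ∀ x : G, ¬ 2 ∣ cs[x]) : Group.IsSolvable G := by
  obtain ⟨P⟩ : Nonempty (Sylow 2 G) := inferInstance
  refine solv_npc (H8.hasNormalPComplement_of_normalizer_le_centralizer P fun g _ => ?_)
  exact mem_centralizer_iff.2 fun a ha =>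
    (mem_center_iff.1 (sylow_le_center_of_not_dvd_cs P h ha) g).symm

omit [Finite G] in
theorem mem_smul {p : ℕ} {P : Sylow p G} {g a : G} :
    a ∈ ((g • P : Sylow p G) : Subgroup G) ↔ g⁻¹ * a * g ∈ (P : Subgroup G) := by
  rw [Sylow.coe_subgroup_smul, mem_conj_smul]

omit [Finite G] in
theorem smul_le_C {p : ℕ} {P : Sylow p G} {u x : G} (h : (P : Subgroup G) ≤ Ce[x])
    (hu : Commute u x) : ((u • P : Sylow p G) : Subgroup G) ≤ Ce[x] := fun a ha => by
  have := mul_mem (mul_mem (mem_C.2 hu) (h (mem_smul.1 ha))) (inv_mem (mem_C.2 hu))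
  simpa [mul_assoc] using this

omit [Finite G] in
theorem smul_eq_of_le_C {p : ℕ} {P : Sylow p G} {x : G} (h : (P : Subgroup G) ≤ Ce[x]) :
    x • P = P :=
  Sylow.smul_eq_iff_mem_normalizer.2 (centralizer_le_normalizer _ (le_C_iff.1 h))

/-- the Sylow `p`-subgroups are central modulo `W` -/
def Cen (W : Subgroup G) (p : ℕ) : Prop :=
  ∀ P : Sylow p G, ∀ a ∈ (P : Subgroup G), ∀ g : G, g * a * g⁻¹ * a⁻¹ ∈ W

/-- minimal normal subgroup -/
structure MN (V : Subgroup G) : Prop where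
  n : V.Normal
  ne : V ≠ ⊥
  min : ∀ K : Subgroup G, K.Normal → K ≤ V → K = ⊥ ∨ K = V

variable {p : ℕ} [Fact p.Prime]

theorem cen_of_quot (W : Subgroup G) [W.Normal] (h : ∀ x : G ⧸ W, ¬ p ∣ cs[x]) : Cen W p := by
  intro P a ha g
  have h1 := sylow_le_center_of_not_dvd_cs (P.mapSurjective (QuotientGroup.mk'_surjective W)) h
    (mem_map_of_mem (QuotientGroup.mk' W) ha)
  rw [← QuotientGroup.eq_one_iff]
  have := mem_center_iff.1 h1 (g : G ⧸ W)
  simp only [QuotientGroup.mk'_apply] at this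
  simp [this]

theorem cen_of_npc {t : ℕ} [Fact t.Prime] (W : Subgroup G) [W.Normal]
    (hW : ¬ HasNormalPComplement t W) (h : ∀ x : G, p ∣ cs[x] → ¬ t ∣ cs[x]) : Cen W p := by
  refine cen_of_quot W fun x hx => hW ?_
  obtain ⟨c, rfl⟩ := QuotientGroup.mk_surjective x
  refine coset_npc' W c fun w hw => h _ (hx.trans ?_)
  have : (c : G ⧸ W) = ((c * w : G) : G ⧸ W) := by simp [(QuotientGroup.eq_one_iff w).2 hw]
  rw [this]; exact cs_mk_dvd W _

theorem Cen.trans {W : Subgroup G} [W.Normal] (h : Cen W p) (P P' : Sylow p G) :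
    ∃ w ∈ W, w • P = P' := by
  obtain ⟨g, rfl⟩ := MulAction.exists_smul_eq G P P'
  have h1 : (P : Subgroup G) ≤ W ⊔ P := le_sup_right
  have h2 : ((g • P : Sylow p G) : Subgroup G) ≤ W ⊔ P := fun a ha => by
    have := mul_mem_sup (h P _ (mem_smul.1 ha) g) (mem_smul.1 ha)
    simpa [mul_assoc] using this
  obtain ⟨k, hk⟩ := MulAction.exists_smul_eq (W ⊔ P : Subgroup G) (P.subtype h1) ((g • P).subtype h2)
  rw [Sylow.smul_subtype] at hk
  have e := Sylow.subtype_injective hk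
  obtain ⟨w, hw, a, ha, e2⟩ := mem_sup_of_normal_left.1 k.2
  refine ⟨w, hw, ?_⟩
  rw [← e, Subgroup.smul_def, ← e2, mul_smul,
    Sylow.smul_eq_iff_mem_normalizer.2 (le_normalizer ha)]

theorem Cen.normal {W : Subgroup G} [W.Normal] (h : Cen W p) (P : Sylow p G)
    (hc : ∀ w ∈ W, (P : Subgroup G) ≤ Ce[w]) : (P : Subgroup G).Normal := by
  rw [← normalizer_eq_top_iff, eq_top_iff]
  intro g _
  obtain ⟨w, hw, e⟩ := h.trans P (g • P)
  exact Sylow.smul_eq_iff_mem_normalizer.1 (by rw [← e, smul_eq_of_le_C (hc w hw)])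

theorem Cen.not_normal {W : Subgroup G} (h : Cen W p) (hv : ∃ x : G, p ∣ cs[x]) (P : Sylow p G)
    (hd : ¬ p ∣ Nat.card W) : ¬ (P : Subgroup G).Normal := by
  intro hn
  obtain ⟨x, hx⟩ := hv
  refine not_dvd_cs_of_sylow_le_center P (fun a ha => mem_center_iff.2 fun g => ?_) x hx
  have h1 : g * a * g⁻¹ * a⁻¹ ∈ (P : Subgroup G) := mul_mem (hn.conj_mem a ha g) (inv_mem ha)
  obtain ⟨k, hk⟩ := orderOf_eq_pow_of_mem P.isPGroup' h1
  have h2 : p ^ k ∣ Nat.card W := hk ▸ orderOf_dvd_natCard _ (h P a ha g)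
  have h3 : k = 0 := by
    by_contra h0
    exact hd ((dvd_pow_self p h0).trans h2)
  rw [h3, pow_zero, orderOf_eq_one_iff] at hk
  calc g * a = g * a * g⁻¹ * a⁻¹ * (a * g) := by group
    _ = a * g := by rw [hk, one_mul]

theorem lemN (P : Sylow p G) (hP : (P : Subgroup G).Normal) (hv : ∃ x : G, p ∣ cs[x])
    (h : ∀ x : G, p ∣ cs[x] → ¬ 2 ∣ cs[x]) : Group.IsSolvable G := by
  set E := centralizer ((P : Subgroup G) : Set G) with hE
  have k : ∀ y : G, y ∉ E → ¬ 2 ∣ cs[y] := fun y hy => h y (by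
    by_contra h1
    obtain ⟨P', hP'⟩ := not_dvd_cs_iff.1 h1
    obtain ⟨g, rfl⟩ := MulAction.exists_smul_eq G P P'
    rw [Sylow.smul_eq_of_normal] at hP'
    exact hy (le_C_iff.1 hP'))
  obtain ⟨x, hx⟩ := hv
  have hxE : x ∉ E := fun h1 => not_dvd_cs_iff.2 ⟨P, le_C_iff.2 h1⟩ hx
  refine solv_ext E (solv_npc (coset_npc' E x fun w hw => k _ fun h1 => hxE ?_))
    (solv_odd fun y => ?_)
  · simpa using mul_mem h1 (inv_mem hw)
  · obtain ⟨y, rfl⟩ := QuotientGroup.mk_surjective y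
    by_cases hy : y ∈ E
    · rw [(QuotientGroup.eq_one_iff y).2 hy, cs_one]; decide
    · exact fun h1 => k y hy (h1.trans (cs_mk_dvd E y))

omit [Finite G] [Fact p.Prime] in
theorem MN.zp {V : Subgroup G} (hV : MN V) {v : G} (hv : v ∈ V) (h1 : v ≠ 1)
    (h : ∀ P : Sylow p G, (P : Subgroup G) ≤ Ce[v]) :
    ∀ x ∈ V, ∀ P : Sylow p G, (P : Subgroup G) ≤ Ce[x] := by
  haveI := hV.n
  let Z : Subgroup G := ⨅ P : Sylow p G, centralizer ((P : Subgroup G) : Set G)
  have hZ : ∀ x, x ∈ Z ↔ ∀ P : Sylow p G, (P : Subgroup G) ≤ Ce[x] := fun x => by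
    simp only [Z, mem_iInf, le_C_iff]
  haveI : Z.Normal := ⟨fun x hx g => (hZ _).2 fun P a ha => mem_C_conj.2
    ((hZ x).1 hx (g⁻¹ • P) (mem_smul.2 (by simpa [mul_assoc] using ha)))⟩
  rcases hV.min (V ⊓ Z) inferInstance inf_le_left with e | e
  · exact absurd (mem_bot.1 (e.le ⟨hv, (hZ v).2 h⟩)) h1
  · exact fun x hx => (hZ x).1 (e.ge hx).2

theorem MN.eq_one {V : Subgroup G} (hV : MN V) (h : Cen V p)
    (hn : ∀ P : Sylow p G, ¬ (P : Subgroup G).Normal) {v : G} (hv : v ∈ V)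
    (hc : ∀ P : Sylow p G, (P : Subgroup G) ≤ Ce[v]) : v = 1 := by
  haveI := hV.n
  by_contra h1
  obtain ⟨P⟩ : Nonempty (Sylow p G) := inferInstance
  exact hn P (h.normal P fun w hw => hV.zp hv h1 hc w hw P)

/-- an abelian minimal normal subgroup modulo which the Sylow `p`-subgroups are central -/
structure AB (V : Subgroup G) (p : ℕ) : Prop extends MN V where
  comm : ∀ a ∈ V, ∀ b ∈ V, Commute a b
  cen : Cen V p
  nn : ∀ P : Sylow p G, ¬ (P : Subgroup G).Normal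

theorem AB.one {V : Subgroup G} (h : AB V p) {v : G} (hv : v ∈ V) {P : Sylow p G}
    (hP : (P : Subgroup G) ≤ Ce[v]) : v = 1 := by
  haveI := h.n
  refine h.toMN.eq_one h.cen h.nn hv fun P' => ?_
  obtain ⟨w, hw, rfl⟩ := h.cen.trans P P'
  exact smul_le_C hP (h.comm w hw v hv)

theorem AB.dvd {V : Subgroup G} (h : AB V p) {v : G} (hv : v ∈ V) (h1 : v ≠ 1) : p ∣ cs[v] := by
  by_contra h2
  obtain ⟨P, hP⟩ := not_dvd_cs_iff.1 h2
  exact h1 (h.one hv hP)

theorem AB.three {V : Subgroup G} (h : AB V p) {c u : G} (hu : u ∈ V) (h1 : u ≠ 1)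
    (hc : Commute u c) : ∃ v ∈ V, p ∣ cs[c * v] := by
  haveI := h.n
  by_contra h2
  push Not at h2
  obtain ⟨P⟩ : Nonempty (Sylow p G) := inferInstance
  have h3 : ∀ v : V, ∃ w : V, (((w : G) • P : Sylow p G) : Subgroup G) ≤ Ce[c * (v : G)] := fun v => by
    obtain ⟨P', hP'⟩ := not_dvd_cs_iff.1 (h2 v v.2)
    obtain ⟨w, hw, rfl⟩ := h.cen.trans P P'
    exact ⟨⟨w, hw⟩, hP'⟩
  choose f hf using h3
  have key : ∀ (v v' : V) (Q : Sylow p G), (Q : Subgroup G) ≤ Ce[c * (v : G)] →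
      (Q : Subgroup G) ≤ Ce[c * (v' : G)] → v = v' := fun v v' Q a b => by
    have : ((v⁻¹ * v' : V) : G) = 1 := h.one (v⁻¹ * v').2 (P := Q) fun x hx => by
      have := (mem_C.1 (a hx)).inv_right.mul_right (mem_C.1 (b hx))
      exact mem_C.2 (by simpa [mul_assoc] using this)
    exact inv_mul_eq_one.1 (Subtype.ext this)
  have hinj : Function.Injective f := fun v v' e => key v v' _ (hf v) (e ▸ hf v')
  obtain ⟨v', e⟩ := Finite.surjective_of_injective hinj (⟨u, hu⟩ * f 1)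
  have h4 := hf v'
  have h5 : (((u * (f 1 : G)) • P : Sylow p G) : Subgroup G) ≤ Ce[c * ((1 : V) : G)] := by
    rw [mul_smul]; exact smul_le_C (hf 1) (by simpa using hc)
  rw [e] at h4
  rw [← key 1 v' _ h5 h4] at e
  exact h1 (congrArg Subtype.val (right_eq_mul.1 e))

theorem AB.cd {V : Subgroup G} (h : AB V p) {t : ℕ} (ht : ∀ x : G, p ∣ cs[x] → ¬ t ∣ cs[x])
    (d : centralizer (V : Set G)) : ¬ t ∣ cs[d] := by
  haveI := h.n
  obtain ⟨⟨u, hu⟩, h1⟩ := ne_bot_iff_exists_ne_one.1 h.ne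
  obtain ⟨v, hv, h2⟩ := h.three (c := d) hu (fun e => h1 (Subtype.ext e))
    (mem_centralizer_iff.1 d.2 u hu)
  have hvD : v ∈ centralizer (V : Set G) := mem_centralizer_iff.2 fun a ha => h.comm a ha v hv
  have hz : (⟨v, hvD⟩ : centralizer (V : Set G)) ∈ center _ := mem_center_iff.2 fun g =>
    Subtype.ext (mem_centralizer_iff.1 g.2 v hv).symm
  rw [← C_mul_of_mem_center hz]
  exact fun h3 => ht _ h2 (h3.trans (cs_subgroup_dvd _ _))

theorem mem_cent {V : Subgroup G} [V.Normal] {l : ℕ} [Fact l.Prime] (hV : IsPGroup l V) {y : G}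
    (h : ¬ l ∣ cs[y]) : y ∈ centralizer (V : Set G) := by
  obtain ⟨P, hP⟩ := not_dvd_cs_iff.1 h
  exact le_C_iff.1 ((hV.le_sylow_of_normal P).trans hP)

theorem AB.case2a {V : Subgroup G} (h : AB V p) {l : ℕ} [Fact l.Prime] (hV : IsPGroup l V)
    (h2 : ∀ x : G, p ∣ cs[x] → ¬ 2 ∣ cs[x]) : Group.IsSolvable G := by
  haveI := h.n
  set D := centralizer (V : Set G) with hD
  refine solv_ext D (solv_odd (h.cd h2)) (S0205.result ?_)
  by_contra h3
  obtain ⟨c, hc⟩ := exists_prime_orderOf_dvd_card' 2 (Nat.not_odd_iff_even.1 h3).two_dvd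
  obtain ⟨c, rfl⟩ := QuotientGroup.mk_surjective c
  have c1 : c ∉ D := fun e => by
    rw [(QuotientGroup.eq_one_iff c).2 e, orderOf_one] at hc; exact absurd hc (by decide)
  have c2 : c * c ∈ D := by
    rw [← QuotientGroup.eq_one_iff, QuotientGroup.mk_mul, ← pow_two, ← hc, pow_orderOf_eq_one]
  have c3 : ∃ w ∈ V, w * c ≠ c * w := by
    by_contra h4
    push Not at h4
    exact c1 (mem_centralizer_iff.2 h4)
  obtain ⟨w, hw, hwc⟩ := c3
  have hv : w⁻¹ * (c * w * c⁻¹) ∈ V := mul_mem (inv_mem hw) (h.n.conj_mem w hw c)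
  set v := w⁻¹ * (c * w * c⁻¹) with hvd
  have v1 : v ≠ 1 := fun e => hwc (by
    calc w * c = w * v * c := by rw [e, mul_one]
      _ = c * w := by rw [hvd]; group)
  have v2 : c * v * c⁻¹ = v⁻¹ := by
    have := mem_centralizer_iff.1 c2 w hw
    calc c * v * c⁻¹ = c * w⁻¹ * c⁻¹ * ((c * c) * w) * (c * c)⁻¹ := by rw [hvd]; group
      _ = v⁻¹ := by rw [← this, hvd]; group
  obtain ⟨T, hT⟩ := not_dvd_cs_iff.1 (h2 v (h.dvd hv v1))
  have o2 := S4195.result v v1 T hT (isConj_iff.2 ⟨c, v2⟩)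
  have e : v⁻¹ = v := by
    rw [inv_eq_iff_mul_eq_one, ← pow_two, ← o2, pow_orderOf_eq_one]
  have hl : l = 2 := by
    obtain ⟨k, hk⟩ := orderOf_eq_pow_of_mem hV hv
    rw [o2] at hk
    exact ((Nat.prime_dvd_prime_iff_eq Nat.prime_two Fact.out).1
      (Nat.prime_two.dvd_of_dvd_pow (dvd_of_eq hk))).symm
  subst hl
  obtain ⟨v', hv', h5⟩ := h.three (c := c) hv v1 (by
    rw [e] at v2
    exact (mul_inv_eq_iff_eq_mul.1 v2).symm)
  have hv'D : v' ∈ D := mem_centralizer_iff.2 fun a ha => h.comm a ha v' hv'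
  exact c1 (by simpa using mul_mem (mem_cent hV (h2 _ h5)) (inv_mem hv'D))

theorem AB.case2b {q : ℕ} [Fact q.Prime] {V : Subgroup G} (h : AB V q) {l : ℕ} [Fact l.Prime]
    (hV : IsPGroup l V) (hqp : ∀ x : G, q ∣ cs[x] → ¬ p ∣ cs[x])
    (hl : (∀ x : G, p ∣ cs[x] → ¬ l ∣ cs[x]) ∨ ∀ x : G, q ∣ cs[x] → ¬ l ∣ cs[x]) :
    ∃ P : Sylow p G, (P : Subgroup G).Normal := by
  haveI := h.n
  set D := centralizer (V : Set G) with hD
  obtain ⟨⟨u, hu⟩, h1⟩ := ne_bot_iff_exists_ne_one.1 h.ne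
  have u1 : u ≠ 1 := fun e => h1 (Subtype.ext e)
  obtain ⟨P, hP⟩ := not_dvd_cs_iff.1 (hqp u (h.dvd hu u1))
  have huD : ∀ d ∈ D, Commute d u := fun d hd => (mem_centralizer_iff.1 hd u hu).symm
  have hPD : (P : Subgroup G) ≤ D := by
    rcases hl with hl | hl
    · have hc : Cen D p := cen_of_quot D fun y => by
        obtain ⟨y, rfl⟩ := QuotientGroup.mk_surjective y
        intro h2
        have hy := mem_cent hV (hl y (h2.trans (cs_mk_dvd D y)))
        rw [(QuotientGroup.eq_one_iff y).2 hy, cs_one] at h2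
        exact (Fact.out : p.Prime).not_dvd_one h2
      have := h.toMN.zp hu u1 (p := p) fun P' => by
        obtain ⟨d, hd, rfl⟩ := hc.trans P P'
        exact smul_le_C hP (huD d hd)
      exact fun a ha => mem_centralizer_iff.2 fun x hx => (mem_C'.1 (this x hx P ha)).eq
    · intro c hc
      obtain ⟨v, hv, h2⟩ := h.three (c := c) hu u1 (mem_C'.1 (hP hc))
      have hvD : v ∈ D := mem_centralizer_iff.2 fun a ha => h.comm a ha v hv
      simpa using mul_mem (mem_cent hV (hl _ h2)) (inv_mem hvD)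
  have hc : Cen D p := fun P' a ha g => by
    obtain ⟨k, rfl⟩ := MulAction.exists_smul_eq G P P'
    have : a ∈ D := by
      have := (inferInstance : D.Normal).conj_mem _ (hPD (mem_smul.1 ha)) k
      simpa [mul_assoc] using this
    exact mul_mem ((inferInstance : D.Normal).conj_mem a this g) (inv_mem this)
  refine ⟨P, hc.normal P fun d hd a ha => mem_C.2 ?_⟩
  have := sylow_le_center_of_not_dvd_cs (P.subtype hPD) (h.cd hqp)
    (show (⟨a, hPD ha⟩ : D) ∈ (P.subtype hPD : Subgroup D) from ha)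
  exact (congrArg Subtype.val (mem_center_iff.1 this ⟨d, hd⟩)).symm

end Cfsg.Agent.H92.Di
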