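import Cfsg.Agent.H92.DiB

/-! Class sizes: two nonadjacent primes without a common neighbour force solvability. -/

set_option autoImplicit false

namespace Cfsg.Agent.H92.Di

open Subgroup
open scoped Pointwise

universe u

variable {G : Type*} [Group G] [Finite G]

theorem abs_simple {H : Subgroup G} (k1 : ∀ x : G, (∀ l : G, l * x * l⁻¹ ∉ H) → ¬ 2 ∣ cs[x])
    (k2 : ∀ N : Subgroup G, N.Normal → N ≤ H → N = ⊥)
    (k3 : ∀ N : Subgroup G, N.Normal → Group.IsSolvable N → N = ⊥) {S : Subgroup G} [S.Normal]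
    (h1 : S ≠ ⊥) (h2 : centralizer (S : Set G) ≠ ⊥) : False := by
  set E := centralizer (S : Set G) with hE
  have hs : E ⊔ H = ⊤ := by
    by_contra h
    have : ∃ x : G, ∀ y : G, y * x * y⁻¹ ∉ E ⊔ H := by
      by_contra h3
      push Not at h3
      exact h (eq_top_of_forall_conj_mem h3)
    obtain ⟨x, hx⟩ := this
    refine h2 (k3 E inferInstance (solv_npc (coset_npc' E x fun e he => k1 _ fun l hl => hx l ?_)))
    have := mul_mem (mem_sup_right (S := E) hl)
      (inv_mem (mem_sup_left (T := H) ((inferInstance : E.Normal).conj_mem e he l)))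
    simpa [mul_assoc] using this
  have hn : (H ⊓ S).Normal := ⟨fun s hs' g => by
    obtain ⟨e, he, h, hh, rfl⟩ := mem_sup_of_normal_left.1 (hs.ge (mem_top g))
    have a1 : h * s * h⁻¹ ∈ H ⊓ S :=
      ⟨H.mul_mem (H.mul_mem hh hs'.1) (H.inv_mem hh), (inferInstance : S.Normal).conj_mem s hs'.2 h⟩
    have a2 := mem_centralizer_iff.1 he _ a1.2
    have : e * h * s * (e * h)⁻¹ = h * s * h⁻¹ := by
      calc e * h * s * (e * h)⁻¹ = e * (h * s * h⁻¹) * e⁻¹ := by group
        _ = _ := by rw [← a2]; group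
    rwa [this]⟩
  have hb := k2 _ hn inf_le_left
  refine h1 (k3 S inferInstance (solv_npc (coset_npc' S 1 fun s hs' => ?_)))
  rw [one_mul]
  by_cases h : ∀ l : G, l * s * l⁻¹ ∉ H
  · exact k1 s h
  · push Not at h
    obtain ⟨l, hl⟩ := h
    have := mem_bot.1 (hb.le ⟨hl, (inferInstance : S.Normal).conj_mem s hs' l⟩)
    rw [← cs_conj l s, this, cs_one]; decide

theorem MN.k3 {L : Subgroup G} (hL : MN L) (hns : ¬ Group.IsSolvable L) (N : Subgroup L)
    (hN : N.Normal) (hs : Group.IsSolvable N) : N = ⊥ := by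
  haveI := hL.n
  by_contra h
  obtain ⟨M, r, hr, hM, hM1, -, hMe, -⟩ := H3.exists_minimal_normal_elementary_le N hs h
  haveI := Fact.mk hr
  have hp : IsPGroup r M := fun g => ⟨1, Subtype.ext (by simpa using hMe.2 g g.2)⟩
  rcases hL.min _ (H3.map_pCore_normal (p := r) L) (map_subtype_le _) with e | e
  · exact hM1 (eq_bot_iff.2 ((H3.le_pCore hp).trans
      ((map_eq_bot_iff_of_injective _ L.subtype_injective).1 e).le))
  · exact hns (solv_p (p := r) (e ▸ H3.map_pCore_isPGroup (p := r) L))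

theorem MN.k4 {L : Subgroup G} (hL : MN L) {S : Subgroup L} (hS : MN S) (ht : S ≠ ⊤) :
    centralizer (S : Set L) ≠ ⊥ := by
  haveI := hL.n
  haveI := hS.n
  intro hc
  have key : ∀ g : G, S ≤ S.map (MulAut.conjNormal g : MulAut L).toMonoidHom := by
    intro g
    set S' := S.map (MulAut.conjNormal g : MulAut L).toMonoidHom with hS'
    haveI : S'.Normal := hS.n.map _ (MulAut.conjNormal g : MulAut L).surjective
    rcases hS.min (S ⊓ S') inferInstance inf_le_left with e | e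
    · have : S' ≤ centralizer (S : Set L) := fun x hx => mem_centralizer_iff.2 fun s hs =>
        (commute_of_normal_of_disjoint S S' inferInstance inferInstance (disjoint_iff.2 e) s x hs hx).eq
      rw [hc, le_bot_iff] at this
      exact absurd ((map_eq_bot_iff_of_injective S (f := (MulAut.conjNormal g : MulAut L).toMonoidHom)
        (MulAut.conjNormal g : MulAut L).injective).1 this) hS.ne
    · exact inf_eq_left.1 e
  have hn : (S.map L.subtype).Normal := ⟨by
    rintro _ ⟨s, hs, rfl⟩ g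
    obtain ⟨s', hs', e⟩ := key g⁻¹ hs
    refine ⟨s', hs', ?_⟩
    have := congrArg Subtype.val e
    simp only [MulEquiv.toMonoidHom_eq_coe, MonoidHom.coe_coe, MulAut.conjNormal_apply] at this
    simp [← this, mul_assoc]⟩
  rcases hL.min _ hn (map_subtype_le _) with e | e
  · exact hS.ne ((map_eq_bot_iff_of_injective _ L.subtype_injective).1 e)
  · refine ht (eq_top_iff.2 fun x _ => ?_)
    obtain ⟨s, hs, e2⟩ := e.ge x.2
    exact (Subtype.ext e2 : s = x) ▸ hs

variable {p : ℕ} [Fact p.Prime]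

theorem Cen.conj {L : Subgroup G} [L.Normal] (h : Cen L p) (P : Sylow p G) {x : L}
    (hx : ¬ p ∣ cs[(x : G)]) :
    ∃ l : L, l * x * l⁻¹ ∈ (centralizer ((P : Subgroup G) : Set G)).subgroupOf L := by
  obtain ⟨P', hP'⟩ := not_dvd_cs_iff.1 hx
  obtain ⟨w, hw, rfl⟩ := h.trans P' P
  refine ⟨⟨w, hw⟩, mem_subgroupOf.2 (le_C_iff.1 fun a ha => mem_C_conj.2 (hP' (mem_smul.1 ha)))⟩

theorem MN.simple {L : Subgroup G} (hL : MN L) (hns : ¬ Group.IsSolvable L) (hc : Cen L p)
    (hn : ∀ P : Sylow p G, ¬ (P : Subgroup G).Normal) (h2 : ∀ x : G, p ∣ cs[x] → ¬ 2 ∣ cs[x]) :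
    IsSimpleGroup L := by
  haveI := hL.n
  haveI : Nontrivial L := (nontrivial_iff_ne_bot L).2 hL.ne
  obtain ⟨P⟩ : Nonempty (Sylow p G) := inferInstance
  refine ⟨fun N hN => ?_⟩
  by_contra h
  push Not at h
  obtain ⟨S, a, b, c, d⟩ := H3.exists_minimal_normal_le N h.1
  refine abs_simple (H := (centralizer ((P : Subgroup G) : Set G)).subgroupOf L) (fun x hx h3 => ?_)
    (fun M hM hle => ?_) (hL.k3 hns) b (hL.k4 ⟨a, b, d⟩ fun e => h.2 (eq_top_iff.2 (e ▸ c)))
  · refine h2 x ?_ (h3.trans (cs_subgroup_dvd L x))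
    by_contra h4
    obtain ⟨l, hl⟩ := hc.conj P h4
    exact hx l hl
  · refine eq_bot_iff.2 fun x hx => mem_bot.2 (Subtype.ext (hL.eq_one hc hn x.2 fun P' => ?_))
    obtain ⟨w, hw, rfl⟩ := hc.trans P P'
    have h5 := le_C_iff.2 (mem_subgroupOf.1 (hle (hM.conj_mem x hx (⟨w, hw⟩ : L)⁻¹)))
    intro a ha
    have := mem_C_conj.1 (h5 (mem_smul.1 ha))
    simpa [mul_assoc] using this

theorem simple_npc [IsSimpleGroup G] (hns : ¬ Group.IsSolvable G) (h : HasNormalPComplement p G) :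
    ¬ p ∣ Nat.card G := by
  obtain ⟨P, N, hN, hc⟩ := h
  rcases hN.eq_bot_or_eq_top with rfl | rfl
  · have := isComplement'_bot_left.1 hc
    exact absurd (solv_p (p := p) (P.isPGroup'.of_surjective (P : Subgroup G).subtype
      fun g => ⟨⟨g, this.ge (mem_top g)⟩, rfl⟩)) hns
  · have := isComplement'_top_left.1 hc
    have h1 := P.not_dvd_index
    rwa [this, index_bot] at h1

theorem simple_ito [IsSimpleGroup G] (hns : ¬ Group.IsSolvable G) {r : ℕ} (hr : r.Prime)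
    (hd : r ∣ Nat.card G) (h : ∀ x : G, p ∣ cs[x] → ¬ r ∣ cs[x]) : ¬ p ∣ Nat.card G := by
  haveI := Fact.mk hr
  obtain ⟨P⟩ : Nonempty (Sylow p G) := inferInstance
  obtain ⟨R⟩ : Nonempty (Sylow r G) := inferInstance
  rcases normalizer_le_centralizer_or P R fun x => imp_iff_not_or.1 (h x) with h1 | h1
  · exact simple_npc hns (H8.hasNormalPComplement_of_normalizer_le_centralizer P h1)
  · exact absurd hd (simple_npc hns (H8.hasNormalPComplement_of_normalizer_le_centralizer R h1))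

theorem Cen.fix {L : Subgroup G} (h : Cen L p) [L.Normal] (hd : ¬ p ∣ Nat.card L) {x : L}
    {P : Sylow p G} (hx : x • P = P) : (P : Subgroup G) ≤ Ce[(x : G)] := by
  intro a ha
  have hn : (x : G) ∈ normalizer ((P : Subgroup G) : Set G) := Sylow.smul_eq_iff_mem_normalizer.1 hx
  have h1 : (x : G) * a * (x : G)⁻¹ * a⁻¹ ∈ (P : Subgroup G) :=
    mul_mem ((mem_normalizer_iff.1 hn a).1 ha) (inv_mem ha)
  obtain ⟨k, hk⟩ := orderOf_eq_pow_of_mem P.isPGroup' h1
  have h2 : p ^ k ∣ Nat.card L := hk ▸ orderOf_dvd_natCard _ (h P a ha x)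
  have h3 : k = 0 := by
    by_contra h0
    exact hd ((dvd_pow_self p h0).trans h2)
  rw [h3, pow_zero, orderOf_eq_one_iff] at hk
  refine mem_C'.2 ?_
  calc (x : G) * a = x * a * (x : G)⁻¹ * a⁻¹ * (a * x) := by group
    _ = a * x := by rw [hk, one_mul]

theorem Cen.de {L : Subgroup G} {x : L} (hx : De (Sylow p G) x) : p ∣ cs[(x : G)] := by
  by_contra h1
  obtain ⟨P, hP⟩ := not_dvd_cs_iff.1 h1
  exact hx P (smul_eq_of_le_C hP)

theorem Cen.en {L : Subgroup G} (h : Cen L p) [L.Normal] (hd : ¬ p ∣ Nat.card L) :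
    En L (Sylow p G) := by
  intro u _ U
  have h1 := relIndex_eq_index_of_sup (Sylow.normalizer_sup_eq_top U)
  obtain ⟨P, hP⟩ := exists_sylow_le_of_not_dvd_index (p := p) fun h2 =>
    hd ((h1 ▸ h2).trans (relIndex_dvd_card _ _))
  refine ⟨P, fun y hy hne => ?_⟩
  have : ∃ a ∈ (P : Subgroup G), a ∉ Ce[(y : G)] := by
    by_contra h2
    push Not at h2
    exact hne (smul_eq_of_le_C h2)
  obtain ⟨a, ha, hay⟩ := this
  have hya : a * y * a⁻¹ ∈ L := (inferInstance : L.Normal).conj_mem _ y.2 a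
  have hc : (⟨_, hya⟩ : L) ∈ centralizer ((U : Subgroup L) : Set L) := by
    refine mem_centralizer_iff.2 fun b hb => Subtype.ext ?_
    obtain ⟨b', hb', e⟩ := (mem_set_normalizer_iff.1 (inv_mem (hP ha)) (b : G)).1 ⟨b, hb, rfl⟩
    have e1 := congrArg Subtype.val (mem_centralizer_iff.1 hy b' hb')
    simp only [coe_subtype, inv_inv] at e
    simp only [coe_mul, e] at e1 ⊢
    calc (b : G) * (a * y * a⁻¹) = a * (a⁻¹ * b * a * y) * a⁻¹ := by group
      _ = _ := by rw [e1]; group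
  refine ⟨⟨_, hya⟩ * y⁻¹, mul_mem hc (inv_mem hy), fun e => hay (mem_C.2 ?_), fun g g1 g2 => ?_⟩
  · have := congrArg Subtype.val e
    simp only [coe_mul, coe_inv, coe_one] at this
    calc a * y = a * y * a⁻¹ * (y : G)⁻¹ * (y * a) := by group
      _ = y * a := by rw [this, one_mul]
  · have f1 := mem_C'.1 (h.fix hd g1 ha)
    have f3 : (y : G) * a⁻¹ * (y : G)⁻¹ ∈ (((y : G) • P : Sylow p G) : Subgroup G) :=
      mem_smul.2 (by simpa [mul_assoc] using ha)
    have f2 := mem_C'.1 (h.fix hd g2 f3)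
    have := f1.mul_right f2
    exact Subtype.ext (by simpa [mul_assoc] using this.eq)

theorem Cen.pre {L : Subgroup G} (h : Cen L p) [L.Normal] :
    MulAction.IsPretransitive L (Sylow p G) := ⟨fun P P' => by
  obtain ⟨w, hw, e⟩ := h.trans P P'
  exact ⟨⟨w, hw⟩, e⟩⟩

omit [Finite G] [Fact p.Prime] in
theorem nontriv (hn : ∀ P : Sylow p G, ¬ (P : Subgroup G).Normal) : Nontrivial (Sylow p G) := by
  by_contra h
  haveI := not_nontrivial_iff_subsingleton.1 h
  obtain ⟨P⟩ : Nonempty (Sylow p G) := inferInstance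
  exact hn P (Sylow.normal_of_subsingleton P)

/-- the standing hypothesis -/
structure Hy (G : Type*) [Group G] (p q : ℕ) (A B : Set ℕ) : Prop where
  a : ∀ x : G, p ∣ cs[x] → ∀ r ∈ A, ¬ r ∣ cs[x]
  b : ∀ x : G, q ∣ cs[x] → ∀ r ∈ B, ¬ r ∣ cs[x]

variable {q : ℕ} [Fact q.Prime] {A B : Set ℕ}

theorem case1 (hAB : ∀ r : ℕ, r.Prime → r ∈ A ∨ r ∈ B) (h2 : 2 ∈ A) (hq : q ∈ A)
    (h : Hy G p q A B) (hn : ∀ P : Sylow p G, ¬ (P : Subgroup G).Normal) (vq : ∃ x : G, q ∣ cs[x])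
    {L : Subgroup G} (hL : MN L) (hns : ¬ Group.IsSolvable L) : False := by
  haveI := hL.n
  have cp : Cen L p := cen_of_npc (t := 2) L (fun h1 => hns (solv_npc h1)) fun x hx => h.a x hx 2 h2
  haveI := hL.simple hns cp hn fun x hx => h.a x hx 2 h2
  have dL : ∀ {s t : ℕ}, (∀ x : G, s ∣ cs[x] → ¬ t ∣ cs[x]) → ∀ x : L, s ∣ cs[x] → ¬ t ∣ cs[x] :=
    fun h1 x a b => h1 x (a.trans (cs_subgroup_dvd L x)) (b.trans (cs_subgroup_dvd L x))
  have ev : 2 ∣ Nat.card L := by
    by_contra h1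
    exact hns (S0205.result (Nat.not_even_iff_odd.1 fun h3 => h1 h3.two_dvd))
  have dp : ¬ p ∣ Nat.card L := simple_ito hns Nat.prime_two ev (dL fun x hx => h.a x hx 2 h2)
  haveI := cp.pre
  haveI := nontriv hn
  have hA : ∀ x : L, De (Sylow p G) x → ∀ r ∈ A, ¬ r ∣ cs[x] := fun x hx r hr h1 =>
    h.a x (Cen.de hx) r hr (h1.trans (cs_subgroup_dvd L x))
  have : ∃ r : ℕ, r.Prime ∧ r ∣ Nat.card L ∧ r ∈ B := by
    by_contra h1
    push Not at h1
    obtain ⟨b, hb⟩ : {x : L | De (Sylow p G) x}.Nonempty := by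
      have := ncard_le_de (Ω := Sylow p G) ({1} : Set L) fun x hx => by
        rw [hx, fx_one]; exact Finite.one_lt_card
      rw [Set.ncard_singleton] at this
      exact Set.nonempty_of_ncard_ne_zero (by omega)
    have h3 : cs[b] = 1 := Nat.eq_one_iff_not_exists_prime_dvd.2 fun r hr h4 =>
      hA b hb r ((hAB r hr).resolve_right (h1 r hr (h4.trans (cs_dvd_card b)))) h4
    have h4 := hL.k3 hns (center L) inferInstance
      (isSolvable_of_comm fun x y => Subtype.ext (mem_center_iff.1 y.2 x))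
    have h5 : b = 1 := mem_bot.1 (h4.le (cs_eq_one_iff.1 h3))
    exact hb (Classical.arbitrary _) (by rw [h5, one_smul])
  obtain ⟨r, hr, hrL, hrB⟩ := this
  haveI := Fact.mk hr
  have cq : Cen L q := cen_of_npc (t := r) L (fun h1 => simple_npc hns h1 hrL)
    fun x hx => h.b x hx r hrB
  have dq : ¬ q ∣ Nat.card L := simple_ito hns hr hrL (dL fun x hx => h.b x hx r hrB)
  haveI := cq.pre
  haveI := nontriv fun Q => cq.not_normal vq Q dq
  exact crux (Ω₁ := Sylow p G) (Ω₂ := Sylow q G) hns A B hAB hA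
    (fun x hx r hr h1 => h.b x (Cen.de hx) r hr (h1.trans (cs_subgroup_dvd L x)))
    (fun x h1 h3 => h.a x (Cen.de h1) q hq (Cen.de h3)) (cp.en dp) (cq.en dq)

theorem MN.ab {V : Subgroup G} (hV : MN V) (hs : Group.IsSolvable V) :
    (∀ a ∈ V, ∀ b ∈ V, Commute a b) ∧ ∃ l : ℕ, l.Prime ∧ IsPGroup l V := by
  haveI := hV.n
  obtain ⟨h1, l, hl, h2⟩ := H3.minimal_normal_elementary V hs hV.ne hV.min
  exact ⟨fun a ha b hb => congrArg Subtype.val (h1.is_comm.comm (⟨a, ha⟩ : V) ⟨b, hb⟩), l, hl,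
    fun g => ⟨1, Subtype.ext (by simpa using h2 g g.2)⟩⟩

theorem step (hAB : ∀ r : ℕ, r.Prime → r ∈ A ∨ r ∈ B) (h2 : 2 ∈ A) (hq : q ∈ A) (hp : p ∈ B)
    (h : Hy G p q A B) (vp : ∃ x : G, p ∣ cs[x]) (vq : ∃ x : G, q ∣ cs[x])
    (ih : ∀ (V : Subgroup G) [V.Normal], V ≠ ⊥ → (∃ x : G ⧸ V, p ∣ cs[x]) →
      (∃ x : G ⧸ V, q ∣ cs[x]) → Group.IsSolvable (G ⧸ V)) : Group.IsSolvable G := by
  by_contra hns
  have hn : ∀ P : Sylow p G, ¬ (P : Subgroup G).Normal := fun P hP =>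
    hns (lemN P hP vp fun x hx => h.a x hx 2 h2)
  have X : ∀ V : Subgroup G, ∀ hV : MN V, IsPGroup q V ∧ Cen V q ∧
      haveI := hV.n; ∃ x : G ⧸ V, p ∣ cs[x] := by
    intro V hV
    haveI := hV.n
    have hs : Group.IsSolvable V := by
      by_contra h1
      exact case1 hAB h2 hq h hn vq hV h1
    obtain ⟨hc, l, hl, hlV⟩ := hV.ab hs
    haveI := Fact.mk hl
    have v1 : ∃ x : G ⧸ V, p ∣ cs[x] := by
      by_contra h1
      push Not at h1
      exact hns (AB.case2a ⟨hV, hc, cen_of_quot V h1, hn⟩ hlV fun x hx => h.a x hx 2 h2)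
    have cq : Cen V q := by
      refine cen_of_quot V ?_
      by_contra h1
      push Not at h1
      exact hns (solv_ext V hs (ih V hV.ne v1 h1))
    refine ⟨?_, cq, v1⟩
    by_contra h1
    have dq : ¬ q ∣ Nat.card V := fun h3 => by
      obtain ⟨k, hk⟩ := IsPGroup.iff_card.1 hlV
      rw [hk] at h3
      exact h1 ((Nat.prime_dvd_prime_iff_eq Fact.out hl).1 ((Fact.out : q.Prime).dvd_of_dvd_pow h3) ▸ hlV)
    obtain ⟨P, hP⟩ := AB.case2b (p := p) ⟨hV, hc, cq, fun Q => cq.not_normal vq Q dq⟩ hlV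
      (fun x hx => h.b x hx p hp)
      ((hAB l hl).imp (fun a x hx => h.a x hx l a) fun a x hx => h.b x hx l a)
    exact hn P hP
  haveI : Nontrivial G := by
    by_contra h1
    haveI := not_nontrivial_iff_subsingleton.1 h1
    exact hns inferInstance
  obtain ⟨V, a, b, c⟩ := H3.exists_minimal_normal G
  obtain ⟨hV, cq, y, hy⟩ := X V ⟨a, b, c⟩
  obtain ⟨y, rfl⟩ := QuotientGroup.mk_surjective y
  obtain ⟨Q⟩ : Nonempty (Sylow q G) := inferInstance
  haveI hQ : (Q : Subgroup G).Normal := ⟨fun x hx g => by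
    simpa using mul_mem (hV.le_sylow_of_normal Q (cq Q x hx g)) hx⟩
  set E := centralizer ((Q : Subgroup G) : Set G) with hE
  have hyE : y ∈ E := mem_cent Q.isPGroup' (h.a y (hy.trans (cs_mk_dvd V y)) q hq)
  obtain ⟨s, t, hs, ht, e, ho, hto⟩ := exists_p_parts (Fact.out : q.Prime) y
  have t1 : t ≠ 1 := fun e1 => by
    have : (y : G ⧸ V) ∈ center (G ⧸ V) := mem_center_iff.2 fun g => by
      obtain ⟨g, rfl⟩ := QuotientGroup.mk_surjective g
      rw [e, e1, mul_one]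
      have := (QuotientGroup.eq_one_iff _).2 (cq Q s (mem_sylow_of_normal Q ho) g)
      simp only [QuotientGroup.mk_mul, QuotientGroup.mk_inv] at this
      calc (g : G ⧸ V) * s = (g : G ⧸ V) * s * (g : G ⧸ V)⁻¹ * (s : G ⧸ V)⁻¹ * (s * g) := by group
        _ = _ := by rw [this, one_mul]
    rw [cs_eq_one_iff.2 this] at hy
    exact (Fact.out : p.Prime).not_dvd_one hy
  have htE : t ∈ E := zpowers_le.2 hyE ht
  obtain ⟨R⟩ : Nonempty (Sylow q E) := inferInstance
  obtain ⟨-, K, hK, -, -, hKq, hKm⟩ := sylow_direct_of_sup_centralizer R (eq_top_iff.2 fun g _ =>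
    mem_sup_right (mem_centralizer_iff.2 fun r hr => Subtype.ext (mem_centralizer_iff.1 g.2 r
      (mem_sylow_of_normal Q (by
        rw [Subgroup.orderOf_coe]; exact orderOf_eq_pow_of_mem R.isPGroup' hr)))))
  have hO : t ∈ pPrimeCore q G := H3.map_pPrimeCore_le_pPrimeCore E ⟨⟨t, htE⟩, H3.le_pPrimeCore
    ((Nat.Prime.coprime_iff_not_dvd Fact.out).2 hKq).symm
    (hKm _ (by rwa [← Subgroup.orderOf_coe])), rfl⟩
  obtain ⟨V', a', b', c', d'⟩ := H3.exists_minimal_normal_le (pPrimeCore q G)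
    fun e1 => t1 (mem_bot.1 (e1.le hO))
  obtain ⟨k, hk⟩ := IsPGroup.iff_card.1 (X V' ⟨a', b', d'⟩).1
  have k0 : k = 0 := by
    by_contra h0
    exact H3.not_dvd_card_pPrimeCore q G (((dvd_pow_self q h0).trans hk.symm.dvd).trans
      (card_dvd_of_le c'))
  rw [k0, pow_zero] at hk
  exact b' (card_eq_one.1 hk)

theorem main (hAB : ∀ r : ℕ, r.Prime → r ∈ A ∨ r ∈ B) (h2 : 2 ∈ A) (hq : q ∈ A) (hp : p ∈ B) :
    ∀ (n : ℕ) (G : Type u) [Group G] [Finite G], Nat.card G = n → Hy G p q A B →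
      (∃ x : G, p ∣ cs[x]) → (∃ x : G, q ∣ cs[x]) → Group.IsSolvable G := by
  intro n
  induction n using Nat.strong_induction_on with
  | _ n ih =>
    intro G _ _ hn h vp vq
    refine step hAB h2 hq hp h vp vq fun V _ hV => ih _ ?_ (G ⧸ V) rfl ⟨fun x hx r hr h1 => ?_,
      fun x hx r hr h1 => ?_⟩
    · rw [← hn, card_eq_card_quotient_mul_card_subgroup V]
      exact lt_mul_of_one_lt_right Nat.card_pos ((one_lt_card_iff_ne_bot V).2 hV)
    · obtain ⟨x, rfl⟩ := QuotientGroup.mk_surjective x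
      exact h.a x (hx.trans (cs_mk_dvd V x)) r hr (h1.trans (cs_mk_dvd V x))
    · obtain ⟨x, rfl⟩ := QuotientGroup.mk_surjective x
      exact h.b x (hx.trans (cs_mk_dvd V x)) r hr (h1.trans (cs_mk_dvd V x))

end Cfsg.Agent.H92.Di
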