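import Cfsg.Agent.H50.E83Defs2
import Cfsg.Agent.S5529

/-! `E₈(3)` does not contain the configuration of `L₂(32)`. -/

set_option autoImplicit false

namespace Cfsg.Agent.H92.E83L32

open Equiv Cfsg.Lie H37 H40 H34 H29 Module Cfsg.Agent.H50.E83

/-- Scott's lemma when a subgroup of order prime to the characteristic has no fixed vector. -/
theorem scott_of {k W G E : Type*} [Field k] [AddCommGroup W] [Module k W] [FiniteDimensional k W]
    [Group G] [Group E] [Fintype E] (hE : (Fintype.card E : k) ≠ 0) (ρ : G →* Module.End k W)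
    (a b : G) (u : E →* G) (hu : ∀ e, u e ∈ Subgroup.closure {a, b})
    (h0 : ∀ v, (∀ e, ρ (u e) v = v) → v = 0) :
    finrank k (LinearMap.ker (1 - ρ a)) + finrank k (LinearMap.ker (1 - ρ b)) +
      finrank k (LinearMap.ker (1 - ρ (a * b)⁻¹)) ≤ finrank k W := by
  have h1 := Cfsg.Agent.S5529.scott (ρ a) (ρ b) (ρ (a * b)⁻¹)
    (by rw [← map_mul, ← map_mul, mul_inv_cancel, map_one])
  have hinv : ∀ (g : G) (v : W), ρ g (ρ g⁻¹ v) = v := fun g v => by
    rw [← Module.End.mul_apply, ← map_mul, mul_inv_cancel, map_one, Module.End.one_apply]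
  have h2 : LinearMap.ker (1 - ρ a) ⊓ LinearMap.ker (1 - ρ b) = ⊥ := by
    rw [eq_bot_iff]
    rintro v ⟨ha, hb⟩
    have ha' : ρ a v = v := (sub_eq_zero.1 ha).symm
    have hb' : ρ b v = v := (sub_eq_zero.1 hb).symm
    have key : ∀ g ∈ Subgroup.closure {a, b}, ρ g v = v := fun g hg => by
      induction hg using Subgroup.closure_induction with
      | mem x hx => rcases hx with rfl | rfl <;> assumption
      | one => simp
      | mul x y _ _ hx hy => rw [map_mul, Module.End.mul_apply, hy, hx]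
      | inv x _ hx =>
        have := hinv x⁻¹ v
        rwa [inv_inv, hx] at this
    exact h0 v fun e => key _ (hu e)
  have h3 : LinearMap.range (1 - ρ a) ⊔ LinearMap.range (1 - ρ b) = ⊤ := by
    set R := LinearMap.range (1 - ρ a) ⊔ LinearMap.range (1 - ρ b)
    have key : ∀ g ∈ Subgroup.closure {a, b}, ∀ v, v - ρ g v ∈ R := fun g hg => by
      induction hg using Subgroup.closure_induction with
      | mem x hx =>
        rcases hx with rfl | rfl
        · exact fun v => Submodule.mem_sup_left ⟨v, rfl⟩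
        · exact fun v => Submodule.mem_sup_right ⟨v, rfl⟩
      | one => simp
      | mul x y _ _ hx hy =>
        intro v
        rw [map_mul, Module.End.mul_apply, ← sub_add_sub_cancel v (ρ y v)]
        exact R.add_mem (hy v) (hx _)
      | inv x _ hx =>
        intro v
        have := R.neg_mem (hx (ρ x⁻¹ v))
        rwa [hinv, neg_sub] at this
    rw [eq_top_iff]
    intro v _
    have h4 : ∑ e, ρ (u e) v = 0 := h0 _ fun e' => by
      rw [map_sum]
      refine Fintype.sum_equiv (Equiv.mulLeft e') _ _ fun e => ?_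
      rw [← Module.End.mul_apply, ← map_mul, ← map_mul, Equiv.coe_mulLeft]
    have h5 : ∑ e, (v - ρ (u e) v) ∈ R := R.sum_mem fun e _ => key _ (hu e) v
    rw [Finset.sum_sub_distrib, h4, sub_zero, Finset.sum_const, Finset.card_univ,
      ← Nat.cast_smul_eq_nsmul k] at h5
    exact (R.smul_mem_iff hE).1 h5
  rw [h2, h3, finrank_bot, finrank_top] at h1
  omega

theorem z0_f11 : z0 11 f11 = 20 := by
  have : f11 = fun r : Rt => ∑ j : Fin chevE8.rank,
      gt rcE8 r j * (([1, 1, 0, 0, 0, 0, 1, 1] : List ℕ).getD j 0 : ℕ) :=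
    funext fun r => by simp only [f11, vN, rc_eq C8 tabOKE8]
  rw [this]
  decide +kernel

theorem ker_eq (g : GK) : LinearMap.ker (1 - act g) = eig g 1 := by
  ext v
  rw [mem_eig, one_smul, LinearMap.mem_ker, LinearMap.sub_apply, sub_eq_zero, eq_comm,
    Module.End.one_apply]

theorem finrank_V : finrank K V = 248 := by
  rw [Module.finrank_fintype_fun_eq_card]
  decide +kernel

theorem l32 (hMu : MuStmt) (hBr : BrStmt) (hTr : Tr4Stmt) (hC : C11Stmt) (hF : Fix3Stmt)
    (hI : Inv11Stmt) : L32Stmt := by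
  rintro ⟨a, b, y, t, u, aa, a1, b3, ab11, ab1, y11, y1, yb, ty, at', au, hu⟩
  obtain ⟨m1, -, m3, -, m5, m6⟩ := hMu
  have cast_ne : ∀ n : ℕ, ¬ 3 ∣ n → (n : K) ≠ 0 := fun n hn e =>
    hn ((CharP.cast_eq_zero_iff K 3 n).1 e)
  obtain ⟨ζ, hζ, -⟩ := exists_prim_unit K (N := 11) (cast_ne 11 (by norm_num))
  obtain ⟨h, hc, hl⟩ := hC y ζ hζ y11 y1
  obtain ⟨c, hc⟩ := isConj_iff.1 hc
  have hh : h = c⁻¹ * ι y * c := by rw [← hc]; group
  have cj : ∀ g : GK, IsConj g (c⁻¹ * g * c) := fun g => isConj_iff.2 ⟨c⁻¹, by rw [inv_inv]⟩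
  have tt : t * t = 1 := by
    obtain ⟨d, rfl⟩ := isConj_iff.1 at'
    rw [conj_mul, aa, mul_one, mul_inv_cancel]
  have h1 : 113 ≤ mu (ι a) (-1) := by
    rw [m1 _ _ _ ((ι.map_isConj at').trans (cj _))]
    refine hI ζ h _ hζ hl ?_ ?_
    · calc _ = c⁻¹ * ι (t * t) * c := by rw [map_mul]; group
        _ = 1 := by rw [tt, map_one]; group
    · calc _ = c⁻¹ * ι (t * y * t⁻¹) * c := by rw [hh, map_mul, map_mul, map_inv]; group
        _ = _ := by rw [ty, hh, map_inv]; group
  have h2 : 101 ≤ mu (ι b) 1 := by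
    rw [m1 _ _ _ (cj _)]
    refine hF ζ h _ hζ hl ?_ ?_
    · rw [hh]
      calc _ = c⁻¹ * ι (y * b) * c := by rw [map_mul]; group
        _ = _ := by rw [yb.eq, map_mul]; group
    · calc _ = c⁻¹ * ι (b ^ 3) * c := by rw [map_pow, pow_three, pow_three]; group
        _ = 1 := by rw [b3, map_one]; group
  have h3 : mu (ι (a * b)⁻¹) 1 = 28 := by
    obtain ⟨h', hc', hl'⟩ := hC (a * b)⁻¹ ζ hζ (by rw [inv_pow, ab11, inv_one]) (inv_ne_one.2 ab1)
    have := m3 ζ 11 h' f11 hζ hl' 0
    simp only [zpow_zero, Units.val_one, Int.cast_zero, if_true, sub_zero] at this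
    rw [← m1 _ _ _ hc', this, z0_f11]
  have h4 := m5 (ι a) (by rw [← map_mul, aa, map_one])
  have h5 := (hTr a (by rw [show 4 = 2 * 2 from rfl, pow_mul, sq a, aa, one_pow])).1
    (by rw [sq, aa]) a1
  have h6 : tau (ι a) = -8 := by unfold tau at h5 ⊢; omega
  have h7 : mu (ι a) 1 = 120 := by unfold tau at h6; omega
  have cE : Fintype.card (Multiplicative (Fin 5 → ZMod 2)) = 32 := by simp
  have h8 := hBr (Multiplicative (Fin 5 → ZMod 2))
    (IsPGroup.of_card (n := 5) (by rw [Nat.card_eq_fintype_card, cE]; rfl)) (ι.comp u) 1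
  simp only [MonoidHom.one_apply, Units.val_one, one_mul, Int.cast_one, MonoidHom.comp_apply] at h8
  rw [← Finset.add_sum_erase _ _ (Finset.mem_univ 1), map_one, map_one, m6,
    Finset.sum_congr rfl (g := fun _ => -8) (fun e he => by
      rw [← h6, tau, tau, m1 _ _ _ (ι.map_isConj (au e (Finset.ne_of_mem_erase he))),
        m1 _ _ _ (ι.map_isConj (au e (Finset.ne_of_mem_erase he)))]),
    Finset.sum_const, Finset.card_erase_of_mem (Finset.mem_univ _), Finset.card_univ, cE] at h8
  have h9 : (⨅ e, eig (ι (u e)) 1 : Submodule K V) = ⊥ := by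
    norm_num at h8
    exact h8
  have h10 := scott_of (k := K) (by rw [cE]; exact cast_ne 32 (by norm_num)) (act.comp ι) a b u hu
    fun v hv => by
      rw [← Submodule.mem_bot K, ← h9, Submodule.mem_iInf]
      exact fun e => mem_eig.2 (by rw [one_smul]; exact hv e)
  rw [MonoidHom.comp_apply, MonoidHom.comp_apply, MonoidHom.comp_apply, ker_eq, ker_eq, ker_eq,
    finrank_V] at h10
  change mu _ 1 + mu _ 1 + mu _ 1 ≤ 248 at h10
  omega

end Cfsg.Agent.H92.E83L32
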