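import Cfsg.Agent.H76.K4Defs

/-! Project K4, piece PL: the planar case. -/

set_option autoImplicit false

namespace Cfsg.Agent.H92.K4Pl

open Cfsg.Agent.H76.K4

theorem aux (N s k : ℤ) (h1 : 2 * N * (2 * k) = s ^ 2 + 3) (h2 : -N ≤ s) (h3 : s ≤ N)
    (h4 : s ≤ 2 * k + 3) (h5 : -s ≤ 2 * k + 3) (hN : 9 ≤ N) : False := by
  have k0 : 1 ≤ k := by nlinarith [sq_nonneg s]
  have a : s ^ 2 ≤ N ^ 2 := by nlinarith
  have b : s ^ 2 ≤ (2 * k + 3) ^ 2 := by nlinarith
  have c : 4 * k ≤ N := by nlinarith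
  nlinarith

theorem pl : PlStmt := by
  intro q x y a b hq hab h
  have hN : x ^ 2 + x * y + y ^ 2 ≤ 8 := by
    by_contra c
    have D0 : 0 < 2 * (x ^ 2 + x * y + y ^ 2) := by omega
    obtain ⟨k, hk1, hk2⟩ : ∃ k : ℤ, -(x ^ 2 + x * y + y ^ 2) ≤
        (2 * x + y) * (-b) + (x + 2 * y) * a + k * (2 * (x ^ 2 + x * y + y ^ 2)) ∧
        (2 * x + y) * (-b) + (x + 2 * y) * a + k * (2 * (x ^ 2 + x * y + y ^ 2)) ≤
          x ^ 2 + x * y + y ^ 2 := by
      generalize (2 * x + y) * (-b) + (x + 2 * y) * a = s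
      generalize x ^ 2 + x * y + y ^ 2 = N at D0
      refine ⟨-((s + N) / (2 * N)), ?_, ?_⟩
      · have := Int.emod_nonneg (s + N) D0.ne'
        have := Int.emod_add_mul_ediv (s + N) (2 * N)
        nlinarith
      · have := Int.emod_lt_of_pos (s + N) D0
        have := Int.emod_add_mul_ediv (s + N) (2 * N)
        nlinarith
    have h1 := h (-b + k * x) (a + k * y)
    have h2 := h (-(-b + k * x)) (-(a + k * y))
    have e : x * (a + k * y) - y * (-b + k * x) = 1 := by linear_combination hab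
    have es : (2 * x + y) * (-b) + (x + 2 * y) * a + k * (2 * (x ^ 2 + x * y + y ^ 2)) =
        (2 * x + y) * (-b + k * x) + (x + 2 * y) * (a + k * y) := by ring
    rw [es] at hk1 hk2
    generalize -b + k * x = u at *
    generalize a + k * y = v at *
    have id : 2 * (x ^ 2 + x * y + y ^ 2) * (2 * (u ^ 2 + u * v + v ^ 2)) =
        ((2 * x + y) * u + (x + 2 * y) * v) ^ 2 + 3 := by
      linear_combination 3 * (x * v - y * u + 1) * e
    subst hq
    refine aux _ _ _ id hk1 hk2 ?_ ?_ (by omega)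
    · linear_combination h1 + id
    · linear_combination h2 + id
  have x1 : x ≤ 3 := by nlinarith [sq_nonneg (x + 2 * y)]
  have x2 : -3 ≤ x := by nlinarith [sq_nonneg (x + 2 * y)]
  have y1 : y ≤ 3 := by nlinarith [sq_nonneg (2 * x + y)]
  have y2 : -3 ≤ y := by nlinarith [sq_nonneg (2 * x + y)]
  clear h
  interval_cases x <;> interval_cases y <;> omega

end Cfsg.Agent.H92.K4Pl
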