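import Cfsg.Agent.H92.KPi
import Cfsg.Agent.H67.Hall
import Cfsg.Agent.H67.Fit
import Cfsg.Agent.H2.NilpotentHall
import Cfsg.Agent.H24.Deg
import Cfsg.Agent.H3.Fitting

/-!
Many classes of `π`-elements force a nilpotent Hall `π`-subgroup.
-/

set_option autoImplicit false

namespace Cfsg.Agent.H92

open Subgroup Cfsg.Agent.H63 Cfsg.Agent.H67
open scoped Pointwise commutatorElement
open Cfsg.Agent.H2 (IsPiNum)

universe u

variable {G : Type u} [Group G] [Finite G]

/-- The class number in terms of the commutator factor group. -/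
theorem sq_mul_card_conjClasses_le {p : ℕ} (hp : ∀ q : ℕ, q.Prime → q ∣ Nat.card G → p ≤ q) :
    p ^ 2 * Nat.card (ConjClasses G) + (commutator G).index ≤
      Nat.card G + p ^ 2 * (commutator G).index := by
  classical
  haveI : Fintype (IrrCharacter G) := Fintype.ofFinite _
  have h1 := H24.sum_deg_sq (G := G)
  have h2 := H24.sum_deg_sq_le_charKer (commutator G)
  set L := Finset.univ.filter fun χ : IrrCharacter G => commutator G ≤ H11.charKer (χ : G → ℂ)
    with hL
  have h3 : L.card = (commutator G).index := by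
    rw [← h2, Finset.card_eq_sum_ones]
    refine Finset.sum_congr rfl fun χ hχ => ?_
    rw [(H24.deg_eq_one_iff_commutator_le χ.2).2 (Finset.mem_filter.1 hχ).2, one_pow]
  have h4 : Lᶜ.card * p ^ 2 ≤ ∑ χ ∈ Lᶜ, charDegree (χ : G → ℂ) ^ 2 := by
    rw [← smul_eq_mul]
    refine Finset.card_nsmul_le_sum _ _ _ fun χ hχ => Nat.pow_le_pow_left ?_ 2
    have h5 : charDegree (χ : G → ℂ) ≠ 1 := fun h => (Finset.mem_compl.1 hχ)
      (Finset.mem_filter.2 ⟨Finset.mem_univ _, (H24.deg_eq_one_iff_commutator_le χ.2).1 h⟩)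
    obtain ⟨q, hq, hqd⟩ := Nat.exists_prime_and_dvd h5
    have h6 := H24.deg_dvd_card χ.2
    exact (hp q hq (hqd.trans h6)).trans (Nat.le_of_dvd
      (Nat.pos_of_ne_zero (ne_zero_of_dvd_ne_zero Nat.card_pos.ne' h6)) hqd)
  rw [← Finset.sum_add_sum_compl L, h2] at h1
  have h5 := Finset.card_add_card_compl L
  rw [← Nat.card_eq_fintype_card, H11.card_irr_eq_card_conjClasses, h3] at h5
  rw [← h5, ← h1]
  nlinarith

theorem nilpotent_of_lt_mul_card_conjClasses {p : ℕ} (hp' : p.Prime)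
    (hp : ∀ q : ℕ, q.Prime → q ∣ Nat.card G → p ≤ q)
    (h : Nat.card G < p * Nat.card (ConjClasses G)) :
    Group.IsNilpotent G ∧ Nat.card (commutator G) ≤ p := by
  have h1 := sq_mul_card_conjClasses_le hp
  have h2 := (commutator G).card_mul_index
  set c := Nat.card (commutator G) with hc
  set l := (commutator G).index
  have hl : 0 < l := Nat.pos_of_ne_zero FiniteIndex.index_ne_zero
  have h3 : c ≤ p := by
    by_contra hlt
    push Not at hlt
    rw [← h2] at h h1
    obtain ⟨s, rfl⟩ := Nat.exists_eq_add_of_le hp'.one_le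
    have h4 : (s + 2) * l ≤ c * l := Nat.mul_le_mul_right _ (by omega)
    nlinarith
  refine ⟨?_, h3⟩
  have h4 : commutator G ≤ center G := by
    by_cases h5 : c = 1
    · rw [card_eq_one.1 h5]; exact bot_le
    obtain ⟨q, hq, hqd⟩ := Nat.exists_prime_and_dvd h5
    have h6 := hp q hq (hqd.trans (card_subgroup_dvd_card _))
    have h7 : q ≤ c := Nat.le_of_dvd Nat.card_pos hqd
    have h8 : c = p := by omega
    haveI : Fact p.Prime := ⟨hp'⟩
    haveI : IsCyclic (commutator G) := isCyclic_of_prime_card h8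
    have h9 : Nat.card (MulAut (commutator G)) = p - 1 := by
      rw [IsCyclic.card_mulAut, ← hc, h8, Nat.totient_prime hp']
    have h10 : (MulAut.conjNormal : G →* MulAut (commutator G)).range = ⊥ := by
      rw [← card_eq_one]
      by_contra h11
      obtain ⟨r, hr, hrd⟩ := Nat.exists_prime_and_dvd h11
      have h12 := hp r hr (hrd.trans (card_range_dvd _))
      have h13 := Nat.le_of_dvd (by have := hp'.two_le; omega)
        (h9 ▸ hrd.trans (card_subgroup_dvd_card _))
      have := hp'.two_le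
      omega
    intro x hx
    rw [mem_center_iff]
    intro g
    have h11 : MulAut.conjNormal g = (1 : MulAut (commutator G)) :=
      mem_bot.1 (h10 ▸ MonoidHom.mem_range.2 ⟨g, rfl⟩)
    have h12 := congrArg (fun e : MulAut (commutator G) => (e ⟨x, hx⟩ : G)) h11
    simpa [mul_inv_eq_iff_eq_mul] using h12
  haveI : Group.IsNilpotent (G ⧸ commutator G) := inferInstanceAs (Group.IsNilpotent
    (Abelianization G))
  exact Subgroup.isNilpotent_of_ker_le_center (QuotientGroup.mk' (commutator G)) (by simpa using h4)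

theorem cube_mul_card_conjClasses_le {p : ℕ} (hp' : p.Prime)
    (hp : ∀ q : ℕ, q.Prime → q ∣ Nat.card G → p ≤ q) (h : ¬ IsMulCommutative G) :
    p ^ 3 * Nat.card (ConjClasses G) ≤ Nat.card G * (p ^ 2 + p - 1) := by
  have h1 := sq_mul_card_conjClasses_le hp
  have h2 := (commutator G).card_mul_index
  have h5 : Nat.card (commutator G) ≠ 1 := fun h5 => h ⟨⟨fun a b => by
    have : ⁅a, b⁆ ∈ commutator G := commutator_mem_commutator (mem_top a) (mem_top b)
    rw [card_eq_one.1 h5, mem_bot] at this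
    exact commutatorElement_eq_one_iff_mul_comm.1 this⟩⟩
  obtain ⟨q, hq, hqd⟩ := Nat.exists_prime_and_dvd h5
  have h6 := (hp q hq (hqd.trans (card_subgroup_dvd_card _))).trans
    (Nat.le_of_dvd Nat.card_pos hqd)
  set c := Nat.card (commutator G)
  set l := (commutator G).index
  obtain ⟨s, rfl⟩ := Nat.exists_eq_add_of_le hp'.one_le
  have h4 : (1 + s) * l ≤ c * l := Nat.mul_le_mul_right _ h6
  rw [← h2] at h1 ⊢
  rw [show (1 + s) ^ 2 + (1 + s) - 1 = (1 + s) ^ 2 + s by omega]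
  have h7 : (s * s + 2 * s) * ((1 + s) * l) ≤ (s * s + 2 * s) * (c * l) :=
    Nat.mul_le_mul_left _ h4
  nlinarith

theorem kpi_le_card_conjClasses {π : Set ℕ} (H : Subgroup G)
    (h : ∀ x : G, IsPiNum π (orderOf x) → ∃ g : G, g * x * g⁻¹ ∈ H) :
    kpi π G ≤ Nat.card (ConjClasses H) := by
  rw [kpi]
  have : ∀ c : {c : ConjClasses G // IsPiClass π c}, ∃ d : ConjClasses H,
      ConjClasses.map H.subtype d = c.1 := by
    rintro ⟨c, hc⟩
    obtain ⟨y, rfl⟩ := ConjClasses.mk_surjective c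
    obtain ⟨g, hg⟩ := h y (isPiClass_mk.1 hc)
    exact ⟨ConjClasses.mk ⟨_, hg⟩,
      ConjClasses.mk_eq_mk_iff_isConj.2 (isConj_iff.2 ⟨g, rfl⟩).symm⟩
  choose f hf using this
  exact Nat.card_le_card_of_injective f fun a b hab => Subtype.ext (by rw [← hf a, ← hf b, hab])

theorem kpi_le_of_equiv {G' : Type u} [Group G'] [Finite G'] (π : Set ℕ) (e : G ≃* G') :
    kpi π G ≤ kpi π G' := by
  refine Nat.card_le_card_of_injective
    (fun c => ⟨ConjClasses.map e.toMonoidHom c.1, ?_⟩) fun a b hab => ?_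
  · obtain ⟨c, hc⟩ := c
    obtain ⟨y, rfl⟩ := ConjClasses.mk_surjective c
    refine isPiClass_mk.2 ?_
    have := isPiClass_mk.1 hc
    rwa [← e.orderOf_eq] at this
  · obtain ⟨a, ha⟩ := a
    obtain ⟨b, hb⟩ := b
    obtain ⟨x, rfl⟩ := ConjClasses.mk_surjective a
    obtain ⟨y, rfl⟩ := ConjClasses.mk_surjective b
    have h1 : IsConj (e x) (e y) := ConjClasses.mk_eq_mk_iff_isConj.1 (congrArg Subtype.val hab)
    have h2 := e.symm.toMonoidHom.map_isConj h1
    exact Subtype.ext (ConjClasses.mk_eq_mk_iff_isConj.2 (by simpa using h2))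

theorem kpi_le_piPart (π : Set ℕ) (H : Subgroup G) : kpi π H ≤ piPart π (Nat.card G) :=
  kpi_le _ H π (piPart_pos π _).ne' fun _ hd hd' =>
    PiNat.dvd_piPart hd' (hd.trans (card_subgroup_dvd_card H)) Nat.card_pos.ne'

/-- Many classes of `p`-elements give an abelian Sylow subgroup and a normal complement. -/
theorem npc_of_lt_kpi {p : ℕ} [Fact p.Prime] (P : Sylow p G)
    (h : (p + 1) * Nat.card (P : Subgroup G) < 2 * p * kpi {p} G) :
    HasNormalPComplement p G ∧ IsMulCommutative (P : Subgroup G) := by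
  classical
  have hpp : p.Prime := Fact.out
  have := Fintype.ofFinite G
  have hp1 : (2 : ℚ) ≤ p := by exact_mod_cast hpp.two_le
  rw [← Nat.cast_lt (α := ℚ)] at h
  push_cast at h
  rw [kpi_singleton_eq_sum P] at h
  refine hasNormalPComplement_of_isol_eq P ?_
  by_contra hne
  have h1 : p * Nat.card (isol P) ≤ Nat.card (P : Subgroup G) := by
    rw [← H1.card_mul_relIndex (isol_le P), mul_comm]
    refine Nat.mul_le_mul_left _ (Nat.le_of_dvd
      (Nat.pos_of_ne_zero Subgroup.FiniteIndex.index_ne_zero) ?_)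
    obtain ⟨k, hk⟩ := eq_pow_of_dvd_pow hpp
      (P.card_eq_multiplicity ▸ Subgroup.relIndex_dvd_card (isol P) (P : Subgroup G))
    rcases k with _ | k
    · exact absurd (Subgroup.relIndex_eq_one.1 (by simpa using hk)) hne
    · exact hk ▸ dvd_pow_self p k.succ_ne_zero
  have h2 : ∑ x : G with x ∈ (P : Subgroup G), 1 / (fib (P : Subgroup G) x : ℚ) ≤
      ∑ x : G with x ∈ (P : Subgroup G), (1 / 2 + if x ∈ isol P then 1 / 2 else 0) := by
    refine Finset.sum_le_sum fun x hx => ?_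
    have hx' := (Finset.mem_filter.1 hx).2
    split_ifs with hA
    · rw [fib_eq_one hA]; norm_num
    · rw [add_zero]
      exact one_div_le_one_div_of_le (by norm_num) (by exact_mod_cast two_le_fib hx' hA)
  rw [Finset.sum_add_distrib, Finset.sum_const, ← Finset.sum_filter, Finset.sum_const,
    Finset.filter_filter, card_filter_mem, Finset.filter_congr
      (p := fun x => x ∈ (P : Subgroup G) ∧ x ∈ isol P) (q := fun x => x ∈ isol P)
      (fun x _ => ⟨fun h => h.2, fun h => ⟨isol_le P h, h⟩⟩), card_filter_mem,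
    nsmul_eq_mul, nsmul_eq_mul] at h2
  have h3 : (p : ℚ) * Nat.card (isol P) ≤ Nat.card (P : Subgroup G) := by exact_mod_cast h1
  have h4 := mul_le_mul_of_nonneg_left h2 (show (0 : ℚ) ≤ 2 * p by linarith)
  nlinarith

/-- Wielandt's theorem on nilpotent Hall subgroups, ambient form. -/
theorem exists_le_cj_of_nilpotent_hall {π : Set ℕ} {H M K : Subgroup G} (h : IsPiHallOf π H M)
    (hH : Group.IsNilpotent H) (hK : K ≤ M) (hπ : IsPiSubgroup π K) : ∃ g ∈ M, K ≤ cj g H := by
  obtain ⟨g, hg⟩ := H2.le_conj_of_isNilpotent_isPiHall (K := K.subgroupOf M)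
    (H3.isNilpotent_subgroupOf hH M) (hall_subgroupOf h) (isPi_subgroupOf hπ M)
  refine ⟨g, g.2, ?_⟩
  rw [← cj_eq_smul, ← subgroupOf_cj] at hg
  exact fun x hx => hg (show (⟨x, hK hx⟩ : M) ∈ K.subgroupOf M from hx)

theorem exists_conj_mem_of_nilpotent_hall {π : Set ℕ} {H M : Subgroup G} (h : IsPiHallOf π H M)
    (hH : Group.IsNilpotent H) {x : G} (hx : x ∈ M) (hπ : IsPiNum π (orderOf x)) :
    ∃ g ∈ M, g * x * g⁻¹ ∈ H := by
  obtain ⟨g, hg, h1⟩ := exists_le_cj_of_nilpotent_hall h hH (zpowers_le.2 hx)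
    (isPi_zpowers_iff.2 hπ)
  exact ⟨g⁻¹, inv_mem hg, by simpa using mem_cj.1 (h1 (mem_zpowers x))⟩

/-- Gluing two nilpotent Hall subgroups along a normal complement. -/
theorem exists_hall_union {ρ σ : Set ℕ} (hd : ∀ q ∈ σ, q ∉ ρ) {N R S : Subgroup G} [N.Normal]
    (hN : IsPiSubgroup ρᶜ N) (hNi : PiNat ρ N.index) (hR : IsPiHallOf ρ R ⊤)
    (hRn : Group.IsNilpotent R) (hS : IsPiHallOf σ S ⊤) (hSn : Group.IsNilpotent S) :
    ∃ H : Subgroup G, IsPiHallOf (ρ ∪ σ) H ⊤ ∧
      ∀ x : G, IsPiNum (ρ ∪ σ) (orderOf x) → ∃ g : G, g * x * g⁻¹ ∈ H := by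
  have hNh : IsPiHallOf ρᶜ N ⊤ := hall_mk le_top hN (by rwa [relIndex_top_right, compl_compl])
  have hNn : ∀ A : Subgroup G, A ≤ N[N] := fun A => le_normalizer_of_normal
  have hle : ∀ K : Subgroup G, IsPiSubgroup σ K → K ≤ N := fun K hK =>
    le_hall_of_le_normalizer hNh le_top (isPi_mono hK hd) (Or.inr (hNn K))
  have hSN : IsPiHallOf σ S N := hall_of_le hS (hle S (hall_isPi hS)) le_top
  obtain ⟨k, -, hk⟩ := exists_cj_normalized (A := R) (K := N) (P := S) (hNn R)
    (isPi_coprime (hall_isPi hR) hN) (Or.inl inferInstance) fun a _ => by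
      have h1 := isPi_cj (hall_isPi hS) a
      obtain ⟨g, hg, h2⟩ := exists_le_cj_of_nilpotent_hall hSN hSn (hle _ h1) h1
      exact ⟨g, hg, eq_of_le_of_card_ge h2 (by rw [card_cj, card_cj])⟩
  have hS' := hall_cj_top hS k
  have hSn' := (isNilpotent_cj_iff (g := k)).2 hSn
  set T := cj k S
  have hTN : IsPiHallOf σ T N := hall_of_le hS' (hle T (hall_isPi hS')) le_top
  refine ⟨R ⊔ T, hall_sup hR hS' (Or.inl hk), fun z hz => ?_⟩
  obtain ⟨a, b, ha, hb, hab, ha1, hb1⟩ := exists_pi_parts ρ z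
  obtain ⟨g, -, hg⟩ := exists_conj_mem_of_nilpotent_hall hR hRn (mem_top a) ha1
  have hb2 : IsPiNum σ (orderOf (g * b * g⁻¹)) := by
    rw [orderOf_conj]
    exact fun q hq hqd => (hz q hq (hqd.trans (orderOf_dvd_of_mem_zpowers hb))).resolve_left
      (hb1 q hq hqd)
  set x := g * a * g⁻¹
  set y := g * b * g⁻¹
  have hxy : Commute x y := (commute_of_mem_zpowers ha hb).conj g
  have hxR : zpowers x ≤ R := zpowers_le.2 hg
  have hT : IsPiHallOf σ (T ⊓ C[zpowers x]) (N ⊓ C[zpowers x]) := by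
    refine ⟨inf_le_inf_right _ (hall_le hTN), isPi_of_le (hall_isPi hTN) inf_le_left,
      fun r hr hrσ hrd => ?_⟩
    haveI : Fact r.Prime := ⟨hr⟩
    have h1 : IsSyl r O[{r}](T) N := syl_of_hall hTN hrσ (hall_piCoreOf_of_isNilpotent _ hSn')
    have h2 := coprime_syl_centralizer (A := zpowers x) (hNn _)
      (isPi_coprime (isPi_of_le (hall_isPi hR) hxR) hN) (Or.inl inferInstance) h1
      (le_normalizer_piCoreOf (hxR.trans hk))
    exact syl_not_dvd h2 (hrd.trans (relIndex_dvd_of_le_left _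
      (inf_le_inf_right _ (piCoreOf_le _ _))))
  obtain ⟨c, hc, hcy⟩ := exists_conj_mem_of_nilpotent_hall hT
    (H3.isNilpotent_of_le inf_le_left hSn') (x := y)
    ⟨hle _ (isPi_zpowers_iff.2 hb2) (mem_zpowers y), by
      rw [H67.centralizer_zpowers]; exact mem_C'.2 hxy⟩ hb2
  refine ⟨c * g, ?_⟩
  have h3 : c * x * c⁻¹ = x := conj_eq_of_mem_centralizer hc.2 (mem_zpowers x)
  have h4 : c * g * z * (c * g)⁻¹ = (c * x * c⁻¹) * (c * y * c⁻¹) := by
    rw [hab]; simp only [x, y]; group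
  rw [h4, h3]
  exact mul_mem (mem_sup_left hg) (mem_sup_right hcy.1)

theorem piPart_split {π : Set ℕ} {q n : ℕ} (hq : q ∈ π) (hn : n ≠ 0) :
    piPart π n = piPart {q} n * piPart (π \ {q}) n := by
  have h1 := piPart_mul_piPart_compl π hn
  have h2 := piPart_mul_piPart_compl {q} (piPart_pos π n).ne'
  have hd : piPart {q}ᶜ (piPart π n) ∣ piPart π n := piPart_dvd _ _
  have h3 : piPart {q} n = piPart {q} (piPart π n) := by
    refine piPart_eq_of_mul (b := piPart {q}ᶜ (piPart π n) * piPart πᶜ n) (piNat_piPart _ _)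
      ((piNat_piPart _ _).mul ((piNat_piPart _ _).mono ?_)) (by rw [← mul_assoc, h2, h1]) hn
    rintro r hr rfl
    exact hr hq
  have h4 : piPart (π \ {q}) n = piPart {q}ᶜ (piPart π n) := by
    refine piPart_eq_of_mul (b := piPart {q} (piPart π n) * piPart πᶜ n)
      (((piNat_piPart _ _).of_dvd hd).inter (piNat_piPart _ _))
      (((piNat_piPart _ _).mono ?_).mul ((piNat_piPart _ _).mono ?_))
      (by rw [← mul_assoc, mul_comm (piPart {q}ᶜ _), h2, h1]) hn
    · exact fun r hr h => h.2 hr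
    · exact fun r hr h => hr h.1
  rw [h3, h4, h2]

theorem card_sylow_eq_piPart {q : ℕ} [hq : Fact q.Prime] (Q : Sylow q G) :
    Nat.card (Q : Subgroup G) = piPart {q} (Nat.card G) := by
  rw [piPart_singleton hq.out Nat.card_pos.ne', Q.card_eq_multiplicity]

theorem kpi_le_singleton_mul (π : Set ℕ) (r : ℕ) :
    kpi π G ≤ kpi {r} G * piPart (π \ {r}) (Nat.card G) :=
  kpi_le_mul (σ := π \ {r}) (fun _ hq hq' => ⟨hq, hq'⟩) fun _ _ => kpi_le_piPart _ _

theorem kpi_le_diff_mul (π : Set ℕ) (r : ℕ) :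
    kpi π G ≤ kpi (π \ {r}) G * piPart {r} (Nat.card G) :=
  kpi_le_mul (ρ := π \ {r}) (σ := {r}) (fun q hq hq' => by_contra fun h => hq' ⟨hq, h⟩)
    fun _ _ => kpi_le_piPart _ _

open Classical in
/-- The key counting inequality. -/
theorem kpi_le_of_not_npc (π : Set ℕ) {q : ℕ} [hq : Fact q.Prime] (Q : Sylow q G)
    (h : ¬ HasNormalPComplement q G) :
    2 * q * kpi π G + Nat.card (Q : Subgroup G) * kpi (π \ {q}) C[(Q : Subgroup G)] ≤
      Nat.card (Q : Subgroup G) *
        (2 * kpi (π \ {q}) G + q * kpi (π \ {q}) C[(Q : Subgroup G)]) := by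
  haveI := Fintype.ofFinite (ConjClasses G)
  haveI := Fintype.ofFinite (ConjClasses C[(Q : Subgroup G)])
  set D := C[(Q : Subgroup G)] with hD
  let Λ : Finset (ConjClasses D) := Finset.univ.filter (IsPiClass (π \ {q}))
  let φ : ConjClasses D → ConjClasses G := ConjClasses.map D.subtype
  let F : ConjClasses G → ℕ := fun c => (Λ.filter fun l => φ l = c).card
  have hq2 : (2 : ℚ) ≤ q := by exact_mod_cast hq.out.two_le
  have hΛ : Λ.card = kpi (π \ {q}) D := by
    rw [kpi, Nat.card_eq_fintype_card, Fintype.card_subtype]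
  set s := Nat.card (Q : Subgroup G) with hs
  have hs0 : (0 : ℚ) ≤ s := Nat.cast_nonneg _
  have h1 := kpi_le_sum (G := G) (π := π) (ρ := π \ {q}) (σ := {q})
    (fun q hq hq' => by_contra fun h => hq' ⟨hq, h⟩)
    (fun c => s / q + s * (q - 1) / (2 * q) * F c) (by
      intro a ha
      have hF0 : (0 : ℚ) ≤ s * (q - 1) / (2 * q) :=
        div_nonneg (mul_nonneg hs0 (by linarith)) (by linarith)
      by_cases hd : q ∣ cs[a]
      · have h2 : ∀ d, d ∣ Nat.card Ce[a] → IsPiNum {q} d → q * d ∣ s := by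
          intro d hd1 hd2
          rw [hs, card_sylow_eq_piPart]
          exact PiNat.dvd_piPart (PiNat.mul (π := {q}) ((piNat_prime hq.out).2 rfl) hd2)
            (cs_mul_card a ▸ Nat.mul_dvd_mul hd hd1) Nat.card_pos.ne'
        obtain ⟨t, ht⟩ := h2 1 (one_dvd _) (H2.isPiNum_one _)
        rw [mul_one] at ht
        have ht0 : t ≠ 0 := by
          rintro rfl
          exact Nat.card_pos.ne' (hs ▸ ht)
        have h3 := kpi_le t Ce[a] {q} ht0 fun d hd1 hd2 =>
          Nat.dvd_of_mul_dvd_mul_left hq.out.pos (ht ▸ h2 d hd1 hd2)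
        have h4 : (s : ℚ) / q = t := by
          rw [ht]; push_cast; field_simp
        rw [h4]
        have : (kpi {q} Ce[a] : ℚ) ≤ t := by exact_mod_cast h3
        have := mul_nonneg hF0 (Nat.cast_nonneg (F (ConjClasses.mk a)))
        linarith
      obtain ⟨g, hg⟩ := (not_dvd_cs_iff_conj Q).1 hd
      have h2 : kpi {q} Ce[a] ≤ kpi {q} Ce[g * a * g⁻¹] := by
        rw [C_conj]
        exact kpi_le_of_equiv _ (cjEquiv g _)
      have h3 : ConjClasses.mk a = ConjClasses.mk (g * a * g⁻¹) :=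
        ConjClasses.mk_eq_mk_iff_isConj.2 (isConj_iff.2 ⟨g, rfl⟩)
      rw [h3]
      refine (Nat.cast_le.2 h2).trans ?_
      have hb : IsPiNum (π \ {q}) (orderOf (g * a * g⁻¹)) := by rwa [orderOf_conj]
      generalize g * a * g⁻¹ = b at hg hb
      have hmem : ∀ (n : G) (hn : n * b * n⁻¹ ∈ D), ConjClasses.mk (⟨_, hn⟩ : D) ∈
          Λ.filter fun l => φ l = ConjClasses.mk b := by
        intro n hn
        refine Finset.mem_filter.2 ⟨Finset.mem_filter.2 ⟨Finset.mem_univ _, isPiClass_mk.2 ?_⟩,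
          ConjClasses.mk_eq_mk_iff_isConj.2 (isConj_iff.2 ⟨n, rfl⟩).symm⟩
        rwa [Subgroup.orderOf_mk, orderOf_conj]
      have h1b : 1 * b * 1⁻¹ ∈ D := by rw [one_mul, inv_one, mul_one]; exact hg
      have hQb : (Q : Subgroup G) ≤ Ce[b] := le_C_iff.2 hg
      have hcard : Nat.card (Q.subtype hQb : Subgroup Ce[b]) = s := by
        rw [Sylow.coe_subtype, H67.card_subgroupOf hQb]
      by_cases h4 : (q + 1) * s < 2 * q * kpi {q} Ce[b]
      · obtain ⟨h5, h6⟩ := npc_of_lt_kpi (Q.subtype hQb) (hcard ▸ h4)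
        obtain ⟨n, hn, hn'⟩ : ∃ n ∈ N[(Q : Subgroup G)], n ∉ D := by
          by_contra hne
          push Not at hne
          exact h (H8.hasNormalPComplement_of_normalizer_le_centralizer Q hne)
        have hnb : n * b * n⁻¹ ∈ D := conj_mem_of_mem_normalizer
          (H67.normalizer_le_normalizer_centralizer _ hn) hg
        have h7 : 2 ≤ F (ConjClasses.mk b) := by
          refine Finset.one_lt_card.2 ⟨_, hmem n hnb, _, hmem 1 h1b, fun he => ?_⟩
          obtain ⟨c, hc⟩ := isConj_iff.1 (ConjClasses.mk_eq_mk_iff_isConj.1 he)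
          have hc' : (c * n) * b * (c * n : G)⁻¹ = b := by
            have := congrArg Subtype.val hc
            simp only [coe_mul, coe_inv, one_mul, inv_one, mul_one] at this
            exact Eq.trans (by group) this
          have hcn : (c * n : G) ∈ Ce[b] := mem_C.2 (mul_inv_eq_iff_eq_mul.1 hc')
          obtain ⟨v, hv, hv'⟩ := H8.fusion_of_isComplement'
            (H8.HasNormalPComplement.isComplement' h5 (Q.subtype hQb)) ⟨_, hcn⟩
          have hcnN : (c * n : G) ∈ N[(Q : Subgroup G)] :=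
            mul_mem (centralizer_le_normalizer _ c.2) hn
          have hcnD : (c * n : G) ∈ D := by
            intro x hx
            have h8 := hv' ⟨x, hQb hx⟩ hx
              (show (c * n : G) * x * (c * n : G)⁻¹ ∈ (Q : Subgroup G) from
                conj_mem_of_mem_normalizer hcnN hx)
            have h9 := congrArg Subtype.val (congrArg Subtype.val
              (h6.is_comm.comm ⟨v, hv⟩ ⟨⟨x, hQb hx⟩, hx⟩))
            have h10 := congrArg Subtype.val h8
            simp only [coe_mul, coe_inv] at h9 h10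
            rw [h9, mul_inv_cancel_right, eq_mul_inv_iff_mul_eq] at h10
            exact h10
          exact hn' ((mul_mem_cancel_left c.2).1 hcnD)
        have h8 : (kpi {q} Ce[b] : ℚ) ≤ s := by
          exact_mod_cast hcard ▸ kpi_singleton_le (Q.subtype hQb)
        have h9 : (2 : ℚ) ≤ F (ConjClasses.mk b) := by exact_mod_cast h7
        have h10 : (s : ℚ) = s / q + s * (q - 1) / (2 * q) * 2 := by field_simp; ring
        have := mul_le_mul_of_nonneg_left h9 hF0
        linarith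
      · have h7 : 1 ≤ F (ConjClasses.mk b) :=
          Finset.card_pos.2 ⟨_, hmem 1 h1b⟩
        have h8 : (2 * q * kpi {q} Ce[b] : ℚ) ≤ (q + 1) * s := by exact_mod_cast not_lt.1 h4
        have h9 : (1 : ℚ) ≤ F (ConjClasses.mk b) := by exact_mod_cast h7
        have h10 : ((q + 1) * s : ℚ) / (2 * q) = s / q + s * (q - 1) / (2 * q) * 1 := by
          field_simp; ring
        have h11 : (kpi {q} Ce[b] : ℚ) ≤ (q + 1) * s / (2 * q) := by
          rw [le_div_iff₀ (by linarith)]; linarith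
        have := mul_le_mul_of_nonneg_left h9 hF0
        linarith)
  rw [Finset.sum_add_distrib, Finset.sum_const, ← Finset.mul_sum, nsmul_eq_mul,
    ← Fintype.card_subtype, ← Nat.card_eq_fintype_card] at h1
  have h2 : ∑ c : ConjClasses G with IsPiClass (π \ {q}) c, F c ≤ Λ.card := by
    rw [Finset.card_eq_sum_card_fiberwise (f := φ) (t := Finset.univ) (fun _ _ => by simp)]
    exact Finset.sum_le_sum_of_subset (Finset.filter_subset _ _)
  rw [hΛ] at h2
  have h3 : ∑ c : ConjClasses G with IsPiClass (π \ {q}) c, (F c : ℚ) ≤ kpi (π \ {q}) D := by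
    exact_mod_cast h2
  have h4 : (0 : ℚ) ≤ s * (q - 1) / (2 * q) :=
    div_nonneg (mul_nonneg hs0 (by linarith)) (by linarith)
  have h5 := h1.trans (add_le_add_right (mul_le_mul_of_nonneg_left h3 h4) _)
  change (kpi π G : ℚ) ≤ kpi (π \ {q}) G * (s / q) + _ at h5
  have h6 := mul_le_mul_of_nonneg_left h5 (show (0 : ℚ) ≤ 2 * q by linarith)
  have h7 : (2 * q : ℚ) * (kpi (π \ {q}) G * (s / q) + s * (q - 1) / (2 * q) *
      kpi (π \ {q}) D) = s * (2 * kpi (π \ {q}) G + q * kpi (π \ {q}) D) -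
        s * kpi (π \ {q}) D := by
    field_simp; ring
  rw [h7, le_sub_iff_add_le] at h6
  exact_mod_cast h6

theorem exists_nilpotent_hall_of_lt_kpi {p : ℕ} (hp : p.Prime) (m : ℕ) :
    ∀ (G : Type u) [Group G] [Finite G] (π : Set ℕ), (∀ q ∈ π, q.Prime → p ≤ q) →
      piPart π (Nat.card G) = m → m < p * kpi π G →
      ∃ H : Subgroup G, IsPiHallOf π H ⊤ ∧ Group.IsNilpotent H := by
  induction m using Nat.strong_induction_on with | _ m ih => ?_
  intro G _ _ π hmin hm h
  have hG : Nat.card G ≠ 0 := Nat.card_pos.ne'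
  by_cases h1 : m = 1
  · exact ⟨⊥, hall_of_card bot_le (by rw [card_top, hm, h1, card_bot]), inferInstance⟩
  have hm0 : m ≠ 0 := hm ▸ (piPart_pos _ _).ne'
  have hne : m.primeFactors.Nonempty := Nat.nonempty_primeFactors.2 (by omega)
  obtain ⟨q, hqm, hqmax⟩ := m.primeFactors.exists_max_image id hne
  have hq : q.Prime := Nat.prime_of_mem_primeFactors hqm
  have hqd : q ∣ m := Nat.dvd_of_mem_primeFactors hqm
  have hqπ : q ∈ π := piNat_piPart π _ q hq (hm ▸ hqd)
  haveI : Fact q.Prime := ⟨hq⟩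
  obtain ⟨Q⟩ : Nonempty (Sylow q G) := inferInstance
  have hsplit := piPart_split hqπ hG
  rw [hm, ← card_sylow_eq_piPart Q] at hsplit
  set s := Nat.card (Q : Subgroup G) with hs
  set m' := piPart (π \ {q}) (Nat.card G) with hm'
  have hm'0 : 0 < m' := piPart_pos _ _
  have hs1 : 1 < s := (one_lt_card_iff_ne_bot _).2
    (Q.ne_bot_of_dvd_card (hqd.trans (hm ▸ piPart_dvd _ _)))
  have hlt : m' < m := by rw [hsplit]; exact lt_mul_left hm'0 hs1
  have hmin' : ∀ r ∈ π \ {q}, r.Prime → p ≤ r := fun r hr => hmin r hr.1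
  have h2 : m' < p * kpi (π \ {q}) G := by
    have h3 := kpi_le_diff_mul (G := G) π q
    rw [← card_sylow_eq_piPart Q, ← hs] at h3
    rw [hsplit] at h
    refine lt_of_mul_lt_mul_left (a := s) (h.trans_le ?_) (Nat.zero_le _)
    calc p * kpi π G ≤ p * (kpi (π \ {q}) G * s) := Nat.mul_le_mul_left _ h3
      _ = _ := by ring
  obtain ⟨H', hH', hH'n⟩ := ih m' hlt G _ hmin' rfl h2
  have hU : ({q} : Set ℕ) ∪ π \ {q} = π := Set.union_diff_cancel (Set.singleton_subset_iff.2 hqπ)
  have hQ : IsPiHallOf {q} (Q : Subgroup G) ⊤ := syl_top Q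
  have hQn : Group.IsNilpotent (Q : Subgroup G) := Q.isPGroup'.isNilpotent
  have fin : ∀ H : Subgroup G, IsPiHallOf π H ⊤ →
      (∀ x : G, IsPiNum π (orderOf x) → ∃ g : G, g * x * g⁻¹ ∈ H) →
      ∃ H : Subgroup G, IsPiHallOf π H ⊤ ∧ Group.IsNilpotent H := by
    intro H hH hx
    refine ⟨H, hH, (nilpotent_of_lt_mul_card_conjClasses hp
      (fun r hr hrd => hmin r (hall_isPi hH r hr hrd) hr) ?_).1⟩
    rw [hall_card hH, card_top, hm]
    exact h.trans_le (Nat.mul_le_mul_left _ (kpi_le_card_conjClasses H hx))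
  by_cases c1 : HasNormalPComplement q G
  · obtain ⟨N, hN, h3, h4, -⟩ := exists_normal_pi_complement {q} (by rintro r rfl -; exact c1)
    obtain ⟨H, hH, hx⟩ := exists_hall_union (fun r hr => hr.2) h3 h4 hQ hQn hH' hH'n
    rw [hU] at hH hx
    exact fin H hH hx
  by_cases c2 : ∀ r ∈ π \ {q}, r.Prime → HasNormalPComplement r G
  · obtain ⟨N, hN, h3, h4, -⟩ := exists_normal_pi_complement _ c2
    obtain ⟨H, hH, hx⟩ := exists_hall_union (fun r hr h => h.2 hr) h3 h4 hH' hH'n hQ hQn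
    rw [Set.union_comm, hU] at hH hx
    exact fin H hH hx
  push Not at c2
  obtain ⟨r, hr, hrp, c2⟩ := c2
  haveI : Fact r.Prime := ⟨hrp⟩
  have hrG : r ∣ Nat.card G := by_contra fun h => c2 (H8.hasNormalPComplement_of_not_dvd h)
  have hrq : r < q := lt_of_le_of_ne (hqmax r (Nat.mem_primeFactors.2 ⟨hrp,
    hm ▸ PiNat.dvd_piPart ((piNat_prime hrp).2 hr.1) hrG hG, hm0⟩)) hr.2
  have hpr := hmin r hr.1 hrp
  have h3 : 2 * p * kpi (π \ {q}) G ≤ (p + 1) * m' := by
    obtain ⟨R⟩ : Nonempty (Sylow r G) := inferInstance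
    have h4 : 2 * r * kpi {r} G ≤ (r + 1) * Nat.card (R : Subgroup G) :=
      not_lt.1 fun h => c2 (npc_of_lt_kpi R h).1
    have h5 := kpi_le_singleton_mul (G := G) (π \ {q}) r
    have h6 := piPart_split hr hG
    rw [← card_sylow_eq_piPart R, ← hm'] at h6
    rw [h6]
    set t := piPart ((π \ {q}) \ {r}) (Nat.card G)
    have h7 : 2 * p * kpi {r} G ≤ (p + 1) * Nat.card (R : Subgroup G) := by
      refine Nat.le_of_mul_le_mul_left (c := r) ?_ hrp.pos
      have h8 := Nat.mul_le_mul_left p h4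
      have h9 := Nat.mul_le_mul_right (Nat.card (R : Subgroup G)) hpr
      nlinarith
    calc 2 * p * kpi (π \ {q}) G ≤ 2 * p * (kpi {r} G * t) := Nat.mul_le_mul_left _ h5
      _ = 2 * p * kpi {r} G * t := by ring
      _ ≤ (p + 1) * Nat.card (R : Subgroup G) * t := Nat.mul_le_mul_right _ h7
      _ = _ := by ring
  set D := C[(Q : Subgroup G)] with hD
  by_cases c3 : m' < p * kpi (π \ {q}) D
  · have h4 : piPart (π \ {q}) (Nat.card D) = m' := by
      obtain ⟨t, ht⟩ : piPart (π \ {q}) (Nat.card D) ∣ m' :=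
        piPart_dvd_piPart _ (card_subgroup_dvd_card D) hG
      by_contra hne
      have ht1 : t ≠ 1 := by rintro rfl; exact hne (by rw [ht, mul_one])
      obtain ⟨u, hu, hut⟩ := Nat.exists_prime_and_dvd ht1
      have h5 : p ≤ u := hmin' u (piNat_piPart _ _ u hu (hut.trans (Dvd.intro_left _ ht.symm))) hu
      have h6 : u ≤ t := Nat.le_of_dvd (Nat.pos_of_mul_pos_left (ht ▸ hm'0)) hut
      have h7 := kpi_le_piPart (G := D) (π \ {q}) ⊤
      have h8 := kpi_le_of_equiv (π \ {q}) (topEquiv (G := D)).symm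
      rw [ht, mul_comm] at c3
      exact absurd c3 (not_lt.2 (Nat.mul_le_mul (h5.trans h6) (h8.trans h7)))
    obtain ⟨K, hK, hKn⟩ := ih m' hlt D _ hmin' h4 c3
    have hK' : IsPiHallOf (π \ {q}) (K.map D.subtype) ⊤ :=
      hall_of_card le_top (by rw [H67.card_map_subtype, hall_card hK, card_top, card_top, h4])
    have hKQ : K.map D.subtype ≤ C[(Q : Subgroup G)] := map_subtype_le K
    refine ⟨Q ⊔ K.map D.subtype, hU ▸ hall_sup hQ hK'
      (Or.inr (le_normalizer_of_le_centralizer hKQ)), ?_⟩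
    rw [sup_comm]
    exact isNilpotent_sup_of_le_centralizer (H3.isNilpotent_map hKn _) hQn hKQ
  exfalso
  have h4 := kpi_le_of_not_npc π Q c1
  rw [← hs, ← hD] at h4
  rw [hsplit] at h
  push Not at c3
  obtain ⟨e, rfl⟩ := Nat.exists_eq_add_of_le hq.one_le
  set k := kpi π G
  set k' := kpi (π \ {1 + e}) G
  set l := kpi (π \ {1 + e}) D
  have h5 : 2 * (1 + e) * k ≤ s * (2 * k' + e * l) := by nlinarith
  have h6 : p * (2 * k' + e * l) ≤ (p + 1 + e) * m' := by nlinarith
  have h7 : (p + 1 + e) * m' ≤ 2 * (1 + e) * m' := Nat.mul_le_mul_right _ (by omega)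
  have h8 : 2 * (1 + e) * (p * k) ≤ 2 * (1 + e) * (s * m') :=
    calc 2 * (1 + e) * (p * k) = p * (2 * (1 + e) * k) := by ring
      _ ≤ p * (s * (2 * k' + e * l)) := Nat.mul_le_mul_left _ h5
      _ = s * (p * (2 * k' + e * l)) := by ring
      _ ≤ s * (2 * (1 + e) * m') := Nat.mul_le_mul_left _ (h6.trans h7)
      _ = _ := by ring
  exact absurd (Nat.le_of_mul_le_mul_left h8 (by omega)) (not_le.2 h)

theorem exists_nilpotent_hall_card {π : Set ℕ} {p : ℕ} (hp : p.Prime) (hmin : ∀ q ∈ π, p ≤ q)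
    {m : ℕ} (hm : m ∣ Nat.card G) (hmπ : ∀ q : ℕ, q.Prime → q ∣ m → q ∈ π)
    (hm' : ∀ q ∈ π, ¬ q ∣ Nat.card G / m) (h : m < p * kpi π G) :
    ∃ H : Subgroup G, Nat.card H = m ∧ kpi π G ≤ Nat.card (ConjClasses H) ∧
      ∀ q : ℕ, q.Prime → q ∣ Nat.card H → p ≤ q := by
  have h1 : piPart π (Nat.card G) = m :=
    piPart_eq_of_mul hmπ (fun q _ hq hqπ => hm' q hqπ hq) (Nat.mul_div_cancel' hm)
      Nat.card_pos.ne'
  obtain ⟨H, hH, hHn⟩ := exists_nilpotent_hall_of_lt_kpi hp m G π (fun q hq _ => hmin q hq) h1 h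
  refine ⟨H, by rw [hall_card hH, card_top, h1], kpi_le_card_conjClasses H fun x hx => ?_,
    fun q hq hqd => hmin q (hall_isPi hH q hq hqd)⟩
  obtain ⟨g, -, hg⟩ := exists_conj_mem_of_nilpotent_hall hH hHn (mem_top x) hx
  exact ⟨g, hg⟩

end Cfsg.Agent.H92
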