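import Cfsg.Agent.H48.M2Defs

/-! A 2-group normalizing an ark whose fixed space is not singular centralizes it. -/

set_option autoImplicit false

namespace Cfsg.Agent.H48.M2.H2

open Cfsg Subgroup Cfsg.Agent.H48 Cfsg.Agent.H48.Rec Cfsg.Agent.H49 Cfsg.Agent.H95.Par
open Cfsg.Agent.H97.Gr (DD ZZ)
open Cfsg.Agent.H97.Yt (M)
open QuadraticMap

theorem fixpt {Γ α : Type*} [Group Γ] [MulAction Γ α] [Finite α] (hΓ : IsPGroup 2 Γ) (T : Set α)
    (inv : ∀ (g : Γ) {x}, x ∈ T → g • x ∈ T) {o : α} (hoT : o ∈ T) (ho : ∀ g : Γ, g • o = o)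
    (φ : α → α) (hφ : ∀ x ∈ T, φ x ∈ T ∧ φ x ≠ x ∧ φ (φ x) = x) :
    ∃ b ∈ T, b ≠ o ∧ ∀ g : Γ, g • b = b := by
  classical
  have : Fact (Nat.Prime 2) := ⟨Nat.prime_two⟩
  let S : SubMulAction Γ α := ⟨T, inv⟩
  have := Fintype.ofFinite S
  have h1 : ∑ _x : S, (1 : ZMod 2) = 0 :=
    Finset.sum_involution (fun x _ => ⟨φ x, (hφ x x.2).1⟩) (fun _ _ => rfl)
      (fun x _ _ e => (hφ x x.2).2.1 (congrArg Subtype.val e)) (fun _ _ => Finset.mem_univ _)
      fun x _ => Subtype.ext (hφ x x.2).2.2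
  rw [Finset.sum_const, Finset.card_univ, nsmul_one, ZMod.natCast_eq_zero_iff,
    ← Nat.card_eq_fintype_card] at h1
  obtain ⟨b, hb, e⟩ := hΓ.exists_fixed_point_of_prime_dvd_card_of_fixed_point S h1
    (a := ⟨o, hoT⟩) fun g => Subtype.ext (ho g)
  exact ⟨b, b.2, fun h => e (Subtype.ext h.symm), fun g => congrArg Subtype.val (hb g)⟩

theorem lin {Γ W : Type*} [Group Γ] [AddCommGroup W] [Module (ZMod 2) W] [MulAction Γ W]
    [Finite W] (hΓ : IsPGroup 2 Γ) (q : QuadraticForm (ZMod 2) W)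
    (hadd : ∀ (g : Γ) (a b : W), g • (a + b) = g • a + g • b) (hq : ∀ (g : Γ) a, q (g • a) = q a)
    (h : ∀ u : W, (∀ g : Γ, g • u = u) → u ≠ 0 → q u = 0 →
      ¬ ∀ f : W, (∀ g : Γ, g • f = f) → polar q u f = 0) :
    (∀ (g : Γ) (a : W), g • a = a) ∨
      ∃ x : W, q x ≠ 0 ∧ ∀ (g : Γ) (a : W), g • a = a ∨ g • a = a + x := by
  have aa : ∀ a : W, a + a = 0 := fun a => by
    rw [← two_smul (ZMod 2), show (2 : ZMod 2) = 0 from rfl, zero_smul]
  have h0 : ∀ g : Γ, g • (0 : W) = 0 := fun g => by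
    have := hadd g 0 0
    rwa [add_zero, aa] at this
  have hp : ∀ (g : Γ) (a b : W), polar q (g • a) (g • b) = polar q a b := fun g a b => by
    simp only [polar, ← hadd, hq]
  let X : Set W := {x | ∀ f : W, (∀ g : Γ, g • f = f) → polar q x f = 0}
  have X0 : (0 : W) ∈ X := fun f _ => polar_zero_left _ _
  have Xa : ∀ {x y}, x ∈ X → y ∈ X → x + y ∈ X := fun hx hy f hf => by
    rw [polar_add_left, hx f hf, hy f hf, add_zero]
  have Xg : ∀ (g : Γ) {x}, x ∈ X → g • x ∈ X := fun g x hx f hf => by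
    rw [← hf g, hp, hx f hf]
  have Xc : ∀ (g : Γ) (a : W), g • a + a ∈ X := fun g a f hf => by
    rw [polar_add_left]
    conv_lhs => enter [1]; rw [← hf g, hp]
    exact CharTwo.add_self_eq_zero _
  have e : ∀ a b c : W, a + b = c → a = b + c := fun a b c h => by
    rw [← h, add_comm a, ← add_assoc, aa, zero_add]
  by_cases hX : ∀ x ∈ X, x = 0
  · exact .inl fun g a => by simpa using e _ _ _ (hX _ (Xc g a))
  push Not at hX
  obtain ⟨y, hy, y0⟩ := hX
  obtain ⟨x, hx, x0, fx⟩ := fixpt hΓ X Xg X0 h0 (· + y) fun x hx =>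
    ⟨Xa hx hy, by simpa using y0, by simp only [add_assoc, aa, add_zero]⟩
  have qx : q x ≠ 0 := fun h' => h x fx x0 h' hx
  have q1 : q x = 1 := (by decide : ∀ c : ZMod 2, c ≠ 0 → c = 1) _ qx
  refine .inr ⟨x, qx, fun g a => ?_⟩
  by_contra hc
  push Not at hc
  have z0 : g • a + a ≠ 0 := fun h' => hc.1 (by simpa using e _ _ _ h')
  have z1 : g • a + a ≠ x := fun h' => hc.2 (e _ _ _ h')
  have hz := Xc g a
  generalize g • a + a = z at z0 z1 hz
  have qa : ∀ w ∈ X, q (w + x) = q w + 1 := fun w hw => by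
    have := hw x fx
    rw [polar, q1] at this
    linear_combination this
  have c2 : ∀ c : ZMod 2, c = 0 ∨ c = 1 := by decide
  obtain ⟨u, hu, u0, fu⟩ := fixpt hΓ {w | w ∈ X ∧ q w = 0}
    (fun g w hw => ⟨Xg g hw.1, (hq g w).trans hw.2⟩) ⟨X0, map_zero q⟩ h0
    (fun w => w + z + q (w + z) • x) fun w hw => by
      rcases c2 (q (w + z)) with c | c
      · simp only [c, zero_smul, add_zero]
        refine ⟨⟨Xa hw.1 hz, c⟩, by simpa using z0, ?_⟩
        rw [add_assoc w, aa, add_zero, hw.2, zero_smul, add_zero]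
      · simp only [c, one_smul]
        refine ⟨⟨Xa (Xa hw.1 hz) hx, by rw [qa _ (Xa hw.1 hz), c]; rfl⟩, fun h' => z1 ?_, ?_⟩
        · rw [add_assoc, add_eq_left] at h'
          simpa using e _ _ _ h'
        · rw [show w + z + x + z = w + x + (z + z) by abel, aa, add_zero, qa _ hw.1, hw.2,
            zero_add, one_smul, add_assoc, aa, add_zero]
  exact h u fu u0 hu.2 hu.1

end Cfsg.Agent.H48.M2.H2

namespace Cfsg.Agent.H48.M2

open Cfsg Subgroup Cfsg.Agent.H48 Cfsg.Agent.H48.Rec Cfsg.Agent.H49 Cfsg.Agent.H95.Par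
open Cfsg.Agent.H97.Gr (DD ZZ)
open Cfsg.Agent.H97.Yt (M)

theorem h2_of (form : FormStmt) (nr : NrStmt) : H2Stmt := by
  intro A R hA hR hN h
  obtain ⟨ν, q, F⟩ := form A hA
  have nA : ∀ a, ν a ∈ A := fun a => (F.mem _).2 ⟨a, rfl⟩
  have n0 : ν 0 = 1 := by
    have := F.add 0 0
    rw [add_zero] at this
    exact mul_left_cancel (this.symm.trans (mul_one _).symm)
  have ex : ∀ (g : R) a, ∃ b, ν b = g * ν a * (g : M)⁻¹ := fun g a =>
    (F.mem _).1 ((mem_normalizer_iff.1 (hN g.2) _).1 (nA a))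
  choose act hact using ex
  letI : MulAction R (Fin 10 → ZMod 2) :=
    { smul := act
      one_smul := fun a => F.inj ((hact 1 a).trans (by simp))
      mul_smul := fun g g' a => F.inj (by
        change ν (act (g * g') a) = ν (act g (act g' a))
        rw [hact, hact, hact, Subgroup.coe_mul]
        group) }
  have ha : ∀ (g : R) a, ν (g • a) = g * ν a * (g : M)⁻¹ := hact
  have n1 : ∀ a, a = 0 ↔ ν a = 1 := fun a => ⟨fun e => e ▸ n0, fun e => F.inj (e.trans n0.symm)⟩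
  have fx : ∀ a, (∀ g : R, g • a = a) ↔ ν a ∈ CP R := fun a =>
    ⟨fun h g hg => by
      have := ha ⟨g, hg⟩ a
      rw [h] at this
      exact mul_inv_eq_iff_eq_mul.1 this.symm,
    fun h g => F.inj (by rw [ha, h g g.2, mul_inv_cancel_right])⟩
  rcases H2.lin hR q (fun g a b => F.inj (by rw [F.add, ha, ha, ha, F.add]; group))
    (fun g a => (by decide : ∀ c d : ZMod 2, (c = 0 ↔ d = 0) → c = d) _ _ (by
      rw [F.sing, F.sing, n1, n1, ha]
      refine or_congr conj_eq_one_iff ?_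
      have := ZZ_cj_iff (g : M)⁻¹ (ν a)
      rwa [inv_inv] at this))
    (fun u hu u0 qu hp => by
      have hz := ((F.sing u).1 qu).resolve_left u0
      refine h (ν u) ⟨nA u, (fx u).1 hu⟩ hz fun y hy => ?_
      obtain ⟨b, rfl⟩ := (F.mem y).1 hy.1
      exact (F.perp u hz b).2 (hp b ((fx b).2 hy.2))) with h1 | ⟨x, qx, h1⟩
  · intro g hg y hy
    obtain ⟨a, rfl⟩ := (F.mem y).1 hy
    exact ((fx a).1 (fun g => h1 g a) g hg).symm
  · have hx := mt (F.sing x).2 qx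
    push Not at hx
    have xx : ν x * ν x = 1 := by
      rw [← F.add, ← n1, ← two_smul (ZMod 2), show (2 : ZMod 2) = 0 from rfl, zero_smul]
    have hD : ν x ∈ DD := (two xx (mt (n1 x).2 hx.1)).resolve_right hx.2
    refine fun g hg => nr A hA g (hN hg) _ (nA x) hD fun y hy => ?_
    obtain ⟨a, rfl⟩ := (F.mem y).1 hy
    rw [← F.add, ← ha ⟨g, hg⟩ a]
    exact (h1 ⟨g, hg⟩ a).imp (congrArg ν) (congrArg ν)

end Cfsg.Agent.H48.M2
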