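import Cfsg.Agent.H92.MaxNorm2
import Cfsg.Agent.H15.BSW5

/-!
Groups with maximal normalizers: the Brauer-Suzuki-Wall configuration.
-/

set_option autoImplicit false

namespace Cfsg.Agent.H92

open Subgroup Cfsg Cfsg.Agent.H63 Cfsg.Agent.H67

variable {G : Type*} [Group G]

theorem exists_sq_eq [Finite G] {x : G} (ho : Odd (orderOf x)) {z : G} (hz : z ∈ zpowers x) :
    ∃ w ∈ zpowers x, w * w = z := by
  obtain ⟨m, hm⟩ := ho
  refine ⟨z ^ (m + 1), pow_mem hz _, ?_⟩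
  have h1 : z ^ (2 * m + 1) = 1 := by
    rw [← hm, ← orderOf_dvd_iff_pow_eq_one]
    exact orderOf_dvd_of_mem_zpowers hz
  rw [← pow_add, show m + 1 + (m + 1) = (2 * m + 1) + 1 by ring, pow_succ, h1, one_mul]

theorem zpowers_comm {x a b : G} (ha : a ∈ zpowers x) (hb : b ∈ zpowers x) : a * b = b * a := by
  obtain ⟨i, rfl⟩ := ha
  obtain ⟨j, rfl⟩ := hb
  exact zpow_mul_comm x i j

namespace CI

variable [Finite G] {u y : G} {q : ℕ} {T : Subgroup G} (c : CI u y q T)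
include c

theorem exists_odd : ∃ g ∈ N[T], g ∉ C1[u] ∧ Odd (orderOf g) := by
  haveI := Fact.mk Nat.prime_two
  by_contra hc
  push Not at hc
  have h1 : N[T] ≤ C1[u] := le_of_forall_syl_le fun r hr _ => by
    haveI := Fact.mk hr
    by_cases h2 : r = 2
    · subst h2
      exact ⟨T, syl_of_maximal le_normalizer c.Tp fun Q _ hQ hTQ =>
        syl_eq_of_le c.syl_top hQ hTQ le_top, c.TM⟩
    obtain ⟨P, hP⟩ := exists_syl r N[T]
    refine ⟨P, hP, fun g hg => ?_⟩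
    by_contra hgM
    obtain ⟨k, hk⟩ := orderOf_eq_pow_of_mem (syl_isPGroup hP) hg
    exact hc g (hP.1 hg) hgM (hk ▸ (hr.odd_of_ne_two h2).pow)
  have h2 := c.mn.eq_of_le Nat.prime_two c.Tp c.T_ne (c.mn.co_inv c.hu).1 h1
  have h3 := c.F5 Nat.prime_two c.hq2.symm c.Tp c.TM (h2.ge c.hyu)
  obtain ⟨g, hg, hne⟩ := c.mn.zstar c.syl_top c.hu c.uT
  exact hne (conj_eq_of_cent (c.F4 c.uH (ne_one_of_prime Nat.prime_two c.hu) (h3 hg)))

theorem bsw : ∃ s : G, H15.BSW u C1[y] s ∧ Nat.card C1[y] = 2 * q := by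
  haveI := Fact.mk Nat.prime_two
  obtain ⟨g, hg, hgM, hgo⟩ := c.exists_odd
  have hu := mul_self_of_two c.hu
  have hu1 := ne_one_of_prime Nat.prime_two c.hu
  have hs2 := c.t2 hg hgM
  have hsT := c.tT hg hgM
  have h3 : g * (g * u * g⁻¹) * g⁻¹ = u * (g * u * g⁻¹) := by
    rcases c.F9 hg hgM (conj_mem_of_mem_normalizer hg hsT)
      (mul_self_of_two (by rw [orderOf_conj', hs2])) with h | h | h | h
    · exact absurd (conj_eq_one_iff.1 (conj_eq_one_iff.1 h)) hu1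
    · refine absurd (mem_of_coprime_pow (Nat.coprime_two_left.2 hgo) (cent_of_conj_eq ?_)
        (by rw [pow_orderOf_eq_one]; exact one_mem _)) hgM
      conv_rhs => rw [← h]
      rw [sq]; group
    · refine absurd (cent_of_conj_eq ?_) hgM
      simpa using h
    · exact h
  have hex : ∀ a ∈ T, a * a = 1 := fun a ha => by
    by_contra ha2
    obtain ⟨m, hm⟩ := orderOf_eq_pow_of_mem c.Tp ha
    obtain ⟨j, hj⟩ := exists_pow_four hm ha2
    have hbT := pow_mem ha j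
    generalize a ^ j = b at hj hbT
    rcases c.F9 hg hgM (pow_mem hbT 2) (mul_self_of_two hj) with h | h | h | h
    · exact ne_one_of_prime Nat.prime_two hj h
    · exact c.F7 hg hgM hbT h
    · exact c.F7' hg hgM hbT h
    · refine c.F7' hg hgM (conj_mem_of_mem_normalizer' hg hbT) ?_
      rw [show (g⁻¹ * b * g) ^ 2 = g⁻¹ * b ^ 2 * g by rw [sq, sq]; group, h, ← h3]
      group
  have hconj : ∀ v : G, orderOf v = 2 → IsConj u v := fun v hv => by
    obtain ⟨m, -, hle⟩ := exists_cj_le_syl c.syl_top le_top (isPGroup_zpowers_prime Nat.prime_two hv)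
    have h1 : IsConj (m * v * m⁻¹) v := isConj_iff.2 ⟨m⁻¹, by group⟩
    refine IsConj.trans ?_ h1
    rcases c.F9 hg hgM (hle (conj_mem_cj (mem_zpowers v)))
      (mul_self_of_two (by rw [orderOf_conj', hv])) with h | h | h | h
    · exact absurd (conj_eq_one_iff.1 h) (ne_one_of_prime Nat.prime_two hv)
    · rw [h]
    · rw [h]; exact isConj_iff.2 ⟨g, rfl⟩
    · rw [h, ← h3]; exact isConj_iff.2 ⟨g * g, by group⟩
  have two := fun x k => c.two_elt hg hgM (x := x) (k := k)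
  have tp := fun x => c.two_pow hg hgM (x := x)
  have F9 := fun v => c.F9 hg hgM (v := v)
  have hsH := c.tH hg hgM
  generalize g * u * g⁻¹ = s at hs2 hsT tp F9 hsH
  have hs := mul_self_of_two hs2
  have hCK : ∀ x ∈ C1[y], s * x = x * s → x = 1 ∨ x = u := fun x hx hc => by
    obtain ⟨k, hk⟩ := tp x (c.HM hx) (mem_cent hc.symm)
    exact two x k hk hx
  have hsu : s * u * s⁻¹ = u := conj_eq_of_cent (c.TM hsT)
  have hinv : ∀ x ∈ C1[y], s * x * s⁻¹ = x⁻¹ := fun x hx => by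
    let I : Subgroup G :=
      { carrier := {z | z ∈ zpowers x ∧ s * z * s⁻¹ = z⁻¹}
        one_mem' := ⟨one_mem _, by simp⟩
        mul_mem' := fun {a b} ha hb => ⟨mul_mem ha.1 hb.1, by
          rw [show s * (a * b) * s⁻¹ = s * a * s⁻¹ * (s * b * s⁻¹) by group, ha.2, hb.2,
            zpowers_comm ha.1 hb.1, mul_inv_rev]⟩
        inv_mem' := fun {a} ha => ⟨inv_mem ha.1, by
          rw [show s * a⁻¹ * s⁻¹ = (s * a * s⁻¹)⁻¹ by group, ha.2]⟩ }
    have h1 : zpowers x ≤ I := le_of_forall_syl_le fun r hr _ => by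
      haveI := Fact.mk hr
      obtain ⟨P, hP⟩ := exists_syl r (zpowers x)
      refine ⟨P, hP, fun z hz => ⟨hP.1 hz, ?_⟩⟩
      have hzH : z ∈ C1[y] := zpowers_le.2 hx (hP.1 hz)
      obtain ⟨k, hk⟩ := orderOf_eq_pow_of_mem (syl_isPGroup hP) hz
      by_cases h2 : r = 2
      · subst h2
        rcases two z k hk hzH with rfl | rfl
        · simp
        · rw [hsu, inv_of_two c.hu]
      by_cases h1 : z = 1
      · simp [h1]
      have hn := c.mn.norm_eq c.hu hr h2 (isPGroup_zpowers_of hr hk) (by simpa using h1)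
        (zpowers_le.2 (c.HM hzH))
      have h4 := conj_mem_of_mem_normalizer (hn.ge (c.TM hsT)) (mem_zpowers z)
      have h5 := mul_mem (mem_zpowers z) h4
      have h6 : s * (z * (s * z * s⁻¹)) = z * (s * z * s⁻¹) * s := by
        conv_lhs => rw [zpowers_comm (mem_zpowers z) h4]
        conv_rhs => rw [inv_of_two hs2]
        simp only [inv_of_two hs2, ← mul_assoc, hs, one_mul]
        simp only [mul_assoc, hs, mul_one]
      rcases hCK _ (zpowers_le.2 hzH h5) h6 with h | h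
      · exact eq_inv_of_mul_eq_one_right h
      · have h7 := orderOf_dvd_of_mem_zpowers h5
        rw [h, c.hu, hk] at h7
        exact absurd ((Nat.prime_dvd_prime_iff_eq Nat.prime_two hr).1
          (Nat.prime_two.dvd_of_dvd_pow h7)).symm h2
    exact (h1 (mem_zpowers x)).2
  have hcomm : ∀ a ∈ C1[y], ∀ b ∈ C1[y], a * b = b * a := fun a ha b hb => by
    have h1 := hinv _ (mul_mem ha hb)
    rw [show s * (a * b) * s⁻¹ = s * a * s⁻¹ * (s * b * s⁻¹) by group, hinv a ha, hinv b hb,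
      ← mul_inv_rev, inv_inj] at h1
    exact h1.symm
  refine ⟨s, ⟨c.hu, hcomm, c.uH, hs2, hsH, ?_, hCK, hinv, fun g x hx h1 hg =>
    cent_comm (c.F4 hx h1 hg), fun a b ha hb => (hconj a ha).symm.trans (hconj b hb)⟩, ?_⟩
  · refine le_antisymm (sup_le c.HM (zpowers_le.2 (c.TM hsT))) (le_of_forall_syl_le fun r hr hd => ?_)
    haveI := Fact.mk hr
    by_cases h2 : r = 2
    · subst h2
      refine ⟨T, c.hT, fun a ha => ?_⟩
      rcases F9 a ha (hex a ha) with h | h | h | h <;> rw [h]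
      · exact one_mem _
      · exact mem_sup_left c.uH
      · exact mem_sup_right (mem_zpowers s)
      · exact mul_mem (mem_sup_left c.uH) (mem_sup_right (mem_zpowers s))
    obtain ⟨P, hP⟩ := exists_syl r C1[u]
    refine ⟨P, hP, le_sup_of_le_left ?_⟩
    by_cases hrq : r = q
    · subst hrq
      intro a ha
      obtain ⟨k, hk⟩ := orderOf_eq_pow_of_mem (syl_isPGroup hP) ha
      refine mem_of_coprime_pow (m := r - 1) (n := r ^ k) (Nat.Coprime.pow_right _ ?_)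
        (pow_pred_mem_cent hr c.hy (c.F1.ge (hP.1 ha))) (by
          rw [← hk, pow_orderOf_eq_one]; exact one_mem _)
      exact (Nat.coprime_self_sub_left hr.one_le).2 (Nat.coprime_one_left r)
    · exact c.F5 hr hrq (syl_isPGroup hP) hP.1
        ((c.mn.norm_eq c.hu hr h2 (syl_isPGroup hP) (syl_ne_bot hP hd) hP.1).ge c.hyu)
  · have h1 : C1[y] = zpowers u ⊔ zpowers y := by
      refine le_antisymm (fun a ha => ?_) (sup_le (zpowers_le.2 c.uH)
        (zpowers_le.2 (mem_centralizer_singleton_self y)))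
      have h2 := c.mn.comm_mem hs2 c.hq c.hq2 c.hy (c.F1.ge (c.TM hsT)) (c.F1.ge (c.HM ha))
      rw [mul_assoc, mul_assoc, ← mul_assoc s, hinv _ (inv_mem ha), inv_inv] at h2
      obtain ⟨w, hw, hw2⟩ := exists_sq_eq (c.hy ▸ c.hq.odd_of_ne_two c.hq2) h2
      have hwH : w ∈ C1[y] := zpowers_le.2 (mem_centralizer_singleton_self y) hw
      have h4 : a * w⁻¹ * (a * w⁻¹) = 1 := by
        rw [mul_assoc, ← mul_assoc w⁻¹, ← hcomm a ha _ (inv_mem hwH), mul_assoc, ← mul_assoc,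
          ← hw2]
        group
      have h5 : a * w⁻¹ ∈ zpowers u := by
        by_cases h6 : a * w⁻¹ = 1
        · rw [h6]; exact one_mem _
        rcases two _ 1 (two_of_mul_self h4 h6) (mul_mem ha (inv_mem hwH)) with h | h
        · exact absurd h h6
        · rw [h]; exact mem_zpowers u
      simpa using mul_mem (mem_sup_left h5) (mem_sup_right hw : w ∈ zpowers u ⊔ zpowers y)
    rw [h1, card_sup_of_inf_eq_bot (Or.inl (zpowers_le.2 (cent_le_norm_zpowers y c.uH)))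
      (inf_eq_bot_of_pq Nat.prime_two c.hq c.hq2.symm (isPGroup_zpowers_prime Nat.prime_two c.hu)
        (isPGroup_zpowers_prime c.hq c.hy)), Nat.card_zpowers, Nat.card_zpowers, c.hu, c.hy]

end CI

namespace MN

variable [Finite G] (h : MN G)
include h

theorem not_cit (hc : ∀ t : G, orderOf t = 2 → IsPGroup 2 C1[t]) : False := by
  haveI := Fact.mk Nat.prime_two
  have hfree : ∀ (x y : G) (k q : ℕ), orderOf x = 2 ^ k → q.Prime → q ≠ 2 → orderOf y = q →
      x ∈ C1[y] → x = 1 := fun x y k q hx hq hq2 hy hxy => by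
    by_contra h1
    obtain ⟨r, j, hr, hd, ho⟩ := exists_prime_pow h1
    rw [hx] at hd
    obtain rfl := (Nat.prime_dvd_prime_iff_eq hr Nat.prime_two).1 (hr.dvd_of_dvd_pow hd)
    obtain ⟨l, hl⟩ := orderOf_eq_pow_of_mem (hc _ ho)
      (mem_centralizer_singleton_comm.1 (pow_mem hxy j))
    have : q ∣ 2 ^ l := by rw [← hl, hy]
    exact hq2 ((Nat.prime_dvd_prime_iff_eq hq Nat.prime_two).1 (hq.dvd_of_dvd_pow this))
  have hco : ∀ S : Subgroup G, IsSyl 2 S ⊤ → IsCoatom S := fun S hS => by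
    obtain ⟨z, -, hz, hle⟩ := exists_central_inv (syl_isPGroup hS)
      (syl_ne_bot hS (by rw [card_top]; exact h.two_dvd))
    rw [← syl_eq_of_le hS (hc z hz) hle le_top]
    exact h.co_inv hz
  obtain ⟨X, hX, hX1, g, hg, hgo, hg1⟩ : ∃ X : Subgroup G, IsPGroup 2 X ∧ X ≠ ⊥ ∧ ∃ g ∈ N[X],
      (orderOf g).Coprime 2 ∧ g ≠ 1 := by
    by_contra hn
    push Not at hn
    obtain ⟨P⟩ : Nonempty (Sylow 2 G) := inferInstance
    obtain ⟨N, hN, hNP⟩ := (S0071.result P).2 fun Q hQ g hg ho => by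
      by_cases h1 : Q = ⊥
      · rw [h1]; exact centralizer_bot.ge (mem_top g)
      · rw [hn Q (P.2.to_le hQ) h1 g hg ho]; exact one_mem _
    have h1 := h.odd_normal hN (by
      rw [← hNP.index_eq_card]
      exact Nat.odd_iff.2 (by have := P.not_dvd_index; omega))
    have h2 := hNP.sup_eq_top
    rw [h1, bot_sup_eq] at h2
    exact h.sol_ne_top (solvable_of_isPGroup Nat.prime_two P.2) h2
  obtain ⟨q, k, hq, hd, hy⟩ := exists_prime_pow hg1
  have hq2 : q ≠ 2 := by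
    rintro rfl
    exact absurd (Nat.Coprime.eq_one_of_dvd hgo.symm hd) (by norm_num)
  have hyX := pow_mem hg k
  generalize g ^ k = y at hy hyX
  clear hg hgo hg1 hd g k
  have hyp := isPGroup_zpowers_prime hq hy
  have hy1 := ne_one_of_prime hq hy
  have hXy : X ⊓ zpowers y = ⊥ := inf_eq_bot_of_pq Nat.prime_two hq hq2.symm hX hyp
  have hfpf : ∀ x ∈ X, x ∈ C1[y] → x = 1 := fun x hx hxy => by
    obtain ⟨k, hk⟩ := orderOf_eq_pow_of_mem hX hx
    exact hfree x y k q hk hq hq2 hy hxy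
  have hred : ∀ V ≤ X, V ≠ ⊥ → N[X] ≤ N[V] → X ≤ V := fun V hV hV1 hn => by
    have h1 := h.eqN Nat.prime_two hq hq2.symm (hX.to_le hV) hyp hV1 (zpowers_le.2 (hn hyX))
    have h2 : ∀ x ∈ X, x * y * x⁻¹ * y⁻¹ ∈ V := fun x hx => by
      have h3 : x * y * x⁻¹ * y⁻¹ ∈ X ⊓ (V ⊔ zpowers y) := ⟨by
        rw [mul_assoc, mul_assoc, ← mul_assoc y]
        exact mul_mem hx (conj_mem_of_mem_normalizer hyX (inv_mem hx)),
        mul_mem (conj_mem_of_mem_normalizer (h1.ge (hn (le_normalizer hx)))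
          (mem_sup_right (mem_zpowers y))) ((V ⊔ zpowers y).inv_mem (mem_sup_right (mem_zpowers y)))⟩
      rwa [inf_sup_of_le_normalizer (Or.inr (zpowers_le.2 (hn hyX))) hV, hXy, sup_bot_eq] at h3
    refine (eq_of_le_of_card_ge hV (Nat.card_le_card_of_injective
      (fun x : X => (⟨_, h2 x x.2⟩ : V)) fun a b hab => Subtype.ext ?_)).ge
    have h3 : (a : G) * y * (a : G)⁻¹ = b * y * (b : G)⁻¹ := mul_right_cancel (congrArg Subtype.val hab)
    have h4 := hfpf ((b : G)⁻¹ * a) (mul_mem (inv_mem b.2) a.2) (cent_of_conj_eq (by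
      rw [show (b : G)⁻¹ * a * y * ((b : G)⁻¹ * a)⁻¹ = (b : G)⁻¹ * (a * y * (a : G)⁻¹) * b by group,
        h3]
      group))
    exact (inv_mul_eq_one.1 h4).symm
  obtain ⟨z, hzX, hz, hXz⟩ := exists_central_inv hX hX1
  have hz1 := ne_one_of_prime Nat.prime_two hz
  have hab : ∀ a ∈ X, ∀ b ∈ X, a * b = b * a := fun a ha b hb =>
    ((hred (X ⊓ C[X]) inf_le_left (ne_bot_of_mem ⟨hzX, mem_centralizer_iff_le.2 hXz⟩ hz1)
      (normalizer_le_normalizer_center X) hb).2 a ha)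
  have hel : ∀ a ∈ X, a * a = 1 := fun a ha => by
    let V : Subgroup G :=
      { carrier := {x | x ∈ X ∧ x * x = 1}
        one_mem' := ⟨one_mem _, by simp⟩
        mul_mem' := fun {a b} ha hb => ⟨mul_mem ha.1 hb.1, by
          rw [mul_assoc, ← mul_assoc b, hab b hb.1 a ha.1, mul_assoc, hb.2, mul_one, ha.2]⟩
        inv_mem' := fun {a} ha => ⟨inv_mem ha.1, by rw [← mul_inv_rev, ha.2, inv_one]⟩ }
    refine (hred V (fun _ h => h.1) (ne_bot_of_mem (x := z) ⟨hzX, mul_self_of_two hz⟩ hz1)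
      (fun g hg => mem_normalizer_of_cj_le (cj_le_iff.2 fun x hx =>
        ⟨conj_mem_of_mem_normalizer hg hx.1, ?_⟩)) ha).2
    rw [show g * x * g⁻¹ * (g * x * g⁻¹) = g * (x * x) * g⁻¹ by group, hx.2]; simp
  have hL := h.co1 Nat.prime_two hX hX1
  have hL2 : ¬ IsPGroup 2 N[X] := fun hp => by
    obtain ⟨k, hk⟩ := orderOf_eq_pow_of_mem hp hyX
    exact hy1 (hfree y y k q hk hq hq2 hy (mem_centralizer_singleton_self y))
  obtain ⟨T, hT, hXT⟩ := exists_syl_ge (le_normalizer (H := X)) hX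
  have hTp := syl_isPGroup hT
  have hnT : ¬ IsSyl 2 T ⊤ := fun hs => hL2 (((hco T hs).le_iff_eq hL.1).1 hT.1 ▸ hTp)
  obtain ⟨Q, hTQ, hQn, hQp⟩ := exists_lt_pgroup_normalizer le_top hTp hnT
  obtain ⟨g, hgQ, hgT⟩ := SetLike.exists_of_lt hTQ
  have hgL : g ∉ N[X] := fun hg => hgT (by
    rw [← syl_eq_of_le hT (hQp.to_inf_left (K := N[X])) (le_inf hTQ.le hT.1) inf_le_right]
    exact ⟨hgQ, hg⟩)
  have hX'T : cj g X ≤ T := cj_le_of_mem_normalizer (hQn hgQ).2 hXT
  have hyn : zpowers y ≤ N[X] := zpowers_le.2 hyX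
  have hY := h.eqN Nat.prime_two hq hq2.symm hX hyp hX1 hyn
  haveI := Fact.mk hq
  have hsyl : IsSyl q (zpowers y) (X ⊔ zpowers y) :=
    hall_sup_right (Or.inl hyn) (isPi_of_isPGroup hq hyp)
      (isPi_compl_of_isPGroup Nat.prime_two hX hq2.symm)
  have hsylX : IsSyl 2 X (X ⊔ zpowers y) :=
    hall_sup_left (Or.inr hyn) (isPi_of_isPGroup Nat.prime_two hX)
      (isPi_compl_of_isPGroup hq hyp hq2)
  have hdec : ∀ s ∈ cj g X, s ∉ X → ∃ x ∈ X, ∃ n, orderOf n = 2 ∧ n * y * n⁻¹ = y⁻¹ ∧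
      n ∈ N[zpowers y] ∧ n ∈ N[X] ∧ s = x * n := fun s hs hsX => by
    have hsL := hT.1 (hX'T hs)
    obtain ⟨m, hm, e⟩ := syl_conj hsyl (hall_cj_of_mem_normalizer hsyl (hY.ge hsL))
    obtain ⟨x, hx, w, hw, rfl⟩ := (mem_sup_of_le_normalizer' hyn).1 hm
    rw [cj_mul, cj_eq_self_of_mem hw, cj_eq_cj_iff] at e
    have hnL : x⁻¹ * s ∈ N[X] := mul_mem (inv_mem (le_normalizer hx)) hsL
    have hss : s * s = 1 := by
      obtain ⟨a, ha, rfl⟩ := mem_cj'.1 hs
      rw [show g * a * g⁻¹ * (g * a * g⁻¹) = g * (a * a) * g⁻¹ by group, hel a ha]; simp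
    have h2 : x⁻¹ * s * (x⁻¹ * s) ∈ X := by
      rw [show x⁻¹ * s * (x⁻¹ * s) = x⁻¹ * (s * x⁻¹ * s⁻¹) * (s * s) by group, hss, mul_one]
      exact mul_mem (inv_mem hx) (conj_mem_of_mem_normalizer hsL (inv_mem hx))
    have h3 : x⁻¹ * s * (x⁻¹ * s) = 1 := hfpf _ h2 (by
      rw [← centralizer_zpowers]
      exact inf_normalizer_le_centralizer hyn (by rw [inf_comm, hXy]) ⟨h2, mul_mem e e⟩)
    have h4 : x⁻¹ * s ≠ 1 := fun h4 => hsX (inv_mul_eq_one.1 h4 ▸ hx)
    refine ⟨x, hx, x⁻¹ * s, two_of_mul_self h3 h4, inv_of_sq hq hy e (by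
      rw [sq, h3]; exact one_mem _) fun h5 => h4 (hfree _ y 1 q (two_of_mul_self h3 h4) hq hq2 hy h5),
      e, hnL, by group⟩
  obtain ⟨s, hs, hsX⟩ : ∃ s ∈ cj g X, s ∉ X := by
    by_contra hn
    push Not at hn
    exact hgL (mem_normalizer_of_cj_le hn)
  obtain ⟨x, hx, n, hn2, hny, hnN, hnL, rfl⟩ := hdec s hs hsX
  have hCy : C1[y] ≤ zpowers y := fun a ha => by
    have h1 := h.comm_mem hn2 hq hq2 hy hnN (cent_le_norm_zpowers y ha)
    obtain ⟨w, hw, hw2⟩ := exists_sq_eq (hy ▸ hq.odd_of_ne_two hq2) h1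
    have hnw : n * w * n⁻¹ = w⁻¹ := by
      obtain ⟨i, rfl⟩ := hw
      simp only [← conj_zpow, hny, inv_zpow]
    have h2 : w⁻¹ * a ∈ C1[n] := cent_of_conj_eq (by
      rw [show w⁻¹ * a * n * (w⁻¹ * a)⁻¹ = w⁻¹ * (a * n * a⁻¹ * n⁻¹) * (n * w * n⁻¹) * n by group,
        ← hw2, hnw]
      group)
    obtain ⟨k, hk⟩ := orderOf_eq_pow_of_mem (hc n hn2) h2
    have h3 := hfree _ y k q hk hq hq2 hy
      (mul_mem (inv_mem (zpowers_le.2 (mem_centralizer_singleton_self y) hw)) ha)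
    exact inv_mul_eq_one.1 h3 ▸ hw
  have hidx : ∀ s' ∈ cj g X, s' ∉ X → x * n * s' ∈ X := fun s' hs' hs'X => by
    obtain ⟨x', hx', n', -, hny', -, -, e⟩ := hdec s' hs' hs'X
    obtain ⟨k, hk⟩ := orderOf_eq_pow_of_mem hTp (hX'T (mul_mem hs hs'))
    refine le_of_normal_syl hsylX (normalIn_sup_left hyn) (zpowers_le.2 ?_)
      (isPGroup_zpowers_of Nat.prime_two hk) (mem_zpowers _)
    rw [e, show x * n * (x' * n') = x * (n * x' * n⁻¹) * (n * n') by group]
    exact mul_mem (mem_sup_left (mul_mem hx (conj_mem_of_mem_normalizer hnL hx')))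
      (mem_sup_right (hCy (mul_mem_cent_of_inv hny hny')))
  have hD1 : Nat.card X ≤ 2 * Nat.card ↥(X ⊓ cj g X) := by
    rw [← card_cj g X, ← card_inf_mul_relIndex X (cj g X), mul_comm]
    refine Nat.mul_le_mul_right _ (le_of_eq (index_eq_two_iff.2 ⟨⟨x * n, hs⟩, fun b => ?_⟩))
    have hxn : x * n * (x * n) = 1 := by
      obtain ⟨a, ha, e⟩ := mem_cj'.1 hs
      rw [← e, show g * a * g⁻¹ * (g * a * g⁻¹) = g * (a * a) * g⁻¹ by group, hel a ha]; simp
    simp only [mem_subgroupOf, coe_mul]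
    by_cases hb : (b : G) ∈ X
    · exact Or.inr ⟨hb, fun h1 => hsX ((mul_mem_cancel_left hb).1 h1)⟩
    · refine Or.inl ⟨?_, hb⟩
      have h1 := conj_mem_of_mem_normalizer (hT.1 (hX'T hs)) (hidx b b.2 hb)
      rwa [← mul_assoc, hxn, one_mul, inv_eq_of_mul_eq_one_right hxn] at h1
  have hDn : ∀ d ∈ X ⊓ cj g X, d ∈ C1[n] := fun d hd => by
    obtain ⟨a, ha, e⟩ := mem_cj'.1 hs
    obtain ⟨b, hb, e'⟩ := mem_cj'.1 hd.2
    have h1 : d * (x * n) = x * n * d := by
      rw [← e, ← e', show g * b * g⁻¹ * (g * a * g⁻¹) = g * (b * a) * g⁻¹ by group, hab b hb a ha]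
      group
    rw [← mul_assoc, hab d hd.1 x hx, mul_assoc, mul_assoc] at h1
    exact mem_cent (mul_left_cancel h1)
  have hD2 : Nat.card ↥(X ⊓ cj g X) * Nat.card ↥(X ⊓ cj g X) ≤ Nat.card X := by
    have h1 : cj y (X ⊓ cj g X) ≤ X := cj_le_of_mem_normalizer hyX inf_le_left
    conv_lhs => rhs; rw [← card_cj y]
    rw [← card_sup_of_inf_eq_bot (H := X ⊓ cj g X) (Or.inl (le_normalizer_of_le_centralizer
      fun a ha b hb => hab b (h1 hb) a ha.1))]
    · exact card_le_of_le (sup_le inf_le_left h1)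
    refine eq_bot_iff.2 fun d hd => hfpf d hd.1.1 (mem_centralizer_singleton_comm.1 ?_)
    have h2 := mem_centralizer_singleton_comm.1 (hDn d hd.1)
    have h3 : y * n * y⁻¹ ∈ C1[d] := by
      have h4 := hDn _ (mem_cj.1 hd.2)
      refine mem_cent ?_
      rw [show y * n * y⁻¹ * d = y * (n * (y⁻¹ * d * y)) * y⁻¹ by group, ← cent_comm h4]
      group
    refine mem_of_coprime_pow (m := 2) (n := q) ((Nat.coprime_primes Nat.prime_two hq).2 hq2.symm)
      ?_ (by rw [← hy, pow_orderOf_eq_one]; exact one_mem _)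
    have h5 := mul_mem h3 (inv_mem h2)
    rwa [show y * n * y⁻¹ * n⁻¹ = y * (n * y * n⁻¹)⁻¹ by group, hny, inv_inv, ← sq] at h5
  have hX4 : Nat.card X ≤ 4 := by nlinarith
  have hq3 : q = 3 := by
    have h1 := card_conjSet_mul (zpowers y) z
    have h2 : zpowers y ⊓ C1[z] = ⊥ := by
      rw [inf_comm]
      exact inf_eq_bot_of_pq Nat.prime_two hq hq2.symm (hc z hz) hyp
    rw [h2, card_bot, mul_one, Nat.card_zpowers, hy] at h1
    have h3 : conjSet (zpowers y) z ⊂ (X : Set G) := by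
      refine ⟨fun a ha => ?_, fun hh => ?_⟩
      · obtain ⟨w, hw, rfl⟩ := mem_conjSet.1 ha
        exact conj_mem_of_mem_normalizer (hyn hw) hzX
      · obtain ⟨w, -, e⟩ := mem_conjSet.1 (hh (one_mem X))
        exact hz1 (conj_eq_one_iff.1 e)
    have h4 := Set.ncard_lt_ncard h3
    rw [← Nat.card_coe_set_eq, h1] at h4
    have h5 : q < Nat.card X := h4
    have := hq.two_le
    omega
  subst hq3
  have hNy : N[zpowers y] ≤ N[X] := fun a ha => by
    by_cases h1 : a ∈ C1[y]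
    · exact hyn (hCy h1)
    have h2 := inv_of_sq hq hy ha (pow_pred_mem_cent hq hy ha) h1
    exact (mul_mem_cancel_right hnL).1 (hyn (hCy (mul_mem_cent_of_inv h2 hny)))
  rw [← h.eq_of_le hq hyp (by simpa using hy1) hL.1 hNy] at hT
  refine hz1 (hfpf z hzX ?_)
  rw [← centralizer_zpowers]
  exact inf_normalizer_le_centralizer hyn (by rw [inf_comm, hXy]) ⟨hzX, hT.1 (hXT hzX)⟩

theorem exists_bsw : ∃ (u y s : G) (q : ℕ), q.Prime ∧ q ≠ 2 ∧ H15.BSW u C1[y] s ∧
    Nat.card C1[y] = 2 * q := by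
  haveI := Fact.mk Nat.prime_two
  have h1 := mt h.not_cit not_false
  push Not at h1
  obtain ⟨u, hu, hn⟩ := h1
  obtain ⟨q, hq, hd, hq2⟩ : ∃ q : ℕ, q.Prime ∧ q ∣ Nat.card C1[u] ∧ q ≠ 2 := by
    by_contra hc
    push Not at hc
    exact hn (isPGroup_of_isPi Nat.prime_two fun q hq hd => hc q hq hd)
  obtain ⟨y, hyu, hy⟩ := exists_orderOf_eq_prime hq hd
  obtain ⟨T, hT⟩ := exists_syl 2 C1[u]
  obtain ⟨s, hs⟩ := CI.bsw ⟨h, hu, hq, hq2, hy, hyu, hT⟩
  exact ⟨u, y, s, q, hq, hq2, hs⟩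

end MN

end Cfsg.Agent.H92
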