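import Cfsg.Agent.H92.MaxNorm3
import Cfsg.Agent.S0811
import Cfsg.Agent.S0804
import Cfsg.Agent.H29.Subfield

/-!
Groups with maximal normalizers: identification with `L₂(13)`.
-/

set_option autoImplicit false

namespace Cfsg.Agent.H92

open Subgroup Cfsg Cfsg.Agent.H63 Cfsg.Agent.H67

variable {G : Type*} [Group G]

theorem card_conjSet_lt [Finite G] {D X : Subgroup G} {x : G} (hx : x ∈ X) (h1 : x ≠ 1)
    (hn : D ≤ N[X]) (hi : D ⊓ C1[x] = ⊥) : Nat.card D < Nat.card X := by
  have h2 := card_conjSet_mul D x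
  rw [hi, card_bot, mul_one] at h2
  have h3 : conjSet D x ⊂ (X : Set G) := by
    refine ⟨fun a ha => ?_, fun hh => ?_⟩
    · obtain ⟨w, hw, rfl⟩ := mem_conjSet.1 ha
      exact conj_mem_of_mem_normalizer (hn hw) hx
    · obtain ⟨w, -, e⟩ := mem_conjSet.1 (hh (one_mem X))
      exact h1 (conj_eq_one_iff.1 e)
  have h4 := Set.ncard_lt_ncard h3
  rw [← Nat.card_coe_set_eq, h2] at h4
  exact h4

theorem a5_elts : ∃ x w : alternatingGroup (Fin 5), x ^ 5 = 1 ∧ x ≠ 1 ∧ w * w = 1 ∧ w ≠ 1 ∧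
    w * x * w⁻¹ = x⁻¹ :=
  ⟨⟨c[0, 1, 2, 3, 4], Equiv.Perm.mem_alternatingGroup.2 (by decide)⟩,
    ⟨Equiv.swap 1 4 * Equiv.swap 2 3, Equiv.Perm.mem_alternatingGroup.2 (by decide)⟩,
    by decide +kernel⟩

namespace MN

variable [Finite G] (h : MN G)
include h

theorem card_eq_three {A : Subgroup G} {w : G} (hw : orderOf w = 2)
    (hinv : ∀ a ∈ A, w * a * w⁻¹ = a⁻¹) (ho : Odd (Nat.card A)) (h3 : 3 ∣ Nat.card A) :
    Nat.card A = 3 := by
  obtain ⟨x, hxA, hx⟩ := exists_orderOf_eq_prime Nat.prime_three h3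
  have hcomm : ∀ a ∈ A, ∀ b ∈ A, a * b = b * a := fun a ha b hb => by
    have h1 := hinv _ (mul_mem ha hb)
    rw [show w * (a * b) * w⁻¹ = w * a * w⁻¹ * (w * b * w⁻¹) by group, hinv a ha, hinv b hb,
      ← mul_inv_rev, inv_inj] at h1
    exact h1.symm
  have h1 : A ≤ zpowers x := fun a ha => by
    have h2 := h.comm_mem hw Nat.prime_three (by norm_num) hx (mem_normalizer_of_cj_le (by
      rw [cj_zpowers, hinv x hxA]; simp)) (cent_le_norm_zpowers x (mem_cent (hcomm a ha x hxA)))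
    rw [mul_assoc, mul_assoc, ← mul_assoc w, hinv _ (inv_mem ha), inv_inv, ← sq] at h2
    refine mem_of_coprime_pow (Nat.coprime_two_left.2 ho) h2 ?_
    rw [orderOf_dvd_iff_pow_eq_one.1 (orderOf_dvd_card_of_mem ha)]
    exact one_mem _
  rw [le_antisymm h1 (zpowers_le.2 hxA), Nat.card_zpowers, hx]

theorem iso : Nonempty (G ≃* Matrix.ProjectiveSpecialLinearGroup (Fin 2) (ZMod 13)) := by
  obtain ⟨u, y, s, r, hr, hr2, hB, hK⟩ := h.exists_bsw
  obtain ⟨q, Q, D, hq, hG, hC⟩ := hB.conc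
  obtain ⟨F, _, _, hF, ⟨e⟩⟩ := hC.iso_PSL hG
  rw [hK] at hq
  have hr3 : 3 ≤ r := by have := hr.two_le; omega
  have hQc := hC.card
  have hDc := hC.cardD
  have hQ1 : Q ≠ ⊥ := fun e => by rw [e, card_bot] at hQc; omega
  have hqp : q.Prime := by
    obtain ⟨p, hp, hd⟩ := exists_prime_dvd_card hQ1
    obtain ⟨x, hxQ, hx⟩ := exists_orderOf_eq_prime hp hd
    have hx1 := ne_one_of_prime hp hx
    have hCx : C1[x] = Q := hC.selfC x hxQ hx1
    have h1 : N[zpowers x] = N[Q] := h.eq_of_le hp (isPGroup_zpowers_prime hp hx) (by simpa using hx1)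
      (h.ne_top hQ1 (Group.isSolvable_of_comm fun a b => Subtype.ext (hC.selfC.comm a.2 b.2))) (by
        have := normalizer_le_normalizer_centralizer (zpowers x)
        rwa [centralizer_zpowers, hCx] at this)
    have h2 := card_conjSet_lt (D := D) (mem_zpowers x) hx1 (by rw [h1, hC.norm]; exact le_sup_right)
      (by rw [hCx, inf_comm, hC.inf])
    rw [Nat.card_zpowers, hx] at h2
    rw [hQc] at hd
    obtain ⟨m, rfl⟩ := hd
    have h3 : m < 3 := by nlinarith
    interval_cases m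
    · omega
    · simpa using hp
    · omega
  have h3q : ¬ 3 ∣ q := fun hd => by
    have := (Nat.prime_dvd_prime_iff_eq Nat.prime_three hqp).1 hd
    omega
  have hr' : 3 ∣ r → r = 3 := fun hd => ((Nat.prime_dvd_prime_iff_eq Nat.prime_three hr).1 hd).symm
  rcases hq with hq | hq
  · by_cases h3 : 3 ∣ r
    · haveI := Fact.mk (by norm_num : Nat.Prime 13)
      exact ⟨e.trans (H29.pslCongr (FiniteField.ringEquivOfCardEq (by
        rw [hF, ZMod.card]; have := hr' h3; omega)))⟩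
    obtain ⟨H, -, ⟨f⟩⟩ := S0811.result hF (by simp; omega)
    have hm : (q + 1) / Nat.gcd 2 (q - 1) = 2 * r + 1 := by
      rw [Nat.gcd_eq_left (by omega)]; omega
    rw [hm] at f
    let φ : DihedralGroup (2 * r + 1) →* G := e.symm.toMonoidHom.comp (H.subtype.comp f.symm.toMonoidHom)
    have hφ : Function.Injective φ := e.symm.injective.comp (Subtype.val_injective.comp f.symm.injective)
    have hc : Nat.card (zpowers (φ (DihedralGroup.r 1))) = 2 * r + 1 := by
      rw [Nat.card_zpowers, orderOf_injective φ hφ, DihedralGroup.orderOf_r_one]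
    have := h.card_eq_three (A := zpowers (φ (DihedralGroup.r 1))) (w := φ (DihedralGroup.sr 0))
      (by rw [orderOf_injective φ hφ, DihedralGroup.orderOf_sr]) (by
        rintro _ ⟨i, rfl⟩
        simp only [← map_zpow, ← map_inv, ← map_mul]
        congr 1
        simp) (by rw [hc]; exact odd_two_mul_add_one r) (by
          rw [hc]
          obtain ⟨j, hj | hj | hj⟩ : ∃ j, r = 3 * j ∨ r = 3 * j + 1 ∨ r = 3 * j + 2 :=
            ⟨r / 3, by omega⟩
          · omega
          · omega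
          · exact absurd ⟨4 * j + 3, by omega⟩ h3q)
    omega
  have hD1 : D ≠ ⊥ := fun e => by rw [e, card_bot] at hDc; omega
  obtain ⟨-, w, hw, hwD, hinv, hN⟩ := hC.sub D le_rfl hD1
  by_cases h3 : 3 ∣ r
  swap
  · have := h.card_eq_three hw hinv (Nat.odd_iff.2 (by omega)) (by
      obtain ⟨j, hj | hj | hj⟩ : ∃ j, r = 3 * j ∨ r = 3 * j + 1 ∨ r = 3 * j + 2 :=
        ⟨r / 3, by omega⟩
      · omega
      · exact absurd ⟨4 * j + 1, by omega⟩ h3q
      · omega)
    omega
  obtain rfl := hr' h3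
  obtain rfl : q = 11 := by omega
  have hD5 : Nat.card D = 5 := by omega
  have hG' : Nat.card G = 660 := by omega
  obtain ⟨H, ⟨f⟩⟩ := (S0804.result hF).2 (by norm_num)
  let φ : alternatingGroup (Fin 5) →* G := e.symm.toMonoidHom.comp (H.subtype.comp f.symm.toMonoidHom)
  have hφ : Function.Injective φ := e.symm.injective.comp (Subtype.val_injective.comp f.symm.injective)
  obtain ⟨x, v, hx5, hx1, hv2, hv1, hvx⟩ := a5_elts
  haveI := Fact.mk Nat.prime_five
  have hx : orderOf (φ x) = 5 := by rw [orderOf_injective φ hφ, orderOf_eq_prime hx5 hx1]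
  have hv : orderOf (φ v) = 2 := by rw [orderOf_injective φ hφ, two_of_mul_self hv2 hv1]
  have hsyl : ∀ P : Subgroup G, Nat.card P = 5 → IsSyl 5 P ⊤ := fun P hP =>
    syl_mk le_top (IsPGroup.of_card (n := 1) (by rw [hP, pow_one])) (by
      have := P.card_mul_index
      rw [hP, hG'] at this
      rw [relIndex_top_right]
      omega)
  have hX5 : Nat.card (zpowers (φ x)) = 5 := by rw [Nat.card_zpowers, hx]
  obtain ⟨g, -, hg⟩ := syl_conj (hsyl D hD5) (hsyl _ hX5)
  have hten : ∀ (P : Subgroup G) (t : G), Nat.card P = 5 → orderOf t = 2 → t ∈ N[P] →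
      Nat.card ↥(P ⊔ zpowers t) = 10 := fun P t hP ht hn => by
    rw [card_sup_of_inf_eq_bot (Or.inr (zpowers_le.2 hn)) (inf_eq_bot_of_coprime' (by
      rw [hP, Nat.card_zpowers, ht]; norm_num)), hP, Nat.card_zpowers, ht]
  have hvn : φ v ∈ N[zpowers (φ x)] := mem_normalizer_of_cj_le (by
    rw [cj_zpowers, ← map_inv, ← map_mul, ← map_mul, hvx]; simp)
  have h10 : Nat.card N[zpowers (φ x)] = 10 := by
    rw [hg, ← cj_normalizer, card_cj, hN]
    exact hten D w hD5 hw (hN.ge (mem_sup_right (mem_zpowers w)))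
  have h4 : zpowers (φ x) ⊔ zpowers (φ v) = N[zpowers (φ x)] :=
    eq_of_le_of_card_ge (sup_le le_normalizer (zpowers_le.2 hvn)) (by rw [h10, hten _ _ hX5 hv hvn])
  have h60 : Nat.card φ.range = 60 := by
    rw [← Nat.card_congr (MonoidHom.ofInjective hφ).toEquiv, nat_card_alternatingGroup]
    simp [Nat.factorial]
  have h5 := h.eq_of_le Nat.prime_five (isPGroup_zpowers_prime Nat.prime_five hx)
    (by simpa using ne_one_of_prime Nat.prime_five hx) (L := φ.range)
    (fun e => by rw [e, card_top] at h60; omega)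
    (h4 ▸ sup_le (zpowers_le.2 ⟨x, rfl⟩) (zpowers_le.2 ⟨v, rfl⟩))
  rw [h5] at h10
  omega

end MN

end Cfsg.Agent.H92
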