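import Cfsg.Agent.H92.RcC
import Cfsg.Agent.H52.Quasisimple
import Cfsg.Agent.H19.RcAe

/-! Real class sizes with equal 2-part (S3860): contradiction when the 2-part is at least 4. -/

set_option autoImplicit false

namespace Cfsg.Agent.H92.RC

open Subgroup H98

variable {G : Type*} [Group G] [Finite G] {c : ℕ}

theorem mem_of_inv {L : Subgroup G} [hL : L.Normal] {d x : G} (hd : d ∈ L) (hi : Inv d x)
    (ho : Odd (orderOf x)) : x ∈ L := by
  obtain ⟨n, hn⟩ := exists_sqrt ho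
  have h1 : x * x ∈ L := by
    have h2 := mul_mem (hL.conj_mem _ hd x) (inv_mem hd)
    rwa [mul_assoc, mul_assoc, ← mul_assoc d, hi.inv_right, inv_inv] at h2
  rw [← hn, ← (Commute.refl x).mul_pow]
  exact pow_mem h1 n

theorem exists_sylow_quot {L T : Subgroup G} [L.Normal] (hT : SylIn 2 T ⊤) {X : Type*} [Group X]
    (π : L →* X) (hπ : Function.Surjective π) :
    ∃ S : Sylow 2 X, (S : Subgroup X) = (T.subgroupOf L).map π := by
  obtain ⟨R, hR⟩ := (hT.inf_of_normal (K := L) le_top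
    (le_of_eq (normalizer_eq_top L).symm)).exists_sylow
  have h1 := (sylIn_top R).map π
  rw [map_top_of_surjective π hπ, hR, inf_subgroupOf_right] at h1
  exact h1.exists_sylow_top

theorem Big.false (h : Big G c) {L : Subgroup G} [hN : L.Normal] (hL : IsQuasisimple L)
    (hZ : IsPGroup 2 (center L)) {y₀ : L} (hY : Y (y₀ : G)) (hy₀ : y₀ ∉ center L) : False := by
  have := hL.2
  let π : L →* L ⧸ center L := QuotientGroup.mk' _
  have hπ : Function.Surjective π := QuotientGroup.mk'_surjective _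
  have t0 : ∀ {l : L}, π l = 1 ↔ l ∈ center L := fun {l} => QuotientGroup.eq_one_iff l
  have t1 : ∀ {l : L}, (l : G) ∈ center G → π l = 1 := fun hl =>
    t0.2 (mem_center_iff.2 fun m => Subtype.ext (mem_center_iff.1 hl m))
  have t2 : ∀ {l : L}, π l = 1 → Two (l : G) := fun hl =>
    let ⟨k, hk⟩ := two_of_mem hZ (t0.1 hl); ⟨k, congrArg Subtype.val hk⟩
  have t3 : ∀ {a b : L}, Commute (π a) (π b) ↔ π (a * b * a⁻¹ * b⁻¹) = 1 := fun {a b} => by
    rw [map_mul, map_mul, map_mul, map_inv, map_inv, mul_inv_eq_one]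
    exact ⟨cj_of_comm, comm_of_cj⟩
  have todd : ∀ {a x : L}, Odd (orderOf (x : G)) → Commute (π a) (π x) → Commute (a : G) x :=
    fun {a x} ho hc => comm_of_odd ho (t2 (t3.1 hc))
      (congrArg Subtype.val (mem_center_iff.1 (t0.1 (t3.1 hc)) x)).symm (by simp)
  have tsq : ∀ {d : L}, IsConj (y₀ : G) d → π d * π d = 1 := fun hd => by
    rw [← map_mul]; exact t1 (hY.of_isConj hd).sq
  have tdiv : ∀ {d e : L}, IsConj (y₀ : G) e → π d * π e = π (d * e⁻¹) := fun he => by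
    rw [map_mul, map_inv, inv_eq_of_mul_eq_one_right (tsq he)]
  have t4 : ∀ {d e : L}, IsConj (y₀ : G) d → IsConj (y₀ : G) e →
      (Commute (π d) (π e) ↔ (d : G) ∈ Cz (e : G)) := fun {d e} hd he => by
    refine ⟨fun hc => ?_, fun hc => t3.2 (t1 hc)⟩
    by_contra hn
    obtain ⟨x, w, ho, hx, hw, e1, -, -⟩ := h.dich hY hd he hn
    have h1 : Two ((d : G) * e * (d : G)⁻¹ * (e : G)⁻¹) := t2 (t3.1 hc)
    rw [← sq_div ((hY.sq_eq hd).trans (hY.sq_eq he).symm) (hY.of_isConj hd).sq] at h1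
    have h2 := h1.of_sq.mul (h.two (inv_mem hw)) (comm_of_center (inv_mem hw) _).symm
    rw [e1, mul_inv_cancel_right] at h2
    exact hx (h2.eq_one ho)
  have t5 : ∀ {d e : L}, IsConj (y₀ : G) d → IsConj (y₀ : G) e → ¬ Commute (π d) (π e) →
      ∃ x : L, Odd (orderOf (x : G)) ∧ (x : G) ≠ 1 ∧ π d * π e = π x ∧ Inv (d : G) x ∧
        Inv (e : G) x := fun {d e} hd he hn => by
    obtain ⟨x, w, ho, hx, hw, e1, h1, h2⟩ := h.dich hY hd he fun hc => hn ((t4 hd he).2 hc)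
    refine ⟨⟨x, mem_of_inv d.2 h1 ho⟩, ho, hx, ?_, h1, h2⟩
    rw [tdiv he, eq_comm, ← inv_mul_eq_one, ← map_inv, ← map_mul]
    apply t1
    simpa [e1] using hw
  refine H19.RC.ae (H52.IsQuasisimple.not_isMulCommutative_quotient hL)
    {a | ∃ d : L, IsConj (y₀ : G) d ∧ π d = a} (π y₀) ⟨y₀, IsConj.refl _, rfl⟩ ?_ ?_ ?_ ?_ ?_ ?_ ?_
  · rintro _ ⟨d, hd, rfl⟩
    refine orderOf_eq_prime (by rw [sq, tsq hd]) fun h1 => hy₀ (mem_center_iff.2 fun m => ?_)
    obtain ⟨g, hg⟩ := isConj_iff.1 hd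
    have h2 : Commute (g * m * g⁻¹) (g * y₀ * g⁻¹) := by
      rw [hg]
      exact congrArg Subtype.val (mem_center_iff.1 (t0.1 h1) ⟨_, hN.conj_mem _ m.2 g⟩)
    exact Subtype.ext (by simpa [mul_assoc] using (comm_conj h2 g⁻¹).eq)
  · rintro _ ⟨d, hd, rfl⟩ g
    obtain ⟨g, rfl⟩ := hπ g
    exact ⟨g * d * g⁻¹, isConj_cj hd g, by simp⟩
  · obtain ⟨T, hT⟩ := exists_sylIn 2 (Cz (y₀ : G))
    obtain ⟨S, hS⟩ := exists_sylow_quot (h.lemA hY hT) π hπ
    refine ⟨S, ?_, fun s hs => ?_⟩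
    · show π y₀ ∈ (S : Subgroup _)
      rw [hS]
      exact mem_map_of_mem π (h.self_mem hY.sq hT)
    · have hs' : s ∈ (S : Subgroup _) := hs
      rw [hS] at hs'
      obtain ⟨s, hs'', rfl⟩ := hs'
      exact t3.2 (t1 (hT.le hs''))
  · rintro _ ⟨d, hd, rfl⟩ _ ⟨e, he, rfl⟩
    refine or_iff_not_imp_left.2 fun hn => ?_
    obtain ⟨x, ho, -, e1, -⟩ := t5 hd he hn
    rw [e1]
    exact (by simpa using ho : Odd (orderOf x)).of_dvd_nat (orderOf_map_dvd π x)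
  · rintro _ ⟨d, hd, rfl⟩ _ ⟨e, he, rfl⟩ _ ⟨f, hf, rfl⟩ hc
    by_contra hn
    obtain ⟨x, ho, hx, e1, h1, -⟩ := t5 hd he hn
    exact h.g3 hY hd hf ho hx h1 (todd ho (e1 ▸ hc))
  · rintro _ ⟨d, hd, rfl⟩ _ ⟨e, he, rfl⟩ _ ⟨f, hf, rfl⟩ hne hc hc'
    by_contra hn
    obtain ⟨x, ho, hx, e1, -, h1⟩ := t5 hf hd hn
    have hsq := (hY.sq_eq hd).trans (hY.sq_eq he).symm
    have hz := (hY.of_isConj hd).sq
    have h2 : Commute (π (d * e⁻¹)) (π x) := by
      rw [← tdiv he, ← e1]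
      exact hc'.symm.mul_right ((Commute.refl _).mul_left hc.symm)
    have h3 := h.lemK (w := (d : G) * (e : G)⁻¹) ho hx (h.two_of_sq (by rw [sq_div hsq hz]; exact (t4 hd he).1 hc))
      (todd ho h2).symm h1 (inv_div hsq hz)
    have h4 : π (d * e⁻¹) = 1 := t1 h3
    rw [map_mul, map_inv, mul_inv_eq_one] at h4
    exact hne h4
  · rintro _ ⟨d, hd, rfl⟩ _ ⟨d', hd', rfl⟩ _ ⟨e, he, rfl⟩ _ ⟨e', he', rfl⟩ h1 h2 hn
    obtain ⟨j, h3, h4⟩ := h.trans2 hY hd he hd' he' (fun hc => hn ((t4 hd he).2 hc))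
      ((t4 hd' hd).1 h1.symm) ((t4 he' he).1 h2.symm)
    have key : ∀ {a b : L}, j * a * j⁻¹ * (b : G)⁻¹ ∈ center G →
        π (MulAut.conjNormal j a) = π b := fun hab => by
      rw [← mul_inv_eq_one, ← map_inv, ← map_mul]
      exact t1 (by simpa using hab)
    exact ⟨QuotientGroup.congr (center L) (center L) (MulAut.conjNormal j)
      (characteristic_iff_map_eq.1 inferInstance _), key h3, key h4⟩

end Cfsg.Agent.H92.RC
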