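import Cfsg.Agent.H29.SpKit
import Cfsg.Agent.H16.SpTR

/-!
Project SP, piece H2, part one: isotropic pairs and triples, and the calculus of movers.
-/

set_option autoImplicit false

namespace Cfsg.Agent.H92.SpH2

open Cfsg Cfsg.Agent.H63 Cfsg.Agent.H63.SL Cfsg.Agent.H26 Cfsg.Agent.H68.Sp Cfsg.Agent.H29.SpK
open Subgroup Module

universe u v

variable {F V : Type v} [Field F] [AddCommGroup V] [Module F V] {G : Type u} [Group G]
  {P : PForm F V} {φ : P.E →* G} {L : Subgroup G} {k : ℕ} {t : G}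

theorem li3_iff {u v w : V} : LinearIndependent F ![u, v, w] ↔
    ∀ a b c : F, a • u + b • v + c • w = 0 → a = 0 ∧ b = 0 ∧ c = 0 := by
  rw [Fintype.linearIndependent_iff]
  constructor
  · intro h a b c H
    have := h ![a, b, c] (by rw [Fin.sum_univ_three]; exact H)
    exact ⟨this 0, this 1, this 2⟩
  · intro h g H i
    rw [Fin.sum_univ_three] at H
    obtain ⟨a, b, c⟩ := h _ _ _ H
    fin_cases i <;> assumption

theorem i2_symm {u v : V} (h : I2 P u v) : I2 P v u :=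
  ⟨PForm.f_symm_zero h.1, LinearIndependent.pair_symm_iff.1 h.2⟩

theorem i2_smul {u v : V} (h : I2 P u v) {c : F} (hc : c ≠ 0) : I2 P (c • u) v := by
  refine ⟨by rw [P.f_smul_left, h.1, mul_zero], LinearIndependent.pair_iff.2 fun a b H => ?_⟩
  obtain ⟨h1, h2⟩ := LinearIndependent.pair_iff.1 h.2 (a * c) b (by rwa [mul_smul])
  exact ⟨(mul_eq_zero.1 h1).resolve_right hc, h2⟩

theorem i2_smul' {u v : V} (h : I2 P u v) {c : F} (hc : c ≠ 0) : I2 P u (c • v) :=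
  i2_symm (i2_smul (i2_symm h) hc)

theorem i2_map {u v : V} (h : I2 P u v) (e : P.E) : I2 P (e.1 u) (e.1 v) := by
  refine ⟨by rw [ef, h.1], LinearIndependent.pair_iff.2 fun a b H => ?_⟩
  refine LinearIndependent.pair_iff.1 h.2 a b (e.1.injective ?_)
  rw [map_add, map_smul, map_smul, H, map_zero]

theorem i2_ne {u v : V} (h : I2 P u v) : v ≠ 0 := h.2.ne_zero 1

theorem i3_swap {u v w : V} (h : I3 P u v w) : I3 P v u w := by
  refine ⟨PForm.f_symm_zero h.1, h.2.2.1, h.2.1, li3_iff.2 fun a b c H => ?_⟩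
  obtain ⟨h1, h2, h3⟩ := li3_iff.1 h.2.2.2 b a c (by rw [← H]; abel)
  exact ⟨h2, h1, h3⟩

theorem i3_swap' {u v w : V} (h : I3 P u v w) : I3 P u w v := by
  refine ⟨h.2.1, h.1, PForm.f_symm_zero h.2.2.1, li3_iff.2 fun a b c H => ?_⟩
  obtain ⟨h1, h2, h3⟩ := li3_iff.1 h.2.2.2 a c b (by rw [← H]; abel)
  exact ⟨h1, h3, h2⟩

theorem i3_12 {u v w : V} (h : I3 P u v w) : I2 P u v := by
  refine ⟨h.1, LinearIndependent.pair_iff.2 fun a b H => ?_⟩
  obtain ⟨h1, h2, -⟩ := li3_iff.1 h.2.2.2 a b 0 (by rw [H, zero_smul, add_zero])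
  exact ⟨h1, h2⟩

theorem i3_13 {u v w : V} (h : I3 P u v w) : I2 P u w := i3_12 (i3_swap' h)

theorem i3_smul {u v w : V} (h : I3 P u v w) {c : F} (hc : c ≠ 0) : I3 P (c • u) v w := by
  refine ⟨by rw [P.f_smul_left, h.1, mul_zero], by rw [P.f_smul_left, h.2.1, mul_zero], h.2.2.1,
    li3_iff.2 fun a b d H => ?_⟩
  obtain ⟨h1, h2⟩ := li3_iff.1 h.2.2.2 (a * c) b d (by rwa [mul_smul])
  exact ⟨(mul_eq_zero.1 h1).resolve_right hc, h2⟩

theorem i3_smul2 {u v w : V} (h : I3 P u v w) {c : F} (hc : c ≠ 0) : I3 P u (c • v) w :=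
  i3_swap (i3_smul (i3_swap h) hc)

theorem i3_smul3 {u v w : V} (h : I3 P u v w) {c : F} (hc : c ≠ 0) : I3 P u v (c • w) :=
  i3_swap' (i3_smul2 (i3_swap' h) hc)

theorem i3_map {u v w : V} (h : I3 P u v w) (e : P.E) : I3 P (e.1 u) (e.1 v) (e.1 w) := by
  refine ⟨by rw [ef, h.1], by rw [ef, h.2.1], by rw [ef, h.2.2.1], li3_iff.2 fun a b c H => ?_⟩
  refine li3_iff.1 h.2.2.2 a b c (e.1.injective ?_)
  rw [map_add, map_add, map_smul, map_smul, map_smul, H, map_zero]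

theorem i3_add {u v w : V} (h : I3 P u v w) : I2 P u (v + w) := by
  refine ⟨by rw [P.f_add_right, h.1, h.2.1, add_zero],
    LinearIndependent.pair_iff.2 fun a b H => ?_⟩
  obtain ⟨h1, h2, -⟩ := li3_iff.1 h.2.2.2 a b b (by rw [← H, smul_add, add_assoc])
  exact ⟨h1, h2⟩

theorem witt2 (h : SG P φ L k) (g1 : G1 P k) {u v u' v' : V} (h1 : I2 P u v) (h2 : I2 P u' v') :
    ∃ e : P.E, e.1 u = u' ∧ e.1 v = v' := by
  obtain ⟨e, he⟩ := g1.witt ![u, v] ![u', v'] h1.2 h2.2 fun i j => by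
    fin_cases i <;> fin_cases j
    · exact (fs h u).trans (fs h u').symm
    · exact h1.1.trans h2.1.symm
    · exact (PForm.f_symm_zero h1.1).trans (PForm.f_symm_zero h2.1).symm
    · exact (fs h v).trans (fs h v').symm
  exact ⟨e, he 0, he 1⟩

theorem exists_i3 [FiniteDimensional F V] (h : SG P φ L k) (k3 : 3 ≤ k) {u v : V}
    (huv : I2 P u v) : ∃ w, I3 P u v w := by
  have h1 : finrank F (Submodule.span F (Set.range ![u, v])) = 2 := by
    rw [finrank_span_eq_card huv.2, Fintype.card_fin]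
  have h2 := P.finrank_perp (Submodule.span F (Set.range ![u, v]))
  rw [h.dim, h1] at h2
  obtain ⟨w, hw, hw'⟩ := SetLike.not_le_iff_exists.1 fun H :
      P.perp (Submodule.span F (Set.range ![u, v])) ≤ Submodule.span F (Set.range ![u, v]) => by
    have := Submodule.finrank_mono H
    omega
  have hu : u ∈ Submodule.span F (Set.range ![u, v]) := Submodule.subset_span ⟨0, rfl⟩
  have hv : v ∈ Submodule.span F (Set.range ![u, v]) := Submodule.subset_span ⟨1, rfl⟩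
  refine ⟨w, huv.1, PForm.f_of_mem_perp' hw hu, PForm.f_of_mem_perp' hw hv,
    li3_iff.2 fun a b c H => ?_⟩
  by_cases hc : c = 0
  · rw [hc, zero_smul, add_zero] at H
    obtain ⟨h1, h2⟩ := LinearIndependent.pair_iff.1 huv.2 a b H
    exact ⟨h1, h2, hc⟩
  · refine absurd ((Submodule.smul_mem_iff _ hc).1 ?_) hw'
    rw [eq_neg_of_add_eq_zero_right H]
    exact neg_mem (add_mem (Submodule.smul_mem _ _ hu) (Submodule.smul_mem _ _ hv))

theorem span_smul (u v : V) {c : F} (hc : c ≠ 0) :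
    Submodule.span F ({c • u, v} : Set V) = Submodule.span F {u, v} := by
  rw [Submodule.span_insert, Submodule.span_insert, Submodule.span_singleton_smul_eq hc.isUnit]

theorem S2_smul (u v : V) {c : F} (hc : c ≠ 0) : S2 P φ {c • u, v} = S2 P φ {u, v} := by
  rw [S2, S2, span_smul u v hc]

theorem mem_YW2 {u v : V} {g : G} :
    g ∈ YW P φ {u, v} ↔ ∃ e : P.E, e.1 u = u ∧ e.1 v = v ∧ φ e = g := by
  simp only [mem_YW, Set.mem_insert_iff, Set.mem_singleton_iff, forall_eq_or_imp, forall_eq,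
    and_assoc]

theorem YW_smul (u v : V) {c : F} (hc : c ≠ 0) : YW P φ {c • u, v} = YW P φ {u, v} := by
  ext g
  simp only [mem_YW2, map_smul, (smul_right_injective V hc).eq_iff]

theorem mv_symm (h : SG P φ L k) {u v : V} {b : F} {p : G} (H : Mv P φ t 0 u v b p) :
    Mv P φ t 0 v u b p :=
  ⟨Set.pair_comm u v ▸ H.cent, by rw [H.mv, ← Es_smul h, Es_symm h],
    by rw [H.sq, ← Es_smul h, Es_symm h], fun hb => Set.pair_comm u v ▸ H.zero hb⟩

theorem mv_sq {u v : V} {b : F} {p : G} (H : Mv P φ t 0 u v b p) : p * p = 1 := by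
  rw [H.sq, zero_mul, zero_smul, Es_zero]

theorem mv_smul (h : SG P φ L k) {u v : V} {b c : F} (hc : c ≠ 0) {p : G} :
    Mv P φ t 0 (c • u) v b p ↔ Mv P φ t 0 u v (c * b) p := by
  constructor
  · intro H
    exact ⟨YW_smul (φ := φ) u v hc ▸ H.cent, by rw [H.mv, Es_smul h, mul_smul],
      by rw [mv_sq H, zero_mul, zero_smul, Es_zero],
      fun hb => S2_smul (φ := φ) u v hc ▸ H.zero ((mul_eq_zero.1 hb).resolve_left hc)⟩
  · intro H
    exact ⟨(YW_smul (φ := φ) u v hc).symm ▸ H.cent, by rw [H.mv, Es_smul h, mul_smul],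
      by rw [mv_sq H, zero_mul, zero_smul, Es_zero],
      fun hb => (S2_smul (φ := φ) u v hc).symm ▸ H.zero (by rw [hb, mul_zero])⟩

theorem mv_smul' (h : SG P φ L k) {u v : V} {b c : F} (hc : c ≠ 0) {p : G} :
    Mv P φ t 0 u (c • v) b p ↔ Mv P φ t 0 u v (c * b) p :=
  ⟨fun H => mv_symm h ((mv_smul h hc).1 (mv_symm h H)),
    fun H => mv_symm h ((mv_smul h hc).2 (mv_symm h H))⟩

theorem bs_smul (h : SG P φ L k) {u v : V} {c : F} (hc : c ≠ 0) {p : G}
    (H : p ∈ BS P φ t u v) : p ∈ BS P φ t (c • u) v := by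
  obtain ⟨b, hb⟩ := H
  exact ⟨c⁻¹ * b, (mv_smul h hc).2 (by rwa [mul_inv_cancel_left₀ hc])⟩

theorem bs_smul' (h : SG P φ L k) {u v : V} {c : F} (hc : c ≠ 0) {p : G}
    (H : p ∈ BS P φ t u v) : p ∈ BS P φ t u (c • v) := by
  obtain ⟨b, hb⟩ := H
  exact ⟨c⁻¹ * b, (mv_smul' h hc).2 (by rwa [mul_inv_cancel_left₀ hc])⟩

theorem t_comm (h : SG P φ L k) (tc : Tc L t) {g : G} (hg : g ∈ L) : g * t = t * g :=
  mem_centralizer_iff.1 tc.tc g hg

theorem mv_conj (h : SG P φ L k) (tc : Tc L t) {u v : V} {b : F} {p : G}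
    (H : Mv P φ t 0 u v b p) (e : P.E) : Mv P φ t 0 (e.1 u) (e.1 v) b (φ e * p * (φ e)⁻¹) := by
  have h1 := t_comm h tc (φ_mem h e)
  refine ⟨mem_centralizer_iff.2 fun g hg => ?_, ?_, ?_, fun hb => ?_⟩
  · obtain ⟨x, x1, x2, rfl⟩ := mem_YW2.1 hg
    have := mem_centralizer_iff.1 H.cent (φ (e⁻¹ * x * e)) (mem_YW2.2 ⟨_,
      by rw [emul, emul, x1, einv_apply], by rw [emul, emul, x2, einv_apply], rfl⟩)
    rw [map_mul, map_mul, map_inv] at this
    calc φ x * (φ e * p * (φ e)⁻¹) = φ e * ((φ e)⁻¹ * φ x * φ e * p) * (φ e)⁻¹ := by group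
      _ = _ := by rw [this]; group
  · calc φ e * p * (φ e)⁻¹ * t * (φ e * p * (φ e)⁻¹)⁻¹
        = φ e * p * ((φ e)⁻¹ * (t * φ e)) * p⁻¹ * (φ e)⁻¹ := by group
      _ = φ e * (p * t * p⁻¹) * (φ e)⁻¹ := by rw [← h1]; group
      _ = φ e * t * (φ e)⁻¹ * (φ e * Es P φ u (b • v) * (φ e)⁻¹) := by rw [H.mv]; group
      _ = _ := by rw [conj_Es h, map_smul, h1, mul_inv_cancel_right]
  · rw [zero_mul, zero_smul, Es_zero]
    calc φ e * p * (φ e)⁻¹ * (φ e * p * (φ e)⁻¹) = φ e * (p * p) * (φ e)⁻¹ := by group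
      _ = 1 := by rw [mv_sq H, mul_one, mul_inv_cancel]
  · refine H16.SpG.conj_S2 h e ?_ (H.zero hb)
    rintro s (rfl | rfl) <;> simp

theorem iso2 (h : SG P φ L k) {u v : V} (huv : P.f u v = 0) :
    ∀ x ∈ ({u, v} : Set V), ∀ y ∈ ({u, v} : Set V), P.f x y = 0 := by
  rintro x (rfl | rfl) y (rfl | rfl)
  · exact fs h _
  · exact huv
  · exact PForm.f_symm_zero huv
  · exact fs h _

theorem mv_S2 (h : SG P φ L k) (tc : Tc L t) (g2 : G2 P φ) {u v : V} (huv : P.f u v = 0) {s : G}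
    (hs : s ∈ S2 P φ {u, v}) : Mv P φ t 0 u v 0 s := by
  obtain ⟨e1, -, -, e4, -⟩ := g2.el _ (iso2 h huv)
  refine ⟨e4 hs, ?_, by rw [e1 s hs, zero_mul, zero_smul, Es_zero], fun _ => hs⟩
  rw [zero_smul, Es_zero, mul_one, t_comm h tc (H16.SpG.S2_le h _ hs), mul_inv_cancel_right]

end Cfsg.Agent.H92.SpH2
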