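import Cfsg.Agent.Lead.T3Defs

/-!
# T3-BA2: opposite residues and parallel panels
-/

set_option autoImplicit false

namespace Cfsg.Agent.H92.T3

open Cfsg.Agent.H35 Cfsg.Agent.Lead.T3

universe u

section cox

variable {I W : Type} [Group W] [Finite W] (X : Cox I W)

theorem WJ_mono {J K : Set I} (h : J ⊆ K) : X.WJ J ≤ X.WJ K :=
  Subgroup.closure_mono (Set.image_mono h)

theorem wJ_mem (J : Set I) : X.wJ J ∈ X.WJ J := (X.wJ_spec J).1

theorem s_mem {J : Set I} {i : I} (h : i ∈ J) : X.s i ∈ X.WJ J := InvGen.s_mem_closure h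

variable (cx : CxStmt)
include cx

theorem wJ_inv (K : Set I) : (X.wJ K)⁻¹ = X.wJ K :=
  inv_eq_of_mul_eq_one_right ((cx X).1 K)

theorem op_op {J K : Set I} (h : J ⊆ K) : X.op K '' (X.op K '' J) = J := by
  ext i
  constructor
  · rintro ⟨_, ⟨j, hj, rfl⟩, rfl⟩
    rw [((cx X).2.2.1 K j (h hj)).2.2]; exact hj
  · intro hi
    exact ⟨_, ⟨i, hi, rfl⟩, ((cx X).2.2.1 K i (h hi)).2.2⟩

theorem op_sub {J K : Set I} (h : J ⊆ K) : X.op K '' J ⊆ K := by
  rintro _ ⟨j, hj, rfl⟩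
  exact ((cx X).2.2.1 K j (h hj)).1

/-- Conjugation by `w_K` sends `W_J` into `W_{J*}`. -/
theorem conj_mem {J K : Set I} (h : J ⊆ K) {v : W} (hv : v ∈ X.WJ J) :
    X.wJ K * v * X.wJ K ∈ X.WJ (X.op K '' J) := by
  have h2 := (cx X).1 K
  refine Subgroup.closure_induction (p := fun v _ => X.wJ K * v * X.wJ K ∈ X.WJ (X.op K '' J))
    ?_ ?_ ?_ ?_ hv
  · rintro _ ⟨j, hj, rfl⟩
    rw [((cx X).2.2.1 K j (h hj)).2.1, mul_assoc, h2, mul_one]
    exact s_mem X ⟨j, hj, rfl⟩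
  · rw [mul_one, h2]; exact one_mem _
  · intro a b _ _ ha hb
    have : X.wJ K * (a * b) * X.wJ K = (X.wJ K * a * X.wJ K) * (X.wJ K * b * X.wJ K) := by
      calc _ = X.wJ K * a * (X.wJ K * X.wJ K) * b * X.wJ K := by rw [h2]; group
        _ = _ := by group
    rw [this]; exact mul_mem ha hb
  · intro a _ ha
    have : X.wJ K * a⁻¹ * X.wJ K = (X.wJ K * a * X.wJ K)⁻¹ := by
      rw [mul_inv_rev, mul_inv_rev, wJ_inv X cx, mul_assoc]
    rw [this]; exact inv_mem ha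

theorem inv_g {J K : Set I} (h : J ⊆ K) :
    (X.wJ J * X.wJ K)⁻¹ = X.wJ (X.op K '' J) * X.wJ K := by
  rw [← (cx X).2.2.2.2.2.2.1 J K h, mul_inv_rev, wJ_inv X cx, wJ_inv X cx, mul_assoc, mul_assoc,
    (cx X).1 K, mul_one]

/-- `w_J w_K` is `J`-reduced on the left. -/
theorem g_red {J K : Set I} (h : J ⊆ K) {j : I} (hj : j ∈ J) :
    X.len (X.wJ J * X.wJ K) ≤ X.len (X.s j * (X.wJ J * X.wJ K)) := by
  have h1 := ((cx X).2.1 K _ (WJ_mono X h (wJ_mem X J))).2
  have h2 := ((cx X).2.1 K _ (WJ_mono X h (mul_mem (s_mem X hj) (wJ_mem X J)))).2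
  have h3 := (X.wJ_spec J).left j hj
  rw [← mul_assoc]
  omega

/-- It is the only such element of its coset. -/
theorem eq_g {J K : Set I} (h : J ⊆ K) {v : W} (hv : v ∈ X.WJ J)
    (hr : ∀ j ∈ J, X.len (v * X.wJ K) ≤ X.len (X.s j * (v * X.wJ K))) : v = X.wJ J := by
  refine X.exch.isLongest_unique (X.exch.isLongest_of_left hv fun j hj => ?_) (X.wJ_spec J)
  have h1 := ((cx X).2.1 K _ (WJ_mono X h hv)).2
  have h2 := ((cx X).2.1 K _ (WJ_mono X h (mul_mem (s_mem X hj) hv))).2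
  have h3 := hr j hj
  rw [← mul_assoc] at h3
  omega

end cox

section bld

variable {I W : Type} [Group W] [Finite W] {X : Cox I W} {C : Type u} [Finite C] (B : Bld X C)

theorem res_symm {J : Set I} {x y : C} (h : y ∈ B.res J x) : x ∈ B.res J y := by
  change B.δ y x ∈ X.WJ J
  rw [B.symm]; exact inv_mem h

theorem ba2_one (cx : CxStmt) (b1 : Ba1Stmt.{u}) {J K : Set I} {c d : C} (h : J ⊆ K)
    (hcd : B.δ c d = X.wJ K) {y : C} (hy : y ∈ B.res (X.op K '' J) d) :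
    B.δ (B.proj J c y) y = X.wJ J * X.wJ K ∧ B.proj (X.op K '' J) d (B.proj J c y) = y := by
  obtain ⟨-, -, -, hself, -, h6, h7, h8, -, -⟩ := b1 B
  have h2 := (cx X).1 K
  obtain ⟨v, hv, hv'⟩ := h6 _ y c d (res_symm B hy)
  obtain ⟨hp, hp1, hp2⟩ := h7 J c y
  have e1 := (hp2 c (hself J c)).1
  have hv2 : X.wJ K * v⁻¹ * X.wJ K ∈ X.WJ J := by
    have := conj_mem X cx (op_sub X cx h) (inv_mem hv)
    rwa [op_op X cx h] at this
  have e2 : B.δ c y = X.wJ K * v⁻¹ := by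
    rw [B.symm, hv', B.symm c d, hcd, mul_inv_rev, inv_inv]
  have e3 : B.δ (B.proj J c y) y =
      ((B.δ c (B.proj J c y))⁻¹ * (X.wJ K * v⁻¹ * X.wJ K)) * X.wJ K := by
    rw [mul_assoc, mul_assoc, h2, mul_one, ← e2, e1, inv_mul_cancel_left]
  have e4 : (B.δ c (B.proj J c y))⁻¹ * (X.wJ K * v⁻¹ * X.wJ K) = X.wJ J :=
    eq_g X cx h (mul_mem (inv_mem hp) hv2) fun j hj => by rw [← e3]; exact hp1 j hj
  rw [e4] at e3
  refine ⟨e3, h8 _ d _ y hy fun j hj => ?_⟩
  rw [B.symm, e3, inv_g X cx h]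
  exact g_red X cx (op_sub X cx h) hj

end bld

theorem ba2Stmt (cx : CxStmt) (b1 : Ba1Stmt.{u}) : Ba2Stmt.{u} := by
  intro I W _ _ X C _ B
  refine ⟨fun J K c d h hcd => ?_, fun a b g i j hab hg hl y hy => ?_⟩
  · have two : ∀ x ∈ B.res J c, B.δ x (B.proj (X.op K '' J) d x) = X.wJ J * X.wJ K ∧
        B.proj J c (B.proj (X.op K '' J) d x) = x := fun x hx => by
      have hdc : B.δ d c = X.wJ K := by rw [B.symm, hcd, wJ_inv X cx]
      have := ba2_one B cx b1 (op_sub X cx h) hdc (y := x) (by rw [op_op X cx h]; exact hx)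
      rw [op_op X cx h] at this
      refine ⟨?_, this.2⟩
      rw [B.symm, this.1, ← inv_g X cx h, inv_inv]
    refine ⟨fun y hy => ba2_one B cx b1 h hcd hy, two, fun x hx x' hx' => ?_⟩
    obtain ⟨-, -, -, -, -, -, h7, -, -, -⟩ := b1 B
    have e1 := ((h7 J c (B.proj (X.op K '' J) d x')).2.2 x hx).1
    rw [(two x' hx').2, (two x' hx').1] at e1
    have e2 := ((h7 (X.op K '' J) d x).2.2 _ (h7 (X.op K '' J) d x').1).1
    rw [B.symm x, e1, B.symm x, (two x hx).1] at e2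
    rw [B.symm, ← mul_left_inj (X.wJ J * X.wJ K)⁻¹, ← mul_right_inj (X.wJ J * X.wJ K)]
    have e3 : B.δ (B.proj (X.op K '' J) d x') (B.proj (X.op K '' J) d x) =
        (B.δ x x' * (X.wJ J * X.wJ K))⁻¹ * (X.wJ J * X.wJ K) := by rw [e2]; group
    rw [e3]; group
  · obtain ⟨-, -, -, hself, -, h6, h7, h8, -, -⟩ := b1 B
    have c6 := (cx X).2.2.2.2.2.1
    obtain ⟨v, hv, hv'⟩ := h6 _ y a b (res_symm B hy)
    obtain ⟨hp, hp1, hp2⟩ := h7 {i} a y
    have e1 := (hp2 a (hself _ a)).1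
    have e2 : B.δ a y = g ∨ B.δ a y = X.s i * g := by
      rw [B.symm, hv', B.symm a b, hab, mul_inv_rev, inv_inv]
      rcases (c6 j v).1 hv with rfl | rfl
      · left; simp
      · right; rw [X.inv_s, hg]
    have e3 : B.δ (B.proj {i} a y) y = g := by
      have h1 := hp1 i rfl
      have hp' := (c6 i _).1 hp
      have e4 : B.δ (B.proj {i} a y) y = g ∨ B.δ (B.proj {i} a y) y = X.s i * g := by
        rcases hp' with h' | h' <;> rw [h'] at e1 <;> rcases e2 with e2 | e2 <;> rw [e2] at e1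
        · left; rw [e1, one_mul]
        · right; rw [e1, one_mul]
        · right; rw [e1, X.s_mul_s_cancel_left]
        · left; exact (mul_left_cancel e1).symm
      rcases e4 with e4 | e4
      · exact e4
      · rw [e4, X.s_mul_s_cancel_left] at h1; omega
    have key : ∀ y' ∈ B.res {j} b, B.δ (B.proj {i} a y) y' = g →
        B.proj {j} b (B.proj {i} a y) = y' := fun y' hy' e => h8 _ b _ y' hy' fun k hk => by
      obtain rfl : k = j := hk
      rw [B.symm, e, X.len_inv, ← X.len_mul_s_eq, ← hg]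
      exact hl.le
    exact ⟨_, hp, e3, fun y' hy' e => (key y' hy' e).symm.trans (key y hy e3)⟩

end Cfsg.Agent.H92.T3
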