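import Cfsg.Agent.H92.T3Ba2

/-!
# T3-GLUE: gluing rank two isomorphisms, and digons
-/

set_option autoImplicit false

namespace Cfsg.Agent.H92.T3

open Cfsg.Agent.H35 Cfsg.Agent.Lead.T3

universe u

section cox

variable {I W : Type} [Group W] [Finite W] (X : Cox I W)

omit [Finite W] in
theorem ne_of_m {i j : I} (h : X.m i j ≠ 1) : i ≠ j := by
  rintro rfl
  exact h (by rw [Cox.m, X.s_mul_s, orderOf_one])

omit [Finite W] in
theorem comm_of_m {i j : I} (h : X.m i j = 2) : X.s i * X.s j = X.s j * X.s i := by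
  have h1 : (X.s i * X.s j) ^ 2 = 1 := by rw [← h]; exact pow_orderOf_eq_one _
  rw [pow_two, mul_eq_one_iff_eq_inv, mul_inv_rev, X.inv_s, X.inv_s] at h1
  exact h1

omit [Finite W] in
theorem m_symm (i j : I) : X.m i j = X.m j i := by
  rw [Cox.m, Cox.m, ← orderOf_inv, mul_inv_rev, X.inv_s, X.inv_s]

theorem digon_dec (cx : CxStmt) {i j : I} (h : X.m i j = 2) {w : W} (hw : w ∈ X.WJ {i, j}) :
    ∃ a ∈ X.WJ {i}, ∃ b ∈ X.WJ {j}, w = a * b := by
  obtain ⟨n, hn, hw⟩ := ((cx X).2.2.2.2.2.2.2 i j (ne_of_m X (by omega))).2.2 w hw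
  rw [h] at hn
  have si : X.s i ∈ X.WJ {i} := s_mem X rfl
  have sj : X.s j ∈ X.WJ {j} := s_mem X rfl
  interval_cases n
  · exact ⟨1, one_mem _, 1, one_mem _, by rcases hw with rfl | rfl <;> simp [InvGen.altw]⟩
  · rcases hw with rfl | rfl
    · exact ⟨_, si, 1, one_mem _, by simp [InvGen.altw]⟩
    · exact ⟨1, one_mem _, _, sj, by simp [InvGen.altw]⟩
  · refine ⟨_, si, _, sj, ?_⟩
    rcases hw with rfl | rfl
    · simp [InvGen.altw]
    · simp [InvGen.altw, comm_of_m X h]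

theorem red_of_mem (cx : CxStmt) {i j : I} (h : i ≠ j) {w : W} (hw : w ∈ X.WJ {j}) :
    X.len w ≤ X.len (X.s i * w) := by
  rcases ((cx X).2.2.2.2.2.1 j w).1 hw with rfl | rfl
  · rw [X.len_one]; exact Nat.zero_le _
  · rw [X.exch.len_s]
    refine Nat.one_le_iff_ne_zero.2 fun h0 => h (X.inj ?_)
    rw [X.len_eq_zero_iff, mul_eq_one_iff_eq_inv, X.inv_s] at h0
    exact h0

end cox

section bld

variable {I W : Type} [Group W] [Finite W] {X : Cox I W} {C : Type u} [Finite C] (B : Bld X C)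

omit [Finite W] [Finite C] in
theorem res_mono {J K : Set I} (h : J ⊆ K) (c : C) : B.res J c ⊆ B.res K c :=
  fun _ hx => Subgroup.closure_mono (Set.image_mono h) hx

theorem res_trans (b1 : Ba1Stmt.{u}) {J : Set I} {x y z : C} (h : y ∈ B.res J x)
    (h' : z ∈ B.res J y) : z ∈ B.res J x := by
  rwa [(b1 B).2.2.2.2.1 J x y h] at h'

theorem res_δ (b1 : Ba1Stmt.{u}) {J : Set I} {x y z : C} (h : y ∈ B.res J x)
    (h' : z ∈ B.res J x) : B.δ y z ∈ X.WJ J :=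
  res_trans B b1 (res_symm B h) h'

omit [Finite W] [Finite C] in
theorem apt_mem {σ : W → C} (hσ : B.Apt σ) {J : Set I} {v : W} (hv : v ∈ X.WJ J) :
    σ v ∈ B.res J (σ 1) := by
  change B.δ (σ 1) (σ v) ∈ X.WJ _
  rw [hσ]; simpa using hv

variable (cx : CxStmt) (b1 : Ba1Stmt.{u})
include cx b1

theorem proj_eq {i j : I} (h : i ≠ j) {c a x : C} (ha : a ∈ B.res {i} c) (hx : x ∈ B.res {j} a) :
    B.proj {i} c x = a :=
  (b1 B).2.2.2.2.2.2.2.1 _ c x a ha fun k hk => by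
    obtain rfl : k = i := hk
    exact red_of_mem X cx h hx

theorem digon_proj {i j : I} (h : X.m i j = 2) {c x : C} (hx : x ∈ B.res {i, j} c) :
    x ∈ B.res {j} (B.proj {i} c x) := by
  obtain ⟨hp, hp1, -⟩ := (b1 B).2.2.2.2.2.2.1 {i} c x
  have h1 : B.δ (B.proj {i} c x) x ∈ X.WJ {i, j} :=
    res_δ B b1 (res_mono B (by simp) c hp) hx
  obtain ⟨a, ha, b, hb, e⟩ := digon_dec X cx h h1
  change B.δ _ _ ∈ X.WJ _
  rcases ((cx X).2.2.2.2.2.1 i a).1 ha with rfl | rfl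
  · rw [e, one_mul]; exact hb
  · have h2 := hp1 i rfl
    rw [e, X.s_mul_s_cancel_left] at h2
    have h3 := red_of_mem X cx (ne_of_m X (by omega : X.m i j ≠ 1)) hb
    rcases X.exch.len_s_mul i b with h4 | h4 <;> omega

theorem digon_half {i j : I} (h : X.m i j = 2) {c x y : C} (hx : x ∈ B.res {i, j} c)
    (hy : y ∈ B.res {i, j} c) {a b : W} (ha : a ∈ X.WJ {i}) (hb : b ∈ X.WJ {j})
    (e : B.δ x y = a * b) : a = B.δ (B.proj {i} c x) (B.proj {i} c y) := by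
  have hij : i ≠ j := ne_of_m X (by omega)
  have px := ((b1 B).2.2.2.2.2.2.1 {i} c x).1
  have py := ((b1 B).2.2.2.2.2.2.1 {i} c y).1
  have qx := digon_proj B cx b1 h hx
  have qy := digon_proj B cx b1 h hy
  have c6 := (cx X).2.2.2.2.2.1
  rcases (c6 i a).1 ha with rfl | rfl
  · have : y ∈ B.res {j} x := by change B.δ _ _ ∈ X.WJ _; rw [e, one_mul]; exact hb
    rw [proj_eq B cx b1 hij px (res_trans B b1 qx this), (B.eq_one _ _).2 rfl]
  · rcases (c6 i _).1 (res_δ B b1 px py) with h1 | h1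
    · rw [← (B.eq_one _ _).1 h1] at qy
      have h2 := res_δ B b1 qx qy
      rw [e] at h2
      exact absurd (((cx X).2.2.2.2.1 {j} i).1 ((Subgroup.mul_mem_cancel_right _ hb).1 h2)) hij
    · exact h1.symm

/-- The distance in a digon. -/
theorem digon_δ {i j : I} (h : X.m i j = 2) {c x y : C} (hx : x ∈ B.res {i, j} c)
    (hy : y ∈ B.res {i, j} c) : B.δ x y =
      B.δ (B.proj {i} c x) (B.proj {i} c y) * B.δ (B.proj {j} c x) (B.proj {j} c y) := by
  obtain ⟨a, ha, b, hb, e⟩ := digon_dec X cx h (res_δ B b1 hx hy)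
  have c6 := (cx X).2.2.2.2.2.1
  have hab : a * b = b * a := by
    rcases (c6 i a).1 ha with rfl | rfl
    · simp
    · rcases (c6 j b).1 hb with rfl | rfl
      · simp
      · exact comm_of_m X h
  rw [← digon_half B cx b1 h hx hy ha hb e,
    ← digon_half B cx b1 (by rw [m_symm, h]) (Set.pair_comm i j ▸ hx) (Set.pair_comm i j ▸ hy)
      hb ha (e.trans hab), e]

/-- A digon is the product of its panels. -/
theorem digon_ex {i j : I} (h : X.m i j = 2) {c a b : C} (ha : a ∈ B.res {i} c)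
    (hb : b ∈ B.res {j} c) : ∃ x ∈ B.res {i, j} c, B.proj {i} c x = a ∧ B.proj {j} c x = b := by
  have hij : i ≠ j := ne_of_m X (by omega)
  have ha' : a ∈ B.res {j, i} c := res_mono B (by simp) c ha
  have hb' : b ∈ B.res {j, i} c := res_mono B (by simp) c hb
  obtain ⟨v, hv, w, hw, e⟩ := digon_dec X cx (by rw [m_symm, h]) (res_δ B b1 ha' hb')
  obtain ⟨x, h1, h2⟩ := (b1 B).2.1 a b v w e
  have hx1 : x ∈ B.res {j} a := by change B.δ _ _ ∈ X.WJ _; rw [h1]; exact hv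
  have hx2 : x ∈ B.res {i} b := res_symm B (by change B.δ _ _ ∈ X.WJ _; rw [h2]; exact hw)
  refine ⟨x, ?_, proj_eq B cx b1 hij ha hx1, proj_eq B cx b1 hij.symm hb hx2⟩
  exact res_trans B b1 (res_mono B (by simp) c ha) (res_mono B (by simp) a hx1)

omit b1 in
theorem mem_res_one {i : I} {c x : C} : x ∈ B.res {i} c ↔ x = c ∨ x ∈ B.pan c i := by
  change B.δ c x ∈ X.WJ _ ↔ _ ∨ B.δ c x = _
  rw [(cx X).2.2.2.2.2.1, B.eq_one, eq_comm]

omit cx b1 [Finite W] [Finite C] in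
theorem not_mem_pan (i : I) (c : C) : c ∉ B.pan c i := fun h =>
  X.exch.s_ne_one i (((B.eq_one c c).2 rfl).symm.trans h).symm

/-- Two chambers of a panel are equal or adjacent. -/
theorem pan_δ {i : I} {c x y : C} (hx : x ∈ B.res {i} c) (hy : y ∈ B.res {i} c) (h : x ≠ y) :
    B.δ x y = X.s i :=
  (((cx X).2.2.2.2.2.1 i _).1 (res_δ B b1 hx hy)).resolve_left fun e => h ((B.eq_one _ _).1 e)

end bld

section two

variable {I W : Type} [Group W] [Finite W] {X : Cox I W} {C C' : Type u} [Finite C] [Finite C']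
  (B : Bld X C) (B' : Bld X C')

omit [Finite W] [Finite C] [Finite C'] in
theorem isoOn_congr {f g : C → C'} {J : Set I} {c : C} (hc : c ∈ B.res J c)
    (h : B.IsoOn B' f J c) (e : Set.EqOn g f (B.res J c)) : B.IsoOn B' g J c := by
  refine ⟨fun x hx y hy => by rw [e hx, e hy]; exact h.1 x hx y hy, fun y hy => ?_⟩
  rw [e hc] at hy
  obtain ⟨x, hx, rfl⟩ := h.2 hy
  exact ⟨x, hx, e hx⟩

omit [Finite W] [Finite C] [Finite C'] in
theorem isoOn_mono {f : C → C'} {J K : Set I} (hJ : J ⊆ K) {c : C} (hc : c ∈ B.res K c)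
    (h : B.IsoOn B' f K c) : B.IsoOn B' f J c := by
  refine ⟨fun x hx y hy => h.1 x (res_mono B hJ c hx) y (res_mono B hJ c hy), fun y hy => ?_⟩
  obtain ⟨x, hx, rfl⟩ := h.2 (res_mono B' hJ _ hy)
  refine ⟨x, ?_, rfl⟩
  change B.δ c x ∈ X.WJ _
  rw [← h.1 c hc x hx]; exact hy

theorem glue_one (cx : CxStmt) (b1 : Ba1Stmt.{u}) (ex : ExtStmt.{u}) (hI : Nontrivial I)
    (hM : X.M234) (σ : W → C) (σ' : W → C') (f : C → C') (hσ : B.Apt σ) (hσ' : B'.Apt σ')
    (h : ∀ i j, i ≠ j → B.Ext B' σ σ' {i, j} f) : B.Isom B' := by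
  classical
  have hself := (b1 B).2.2.2.1
  have h' : ∀ J : Set I, (∃ i j, i ≠ j ∧ J = {i, j}) → B.Ext B' σ σ' J f := by
    rintro _ ⟨i, j, hij, rfl⟩; exact h i j hij
  haveI : Nonempty C' := ⟨σ' 1⟩
  choose! ψ hψ using h'
  let P : C → Set I → Prop := fun x J => (∃ i j, i ≠ j ∧ J = {i, j}) ∧ x ∈ B.res J (σ 1)
  let φ : C → C' := fun x => if h : ∃ J, P x J then ψ h.choose x else σ' 1
  have agree : ∀ x J J', P x J → P x J' → ψ J x = ψ J' x := by
    intro x J J' hJ hJ'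
    by_cases e : J = J'
    · rw [e]
    have hm : B.δ (σ 1) x ∈ X.WJ (J ∩ J') := by
      rw [← (cx X).2.2.2.1]; exact ⟨hJ.2, hJ'.2⟩
    have one : x = σ 1 → ψ J x = ψ J' x := by
      rintro rfl
      rw [(hψ J hJ.1).2.1 1 (one_mem _), (hψ J' hJ'.1).2.1 1 (one_mem _)]
    by_cases hne : (J ∩ J').Nonempty
    · obtain ⟨k, hk⟩ := hne
      have hsub : J ∩ J' ⊆ {k} := by
        intro l hl
        by_contra hlk
        have hlk : l ≠ k := hlk
        have two : ∀ L : Set I, (∃ i j, i ≠ j ∧ L = {i, j}) → k ∈ L → l ∈ L → L = {k, l} := by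
          rintro _ ⟨i, j, hij, rfl⟩ (rfl | rfl) (rfl | rfl)
          · exact absurd rfl hlk
          · rfl
          · exact Set.pair_comm _ _
          · exact absurd rfl hlk
        exact e ((two J hJ.1 hk.1 hl.1).trans (two J' hJ'.1 hk.2 hl.2).symm)
      rcases (mem_res_one B cx).1 (WJ_mono X hsub hm) with h1 | h1
      · exact one h1
      · rw [(hψ J hJ.1).2.2 k hk.1 x h1, (hψ J' hJ'.1).2.2 k hk.2 x h1]
    · rw [Set.not_nonempty_iff_eq_empty.1 hne, Cox.WJ, Set.image_empty, Subgroup.closure_empty,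
        Subgroup.mem_bot, B.eq_one] at hm
      exact one hm.symm
  have hφ : ∀ i j, i ≠ j → Set.EqOn φ (ψ {i, j}) (B.res {i, j} (σ 1)) := by
    intro i j hij x hx
    have hP : P x {i, j} := ⟨⟨i, j, hij, rfl⟩, hx⟩
    have hex : ∃ J, P x J := ⟨_, hP⟩
    simp only [φ, dif_pos hex]
    exact agree x _ _ hex.choose_spec hP
  have big : ∀ i j : I, ∃ k l, k ≠ l ∧ ({i, j} : Set I) ⊆ {k, l} := by
    intro i j
    by_cases hij : i = j
    · obtain ⟨l, hl⟩ := exists_ne i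
      exact ⟨i, l, hl.symm, by rw [← hij]; simp⟩
    · exact ⟨i, j, hij, subset_rfl⟩
  obtain ⟨g, hg, -⟩ := ex B B' hI hM σ σ' φ hσ hσ' (fun i j => by
      obtain ⟨k, l, hkl, hs⟩ := big i j
      exact isoOn_mono B B' hs (hself _ _)
        (isoOn_congr B B' (hself _ _) (hψ _ ⟨k, l, hkl, rfl⟩).1 (hφ k l hkl)))
    (fun i j v hv => by
      obtain ⟨k, l, hkl, hs⟩ := big i j
      have hv' := WJ_mono X hs hv
      rw [hφ k l hkl (apt_mem B hσ hv')]
      exact (hψ _ ⟨k, l, hkl, rfl⟩).2.1 v hv')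
  exact ⟨g, hg⟩

theorem glue_two (cx : CxStmt) (b1 : Ba1Stmt.{u}) (σ : W → C) (σ' : W → C') (f : C → C') (i j : I)
    (hσ : B.Apt σ) (hσ' : B'.Apt σ') (h : X.m i j = 2)
    (hf : ∀ k, k = i ∨ k = j → Set.BijOn f (B.pan (σ 1) k) (B'.pan (σ' 1) k) ∧
      f (σ (X.s k)) = σ' (X.s k)) : B.Ext B' σ σ' {i, j} f := by
  classical
  have hij : i ≠ j := ne_of_m X (by omega)
  have hself := (b1 B).2.2.2.1
  have hself' := (b1 B').2.2.2.1
  let F : C → C' := fun x => if x = σ 1 then σ' 1 else f x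
  have F1 : F (σ 1) = σ' 1 := if_pos rfl
  have Fp : ∀ k, ∀ x ∈ B.pan (σ 1) k, F x = f x := fun k x hx =>
    if_neg (by rintro rfl; exact not_mem_pan B k _ hx)
  have Fm : ∀ k, k = i ∨ k = j → ∀ x ∈ B.res {k} (σ 1), F x ∈ B'.res {k} (σ' 1) := by
    intro k hk x hx
    rcases (mem_res_one B cx).1 hx with rfl | hx
    · rw [F1]; exact hself' _ _
    · rw [Fp k x hx]; exact (mem_res_one B' cx).2 (Or.inr ((hf k hk).1.1 hx))
  have Fi : ∀ k, k = i ∨ k = j → ∀ x ∈ B.res {k} (σ 1), ∀ y ∈ B.res {k} (σ 1),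
      B'.δ (F x) (F y) = B.δ x y := by
    intro k hk x hx y hy
    by_cases e : x = y
    · rw [e, (B.eq_one _ _).2 rfl, (B'.eq_one _ _).2 rfl]
    rw [pan_δ B cx b1 hx hy e]
    refine pan_δ B' cx b1 (Fm k hk x hx) (Fm k hk y hy) fun e' => ?_
    rcases (mem_res_one B cx).1 hx with rfl | hx' <;> rcases (mem_res_one B cx).1 hy with rfl | hy'
    · exact e rfl
    · rw [F1, Fp k y hy'] at e'
      exact not_mem_pan B' k _ (e' ▸ (hf k hk).1.1 hy')
    · rw [F1, Fp k x hx'] at e'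
      exact not_mem_pan B' k _ (e' ▸ (hf k hk).1.1 hx')
    · rw [Fp k x hx', Fp k y hy'] at e'
      exact e ((hf k hk).1.2.1 hx' hy' e')
  have Fs : ∀ k, k = i ∨ k = j → ∀ y ∈ B'.res {k} (σ' 1), ∃ x ∈ B.res {k} (σ 1), F x = y := by
    intro k hk y hy
    rcases (mem_res_one B' cx).1 hy with rfl | hy
    · exact ⟨_, hself _ _, F1⟩
    · obtain ⟨x, hx, rfl⟩ := (hf k hk).1.2.2 hy
      exact ⟨x, (mem_res_one B cx).2 (Or.inr hx), Fp k x hx⟩
  have pm := fun (k : I) (x : C) => ((b1 B).2.2.2.2.2.2.1 {k} (σ 1) x).1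
  have pm' := fun (k : I) (x : C') => ((b1 B').2.2.2.2.2.2.1 {k} (σ' 1) x).1
  have hex := fun x : C => digon_ex B' cx b1 h (Fm i (Or.inl rfl) _ (pm i x))
    (Fm j (Or.inr rfl) _ (pm j x))
  choose φ hφ hφi hφj using hex
  have uq : ∀ x, ∀ y ∈ B'.res {i, j} (σ' 1), B'.proj {i} (σ' 1) y = F (B.proj {i} (σ 1) x) →
      B'.proj {j} (σ' 1) y = F (B.proj {j} (σ 1) x) → φ x = y := by
    intro x y hy h1 h2
    rw [← B'.eq_one, digon_δ B' cx b1 h (hφ x) hy, hφi, hφj, h1, h2, (B'.eq_one _ _).2 rfl,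
      (B'.eq_one _ _).2 rfl, mul_one]
  have apt : ∀ a ∈ X.WJ {i}, ∀ b ∈ X.WJ {j}, φ (σ (a * b)) = σ' (a * b) := by
    have c6 := (cx X).2.2.2.2.2.1
    have Fσ : ∀ k, k = i ∨ k = j → ∀ a ∈ X.WJ {k}, F (σ a) = σ' a := by
      intro k hk a ha
      rcases (c6 k a).1 ha with rfl | rfl
      · exact F1
      · rw [Fp k _ (by change B.δ _ _ = _; rw [hσ]; simp), (hf k hk).2]
    intro a ha b hb
    have hab : a * b = b * a := by
      rcases (c6 i a).1 ha with rfl | rfl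
      · simp
      · rcases (c6 j b).1 hb with rfl | rfl
        · simp
        · exact comm_of_m X h
    have q1 : ∀ {D : Type u} [Finite D] (E : Bld X D) (τ : W → D), E.Apt τ →
        E.proj {i} (τ 1) (τ (a * b)) = τ a ∧ E.proj {j} (τ 1) (τ (a * b)) = τ b := by
      intro D _ E τ hτ
      refine ⟨proj_eq E cx b1 hij (apt_mem E hτ ha) ?_,
        proj_eq E cx b1 hij.symm (apt_mem E hτ hb) ?_⟩
      · change E.δ _ _ ∈ X.WJ _
        rw [hτ, inv_mul_cancel_left]; exact hb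
      · change E.δ _ _ ∈ X.WJ _
        rw [hτ, hab, inv_mul_cancel_left]; exact ha
    refine uq _ _ (apt_mem B' hσ' (mul_mem (WJ_mono X (by simp) ha) (WJ_mono X (by simp) hb)))
      ?_ ?_
    · rw [(q1 B σ hσ).1, (q1 B' σ' hσ').1, Fσ i (Or.inl rfl) a ha]
    · rw [(q1 B σ hσ).2, (q1 B' σ' hσ').2, Fσ j (Or.inr rfl) b hb]
  have φ1 : φ (σ 1) = σ' 1 := by simpa using apt 1 (one_mem _) 1 (one_mem _)
  refine ⟨φ, ⟨fun x hx y hy => ?_, fun y hy => ?_⟩, fun w hw => ?_, fun k hk x hx => ?_⟩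
  · rw [digon_δ B' cx b1 h (hφ x) (hφ y), hφi, hφi, hφj, hφj, digon_δ B cx b1 h hx hy,
      Fi i (Or.inl rfl) _ (pm i x) _ (pm i y), Fi j (Or.inr rfl) _ (pm j x) _ (pm j y)]
  · rw [φ1] at hy
    obtain ⟨a, ha, ea⟩ := Fs i (Or.inl rfl) _ (pm' i y)
    obtain ⟨b, hb, eb⟩ := Fs j (Or.inr rfl) _ (pm' j y)
    obtain ⟨x, hx, e1, e2⟩ := digon_ex B cx b1 h ha hb
    exact ⟨x, hx, uq x y hy (by rw [e1, ea]) (by rw [e2, eb])⟩
  · obtain ⟨a, ha, b, hb, rfl⟩ := digon_dec X cx h hw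
    exact apt a ha b hb
  · have hx1 : x ∈ B.res {k} (σ 1) := (mem_res_one B cx).2 (Or.inr hx)
    have hx2 := Fm k hk x hx1
    rw [← Fp k x hx]
    rcases hk with rfl | rfl
    · refine uq x _ (res_mono B' (by simp) _ hx2) ?_ ?_
      · rw [proj_eq B' cx b1 hij hx2 (hself' _ _), proj_eq B cx b1 hij hx1 (hself _ _)]
      · rw [proj_eq B' cx b1 hij.symm (hself' _ _) hx2, proj_eq B cx b1 hij.symm (hself _ _) hx1,
          F1]
    · refine uq x _ (res_mono B' (by simp) _ hx2) ?_ ?_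
      · rw [proj_eq B' cx b1 hij (hself' _ _) hx2, proj_eq B cx b1 hij (hself _ _) hx1, F1]
      · rw [proj_eq B' cx b1 hij.symm hx2 (hself' _ _),
          proj_eq B cx b1 hij.symm hx1 (hself _ _)]

end two

theorem glueStmt (cx : CxStmt) (b1 : Ba1Stmt.{u}) (ex : ExtStmt.{u}) : GlueStmt.{u} := by
  intro I W _ _ X C C' _ _ B B'
  exact ⟨glue_one B B' cx b1 ex, glue_two B B' cx b1⟩

end Cfsg.Agent.H92.T3
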