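import Cfsg.Agent.H92.W3D

/-!
Width three: the finite checks.
-/

set_option autoImplicit false

namespace Cfsg.Agent.H92.W3

/-- a point with generators of its two subspaces -/
abbrev Tri := ℕ × List ℕ × List ℕ

/-- the Siegel transformations belonging to a list of points -/
def gens (ts : List Tri) : List (ℕ × ℕ) := ts.flatMap fun t => t.2.2.map fun x => (t.1, x)

/-- apply a word in the generators -/
def ap (f : ℕ) (g : List (ℕ × ℕ)) (w : List ℕ) (v : ℕ) : ℕ :=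
  w.foldl (fun v i => EN f (g.getD i (0, 0)).1 (g.getD i (0, 0)).2 v) v

/-- the word maps the point `a` to the point `b` but does not respect the subspaces -/
def conf (f : ℕ) (g : List (ℕ × ℕ)) (a b : Tri) (w : List ℕ) : Bool :=
  ap f g w a.1 == b.1 && (a.2.1.any (fun u => !(spn (b.1 :: b.2.1)).contains (ap f g w u)) ||
    a.2.2.any fun x => !(spn (b.1 :: b.2.2)).contains (ap f g w x))

/-- one of the words gives a conflict -/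
def confs (f : ℕ) (t : Tri) (ts : List Tri) (ws : List (ℕ × ℕ × List ℕ)) : Bool :=
  ws.any fun r => conf f (gens (t :: ts)) ((t :: ts).getD r.1 t) ((t :: ts).getD r.2.1 t) r.2.2

/-- all possibilities at the point `k` when `U` has dimension three -/
def C3 (f k k' : ℕ) (F : Tri → Bool) : Prop :=
  ∀ u < 64, (BN u k = 0 ∧ BN u k' = 0 ∧ u ≠ 0 ∧ qN f u = 0) →
  ∀ v < 64, (u < v ∧ v < u ^^^ v ∧ BN v k = 0 ∧ BN v k' = 0 ∧ qN f v = 0 ∧ BN u v = 0) →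
  ∀ x < 64, (BN x k = 0 ∧ BN x k' = 0 ∧ BN u x = 1 ∧ BN v x = 0) →
  ∀ y < 64, (BN y k = 0 ∧ BN y k' = 0 ∧ BN u y = 0 ∧ BN v y = 1) →
  F (k, [u, v], [x, y]) = true

instance (f k k' : ℕ) (F : Tri → Bool) : Decidable (C3 f k k' F) := by
  unfold C3
  set_option synthInstance.maxSize 100000 in set_option synthInstance.maxHeartbeats 400000 in infer_instance

/-- all possibilities at the point `k` when `U` has dimension two -/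
def C2 (f k k' : ℕ) (F : Tri → Bool) : Prop :=
  ∀ u < 64, (BN u k = 0 ∧ BN u k' = 0 ∧ u ≠ 0 ∧ qN f u = 0) →
  ∀ x < 64, (BN x k = 0 ∧ BN x k' = 0 ∧ BN u x = 1) →
  ∀ y < 64, (BN y k = 0 ∧ BN y k' = 0 ∧ BN u y = 0 ∧ BN x y = 0 ∧ y ≠ 0) →
  ∀ w < 64, (y < w ∧ w < y ^^^ w ∧ BN w k = 0 ∧ BN w k' = 0 ∧ BN u w = 0 ∧ BN x w = 0) →
  F (k, [u], [x, y, w]) = true

instance (f k k' : ℕ) (F : Tri → Bool) : Decidable (C2 f k k' F) := by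
  unfold C2
  set_option synthInstance.maxSize 100000 in set_option synthInstance.maxHeartbeats 400000 in infer_instance

/-- words for dimension two -/
def ws2 : List (ℕ × ℕ × List ℕ) := [(0, 0, [4, 1, 4]), (1, 1, [0, 4, 5, 0]), (1, 1, [1, 3, 1]),
  (1, 0, [1, 5, 1, 5]), (0, 0, [5, 0, 2, 5]), (0, 0, [5, 2, 5]), (1, 0, [0, 5, 0, 5]),
  (1, 0, [0, 3])]

theorem chk2 : ∀ a < 2, ∀ b < 2, ∀ c < 2, C2 (8 * a + 16 * b + 32 * c) 2 1 fun τ =>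
    confs (8 * a + 16 * b + 32 * c) (1, [4], [8, 16, 32]) [τ] ws2 := by
  decide +kernel

/-- words for dimension three, first stage -/
def ws1 : List (ℕ × ℕ × List ℕ) := [(0, 0, [3, 1, 2, 1, 3]), (1, 1, [0, 2, 1, 2, 0]),
  (0, 0, [3, 0, 2, 0, 3]), (1, 1, [0, 3, 0]), (1, 0, [0, 3, 0, 3]), (1, 1, [0, 3, 1, 3, 0]),
  (0, 0, [3, 0, 3]), (1, 1, [0, 3, 0, 3, 0]), (0, 0, [2, 3, 0, 2, 3]), (1, 1, [0, 2, 0]),
  (1, 0, [0, 2]), (1, 1, [1, 2, 1]), (1, 0, [0, 2, 0, 2]), (0, 0, [2, 0, 3, 0, 2]),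
  (0, 0, [2, 0, 2]), (1, 1, [0, 1, 3, 0, 1]), (1, 0, [0, 2, 0, 1, 3]), (1, 1, [1, 3, 1]),
  (1, 0, [1, 3, 0, 2]), (1, 0, [1, 3, 1, 3]), (1, 0, [0, 1, 2, 3])]

/-- the configurations surviving the first stage -/
def surv : List (ℕ × Tri × Tri × ℕ × List (ℕ × ℕ)) :=
  [(0, (1, [4, 16], [8, 32]), (2, [4, 16], [24, 36]), 0, [(4, 8)]),
  (0, (1, [4, 16], [8, 32]), (2, [8, 32], [4, 16]), 0, [(6, 1)]),
  (0, (1, [4, 16], [8, 32]), (2, [8, 32], [36, 24]), 0, [(4, 8)]),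
  (0, (1, [4, 16], [8, 32]), (2, [24, 36], [4, 16]), 0, [(6, 1)]),
  (0, (1, [4, 16], [24, 32]), (2, [4, 32], [12, 20]), 44, [(4, 8), (8, 4)]),
  (0, (1, [4, 16], [24, 32]), (2, [8, 16], [20, 32]), 44, [(4, 8), (6, 1)]),
  (0, (1, [4, 16], [24, 32]), (2, [20, 40], [32, 56]), 8, [(4, 8), (15, 1), (36, 8)]),
  (32, (1, [4, 16], [24, 32]), (2, [4, 48], [56, 32]), 8, [(4, 8), (15, 1), (44, 4)]),
  (32, (1, [4, 16], [24, 32]), (2, [8, 16], [4, 56]), 36, [(8, 4), (9, 2)]),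
  (32, (1, [4, 16], [24, 32]), (2, [20, 44], [24, 4]), 36, [(8, 4), (9, 2)]),
  (8, (1, [4, 16], [24, 32]), (2, [4, 32], [40, 16]), 8, [(4, 8), (12, 4)]),
  (8, (1, [4, 16], [24, 32]), (2, [12, 16], [24, 32]), 36, [(11, 1), (12, 4), (44, 4)]),
  (8, (1, [4, 16], [24, 32]), (2, [20, 44], [32, 16]), 8, [(4, 8), (6, 1)])]

theorem chk1 : ∀ a < 2, ∀ b < 2, ∀ c < 2, C3 (8 * a + 32 * b) 2 1 fun τ =>
    confs (8 * a + 32 * b) (1, [4, 16], [8 ^^^ c * 16, 32]) [τ] ws1 || surv.any fun r =>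
      r.1 == 8 * a + 32 * b && r.2.1 == (1, [4, 16], [8 ^^^ c * 16, 32]) && r.2.2.1 == τ := by
  decide +kernel

/-- words for dimension three, last stage -/
def ws3 : List (ℕ × ℕ × List ℕ) := [(2, 2, [1]), (2, 2, [3]), (2, 2, [2, 0, 2]), (2, 2, [1, 2]),
  (1, 1, [5]), (1, 1, [4]), (2, 2, [3, 0, 1, 3]), (2, 2, [0, 1, 2, 3]), (2, 2, [0, 1, 3]),
  (2, 2, [1, 2, 1])]

theorem chk3 : ∀ r ∈ surv, ∀ p ∈ r.2.2.2.2, p.1 < 64 ∧ p.2 < 64 ∧ BN p.1 p.2 = 1 ∧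
    C3 r.1 p.1 p.2 fun τ => confs r.1 r.2.1 [r.2.2.1, τ] ws3 := by
  decide +kernel

/-- words moving points to representatives -/
def wsO : List (List ℕ) := [[], [0, 2], [2, 0], [1, 3, 0], [3, 1, 2], [1, 2, 0, 3, 0],
  [3, 0, 2, 1, 2], [0, 1, 2, 3, 0, 1], [0, 2, 3, 0], [0, 1, 2, 1, 3, 1], [2, 1, 2, 0, 1, 3],
  [1, 3, 1, 2, 0, 2], [2, 3, 1, 3, 1], [2, 0, 1, 3, 1, 2], [3, 1, 3, 0, 3], [0, 2, 0, 2, 3, 0],
  [2, 3, 0, 1, 2, 3], [2, 0, 1, 2, 3, 0], [0, 2, 0, 1], [2, 0, 1, 3, 0], [0, 3, 0, 2, 3, 0],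
  [1, 2, 3, 1, 3, 0], [0, 3, 1, 3, 0], [2, 3, 0], [0, 2, 3, 1, 2], [1, 2, 3, 0, 1, 2]]

theorem chk4 : ∀ r ∈ surv, r.2.2.2.1 < 64 ∧ ∀ k < 64, (k ≠ 0 ∧ qN r.1 k = 0 ∧
    if r.2.2.2.1 = 0 then k ∉ spn (1 :: r.2.2.1.2.2) ∧ k ∉ spn (2 :: r.2.1.2.2)
      else BN k r.2.2.2.1 = 1) →
    ∃ w ∈ wsO, ∃ p ∈ r.2.2.2.2, ap r.1 (gens [r.2.1, r.2.2.1]) w k = p.1 := by
  set_option synthInstance.maxSize 2000 in decide +kernel

theorem chk5 : ∀ r ∈ surv, r.2.2.2.1 = 0 → r.2.1.1 = 1 ∧ r.2.2.1.1 = 2 ∧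
    (∀ k ∈ spn (1 :: r.2.2.1.2.2) ++ spn (2 :: r.2.1.2.2), k ≠ 0 →
      ∃ w ∈ wsO, ap r.1 (gens [r.2.1, r.2.2.1]) w k ∈ [1, 2]) ∧
    (∀ k ∈ spn (1 :: r.2.2.1.2.2), k ∈ spn (2 :: r.2.1.2.2) → k = 0) ∧
    (∀ k ∈ spn (2 :: r.2.1.2.2), BN k 1 = 0 → k ∈ spn (1 :: r.2.1.2.2)) ∧
    (spn (1 :: r.2.2.1.2.2)).Nodup ∧ (spn (1 :: r.2.2.1.2.2)).length = 8 ∧
    (spn (2 :: r.2.1.2.2)).Nodup ∧ (spn (2 :: r.2.1.2.2)).length = 8 := by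
  set_option synthInstance.maxSize 2000 in decide +kernel

end Cfsg.Agent.H92.W3
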