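import Cfsg.Agent.H92.W3A
import Cfsg.Agent.H69.WcI
import Cfsg.Agent.S2136

/-! Weakly closed large extraspecial subgroups: the centralizer has no subgroup of index two. -/

set_option autoImplicit false

namespace Cfsg.Agent.H92.W4

open Subgroup Cfsg.Agent.H49 Cfsg.Agent.H69.XV Cfsg.Agent.H69.XV.VD Cfsg.Agent.H92.Lx
  Cfsg.Agent.H69.Out

universe u

variable {G : Type u} [Group G]

/-- An equivariant family of subgroups of index at most two in the centralizers. -/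
structure KP (z : G) (κ : G → Subgroup G) : Prop where
  conj : ∀ g s x, g * x * g⁻¹ ∈ κ (g * s * g⁻¹) ↔ x ∈ κ s
  mul : ∀ {s}, Cj z s → ∀ {a b}, a * s = s * a → b * s = s * b →
    (a * b ∈ κ s ↔ (a ∈ κ s ↔ b ∈ κ s))
  Q : ∀ {s}, Cj z s → O2C s ≤ κ s

theorem exists_KP {z : G} {K : Subgroup G} (hK : K.relIndex (centralizer {z}) = 2)
    (hQ : O2C z ≤ K) : ∃ κ, KP z κ ∧ ∀ x, x * z = z * x → (x ∈ κ z ↔ x ∈ K) := by
  have mul : ∀ {a b : G}, a * z = z * a → b * z = z * b → (a * b ∈ K ↔ (a ∈ K ↔ b ∈ K)) :=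
    fun {a b} ha hb => by
      have := mul_mem_iff_of_index_two (H := K.subgroupOf (centralizer {z})) hK
        (a := ⟨a, mem_centralizer_singleton_iff.2 ha⟩) (b := ⟨b, mem_centralizer_singleton_iff.2 hb⟩)
      simpa [mem_subgroupOf] using this
  let κ : G → Subgroup G := fun s => ⨅ g ∈ {g | g * z * g⁻¹ = s}, cj K g
  have m : ∀ {s x}, x ∈ κ s ↔ ∀ g, g * z * g⁻¹ = s → g⁻¹ * x * g ∈ K := fun {s x} => by
    simp only [κ, mem_iInf, mem_cj, Set.mem_setOf_eq]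
  have m1 : ∀ g {x}, x * z = z * x → (g * x * g⁻¹ ∈ κ (g * z * g⁻¹) ↔ x ∈ K) := fun g x hx => by
    refine m.trans ⟨fun h => by simpa [mul_assoc] using h g rfl, fun h k hk => ?_⟩
    have c : k⁻¹ * g * z = z * (k⁻¹ * g) := by
      apply Eq.symm; apply comm_of_conj
      calc _ = k⁻¹ * (g * z * g⁻¹) * k := by group
        _ = z := by rw [← hk]; group
    rw [show k⁻¹ * (g * x * g⁻¹) * k = k⁻¹ * g * x * (k⁻¹ * g)⁻¹ by group,
      mul (cmul c hx) (cinv c), mul c hx, inv_mem_iff]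
    tauto
  refine ⟨κ, ⟨fun g s x => ?_, ?_, ?_⟩, fun x hx => by simpa using m1 1 hx⟩
  · rw [m, m]
    refine ⟨fun h k hk => ?_, fun h k hk => ?_⟩
    · simpa [mul_assoc] using h (g * k) (by rw [← hk]; group)
    · simpa [mul_assoc] using h (g⁻¹ * k) (by
        calc _ = g⁻¹ * (k * z * k⁻¹) * g := by group
          _ = s := by rw [hk]; group)
  · rintro _ ⟨g, rfl⟩ a b ha hb
    obtain ⟨a, rfl⟩ := exists_conj g a
    obtain ⟨b, rfl⟩ := exists_conj g b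
    rw [conj_comm_iff] at ha hb
    rw [← conj_mul', m1 g (cmul ha hb), m1 g ha, m1 g hb, mul ha hb]
  · rintro _ ⟨g, rfl⟩ a ha
    obtain ⟨a, rfl⟩ := exists_conj g a
    rw [mem_O2C_conj] at ha
    exact (m1 g (mem_centralizer_singleton_iff.1 (map_subtype_le _ ha))).2 (hQ ha)

namespace KP

variable [Finite G] {z : G} {κ : G → Subgroup G} (h : KP z κ) (hw : WS z) {s t : G} (hs : Cj z s)
  (p : PF s t)
include h hw hs p

theorem mem_t : t ∈ κ s := by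
  obtain ⟨d⟩ := exists_VD p.symm.op.lx
  obtain ⟨v, v1, v2⟩ := SetLike.not_le_iff_exists.1 (p.symm.big d
    (card_O2C (hs.trans p.op.cj) ▸ hw.big))
  have := mt (mem_com_of p.symm.tz) v2
  push Not at this
  obtain ⟨w, w1, w2⟩ := this
  obtain ⟨a, ha, rfl⟩ := d.p_surj w
  obtain ⟨b, hb, rfl⟩ := d.p_surj v
  have a1 := d.comm_of_fix p.symm.tz p.e1 ha (d.mem_fixS.1 w1)
  have b1 := d.comm_of_fix p.symm.tz p.e1 hb (d.mem_fixS.1 v1)
  rw [← d.xs.commutator_eq_z ha hb (mt (d.B_eq_zero ha hb).2 w2),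
    h.mul hs (cconj a1 b1) (cinv b1), h.mul hs (cmul a1 b1) (cinv a1), h.mul hs a1 b1, inv_mem_iff,
    inv_mem_iff]
  tauto

theorem claim {a r q : G} (ha : a ∈ O2C s) (at' : a * t = t * a) (hr : r ∈ O2C s ⊓ O2C t)
    (r1 : r ≠ 1) (e : q * s * q⁻¹ = r * t * s) :
    q⁻¹ * a * q * s = s * (q⁻¹ * a * q) ∧ (q⁻¹ * a * q ∈ κ s ↔ a ∈ κ t) := by
  have ht := hs.trans p.op.cj
  have as := p.op.lx.cen a ha
  obtain ⟨f, hf, e'⟩ := p.op.exists_gam p.e0 hr r1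
  have e1 : q * s * q⁻¹ = f * t * f⁻¹ := by rw [e, e', mul_assoc, p.tz, mul_assoc]
  constructor
  · rw [← conj_comm_iff (g := q), show q * (q⁻¹ * a * q) * q⁻¹ = a by group, e]
    exact (((show Commute a r from p.op.R_comm ha at' hr.1 hr.2).mul_right at').mul_right as).eq
  rw [← h.conj q, show q * (q⁻¹ * a * q) * q⁻¹ = a by group, e1, ← h.conj f⁻¹,
    show f⁻¹ * (f * t * f⁻¹) * f⁻¹⁻¹ = t by group]
  rcases p.op.lx.toXS.conj (inv_mem hf) ha with k | k <;> rw [k]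
  rw [h.mul ht at' p.tz.symm]
  simp [h.mem_t hw ht p.symm]

theorem mem_A {a : G} (ha : a ∈ O2C s) (at' : a * t = t * a) : a ∈ κ t := by
  by_contra hn
  have lt := p.symm.op.lx
  obtain ⟨r₁, h1, n1⟩ := p.exists_ne
  obtain ⟨r₂, h2, n2, n3⟩ : ∃ r ∈ O2C s ⊓ O2C t, r ≠ 1 ∧ r * r₁ ≠ 1 := by
    by_contra k
    push Not at k
    have : ((O2C s ⊓ O2C t : Subgroup G) : Set G).ncard ≤ ({1, r₁⁻¹} : Set G).ncard :=
      Set.ncard_le_ncard fun r hr => by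
        by_cases c : r = 1
        · exact Or.inl c
        · exact Or.inr (eq_inv_of_mul_eq_one_left (k r hr c))
    have := this.trans (Set.ncard_insert_le _ _)
    rw [← Nat.card_coe_set_eq, SetLike.coe_sort_coe, p.cR, Set.ncard_singleton] at this
    omega
  obtain ⟨q₁, m1, e1⟩ := p.symm.op.exists_gam p.e1 ⟨h1.2, h1.1⟩ n1
  obtain ⟨q₂, m2, e2⟩ := p.symm.op.exists_gam p.e1 ⟨h2.2, h2.1⟩ n2
  have e3 : q₁ * q₂ * s * (q₁ * q₂)⁻¹ = q₁ * r₂ * q₁⁻¹ * r₁ * s := by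
    calc _ = q₁ * (q₂ * s * q₂⁻¹) * q₁⁻¹ := by group
      _ = q₁ * r₂ * q₁⁻¹ * (q₁ * t * q₁⁻¹) * (q₁ * s * q₁⁻¹) := by rw [e2]; group
      _ = q₁ * r₂ * q₁⁻¹ * (t * r₁ * t) * s := by rw [lt.cen _ m1, e1]; group
      _ = _ := by rw [← lt.cen _ h1.2, mul_assoc r₁, lt.zz, mul_one]
  rcases lt.toXS.conj m1 h2.2 with k | k <;> rw [k] at e3
  · have := (hw.wc.of_cj hs).wc _ (e3 ▸ mul_mem (mul_mem h2.1 h1.1) p.op.lx.mem)
    rw [e3] at this
    exact n3 (mul_eq_right.1 this)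
  rw [mul_assoc r₂, ← lt.cen _ h1.2, ← mul_assoc] at e3
  obtain ⟨c1, d1⟩ := h.claim hw hs p ha at' h1 n1 e1
  obtain ⟨c2, d2⟩ := h.claim hw hs p ha at' h2 n2 e2
  obtain ⟨-, d3⟩ := h.claim hw hs p ha at' (mul_mem h2 h1) n3 e3
  have as := p.op.lx.cen a ha
  have mc : a⁻¹ * (q₁⁻¹ * a * q₁) ∈ O2C t := by
    simpa [mul_assoc] using mul_mem (lt.conj_mem (cinv at') (inv_mem m1)) m1
  have k1 : q₂⁻¹ * a * q₂ * (a⁻¹ * (q₁⁻¹ * a * q₁)) ∈ κ s := by
    rw [h.mul hs c2 (cmul (cinv as) c1), h.mul hs (cinv as) c1, d1, d2, inv_mem_iff]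
    simp [hn, h.Q hs ha]
  refine hn (d3.1 ?_)
  rw [show (q₁ * q₂)⁻¹ * a * (q₁ * q₂) =
    q₂⁻¹ * a * q₂ * (q₂⁻¹ * (a⁻¹ * (q₁⁻¹ * a * q₁)) * q₂⁻¹⁻¹) by group]
  rcases lt.toXS.conj (inv_mem m2) mc with k | k <;> rw [k]
  · exact k1
  · rw [← mul_assoc]
    exact mul_mem k1 (h.mem_t hw hs p)

theorem step {e x : G} (he : e ∈ O2C s) (xs : x * s = s * x) (xt : x * t = t * x)
    (xu : x * (e * t * e⁻¹) = e * t * e⁻¹ * x) : x ∈ κ (e * t * e⁻¹) ↔ x ∈ κ t := by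
  have c : e⁻¹ * x * e * t = t * (e⁻¹ * x * e) := by
    rwa [← conj_comm_iff (g := e), show e * (e⁻¹ * x * e) * e⁻¹ = x by group]
  have := h.mem_A hw hs p (a := x⁻¹ * (e⁻¹ * x * e))
    (by simpa [mul_assoc] using mul_mem (p.op.lx.conj_mem (cinv xs) (inv_mem he)) he)
    (cmul (cinv xt) c)
  rw [h.mul (hs.trans p.op.cj) (cinv xt) c, inv_mem_iff] at this
  rw [this, ← h.conj e t, show e * (e⁻¹ * x * e) * e⁻¹ = x by group]

theorem iff {x : G} (hx : IsPGroup 2 (zpowers x)) (xs : x * s = s * x) (xt : x * t = t * x) :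
    x ∈ κ s ↔ x ∈ κ t := by
  have : Fact (Nat.Prime 2) := ⟨Nat.prime_two⟩
  obtain ⟨r, hr, r1, c⟩ := exists_fixed_of_dvd hx (N := O2C s ⊓ O2C t) (zpowers_le.2
    (mem_normalizer_of_conj_mem fun y hy =>
      ⟨p.op.lx.conj_mem xs hy.1, p.symm.op.lx.conj_mem xt hy.2⟩)) (by rw [p.cR]; norm_num)
  have xr : Commute x r := c x (mem_zpowers x)
  obtain ⟨e, he, e1⟩ := p.op.exists_gam p.e0 hr r1
  obtain ⟨f, hf, f1⟩ := p.symm.op.exists_gam p.e1 ⟨hr.2, hr.1⟩ r1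
  rw [← h.step hw hs p he xs xt (e1 ▸ ((xr.mul_right xs).mul_right xt).eq),
    ← h.step hw (hs.trans p.op.cj) p.symm hf xt xs (f1 ▸ ((xr.mul_right xt).mul_right xs).eq),
    e1, f1, mul_assoc, mul_assoc, p.tz]

end KP

variable [Finite G]

/-- a two-element of least order outside a subgroup of index two -/
theorem exists_min {H K : Subgroup G} (hH : Odd H.index) (hK : K.relIndex H = 2) (hle : K ≤ H) :
    ∃ x ∈ H, x ∉ K ∧ ∃ n, x ^ 2 ^ n = 1 ∧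
      ∀ (g : G) (k : ℕ), 1 ≤ k → g * x ^ 2 ^ k * g⁻¹ ∈ H → g * x ^ 2 ^ k * g⁻¹ ∈ K := by
  classical
  have : Fact (Nat.Prime 2) := ⟨Nat.prime_two⟩
  have ex : ∃ n, ∃ x ∈ H, x ∉ K ∧ x ^ 2 ^ n = 1 := by
    obtain ⟨S⟩ : Nonempty (Sylow 2 H) := inferInstance
    have : ¬ (S : Subgroup H) ≤ K.subgroupOf H := fun k =>
      S.not_dvd_index (hK.symm.dvd.trans (index_dvd_of_le k))
    obtain ⟨x, h1, h2⟩ := SetLike.not_le_iff_exists.1 this
    obtain ⟨n, hn⟩ := S.isPGroup' ⟨x, h1⟩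
    exact ⟨n, x, x.2, h2, congrArg (·.1.1) hn⟩
  obtain ⟨x, h1, h2, h3⟩ := Nat.find_spec ex
  refine ⟨x, h1, h2, _, h3, fun g k hk hm => ?_⟩
  by_contra hn
  have n0 : Nat.find ex ≠ 0 := fun e => h2 (by
    rw [e, pow_zero, pow_one] at h3
    exact h3 ▸ one_mem K)
  refine Nat.find_min ex (Nat.sub_one_lt n0) ⟨_, hm, hn, ?_⟩
  rw [conj_pow, ← pow_mul, ← pow_add,
    show k + (Nat.find ex - 1) = Nat.find ex + (k - 1) by omega, pow_add, pow_mul, h3]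
  simp

theorem wc_false (hres : pResidual 2 G = ⊤) {z : G} (hw : WC z) (h128 : 128 ≤ Nat.card (O2C z))
    {K : Subgroup G} (hle : K ≤ centralizer {z}) (hK : K.relIndex (centralizer {z}) = 2) :
    False := by
  have : Fact (Nat.Prime 2) := ⟨Nat.prime_two⟩
  have hQ := le_of_index_two hres hw.lx (by omega) hK
  obtain ⟨κ, h, hκ⟩ := exists_KP hK hQ
  obtain ⟨S, -, hS⟩ := exists_sylow hw.lx
  have ho := H87.odd_index_of_sylow_le S hS
  obtain ⟨x, x1, x2, n, x3, x4⟩ := exists_min ho hK hle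
  have xz := mem_centralizer_singleton_iff.1 x1
  obtain ⟨g, g1, g2⟩ := W3.transfer_fix ho hK hle hres x3 x4
    (hw.lx.toXS.isPGroup.to_le hw.lx.toXS.Z_le) (fun y hy => by
      rcases hw.lx.toXS.mem_Z.1 hy with rfl | rfl
      · simp
      · exact xz.symm)
  have e : g * (g⁻¹ * z * g⁻¹⁻¹) * g⁻¹ = z := by group
  have gx := mem_centralizer_singleton_iff.1 (hle g1)
  have k : x ∈ κ (g⁻¹ * z * g⁻¹⁻¹) := by rwa [← h.conj g, e, hκ _ gx]
  have op : OP z (g⁻¹ * z * g⁻¹⁻¹) := op_of_wc hw ⟨_, rfl⟩ (fun c => x2 ((hκ x xz).1 (c ▸ k))) (by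
    rw [← conj_comm_iff (g := g), e]
    exact (mem_centralizer_singleton_iff.1 (g2 z (mem_zpowers z))).symm)
  have ws : WS z := ⟨hw, h128, exists_perfect hw h128 op⟩
  by_cases c : UC z
  · refine x2 ((hκ x xz).1 ((h.iff ws (Cj.refl z) (c.pf op) ?_ xz ?_).2 k))
    · rintro ⟨_, m, rfl⟩
      refine ⟨n, Subtype.ext ?_⟩
      change (x ^ m) ^ 2 ^ n = 1
      rw [← zpow_natCast, ← zpow_mul, mul_comm, zpow_mul, zpow_natCast, x3, one_zpow]
    · rwa [← conj_comm_iff (g := g), e]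
  obtain ⟨s, cb⟩ := exists_CB ws c
  have := pCore_normal 2 (centralizer ({z} : Set G))
  obtain ⟨f⟩ := cb.sp
  have := S2136.simple_Sp
  let π := f.toMonoidHom.comp (QuotientGroup.mk' (pCore 2 (centralizer ({z} : Set G))))
  have hπ : Function.Surjective π := f.surjective.comp QuotientGroup.mk_surjective
  have k1 : ((K.subgroupOf (centralizer {z})).map π).index = 2 := by
    exact (index_map_eq _ hπ fun a ha => hQ (mem_map_of_mem _
      ((QuotientGroup.eq_one_iff a).1 (f.map_eq_one_iff.1 ha)))).trans hK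
  rcases (normal_of_index_eq_two k1).eq_bot_or_eq_top with b | b <;> rw [b] at k1
  · rw [index_bot, H43.Co2Z.card_Sp] at k1
    omega
  · simp at k1

end Cfsg.Agent.H92.W4
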