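import Cfsg.Agent.H92.W4A

/-! Large extraspecial subgroups: the centralizer has no cyclic quotient of order four. -/

set_option autoImplicit false

namespace Cfsg.Agent.H92.W4

open Subgroup Cfsg.Agent.H49 Cfsg.Agent.H69.XV Cfsg.Agent.H69.XV.VD Cfsg.Agent.H92.Lx
  Cfsg.Agent.H69.Out

universe u

variable {G : Type u} [Group G] [Finite G]

theorem transfer_odd {H M : Subgroup G} (hH : Odd H.index) (hM : M.relIndex H = 2) (hMH : M ≤ H)
    (hres : pResidual 2 G = ⊤) {x : G} {n : ℕ} (hxn : x ^ 2 ^ n = 1)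
    (h2 : ∀ (g : G) (k : ℕ), 1 ≤ k → g * x ^ 2 ^ k * g⁻¹ ∈ H → g * x ^ 2 ^ k * g⁻¹ ∈ M) :
    ¬ 2 ∣ Nat.card {q : G ⧸ H // q.out⁻¹ * x * q.out ∈ M} := by
  classical
  have : Fact (Nat.Prime 2) := ⟨Nat.prime_two⟩
  have hM' : (M.subgroupOf H).index = 2 := hM
  let X : Set (G ⧸ H) := {q | q.out⁻¹ * x * q.out ∈ M}
  change ¬ 2 ∣ Nat.card X
  have hfix : ∀ q : G ⧸ H, q.out⁻¹ * x * q.out ∈ H ↔ x • q = q := fun q => by
    conv_rhs => rw [← QuotientGroup.out_eq' q, MulAction.Quotient.smul_mk, eq_comm, QuotientGroup.eq]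
    rw [smul_eq_mul, mul_assoc]
  intro hd
  let ϕ : H →* ℤˣ := H87.signOfIndexTwo (M.subgroupOf H) hM'
  have := Fintype.ofFinite (Quotient (MulAction.orbitRel (zpowers x) (G ⧸ H)))
  have key : MonoidHom.transfer ϕ x = 1 :=
    H8.pResidual_le_ker (p := 2) (fun a => ⟨1, by simp⟩) _ (hres ▸ mem_top x)
  let F := Finset.univ.filter fun q : Quotient (MulAction.orbitRel (zpowers x) (G ⧸ H)) =>
    q.out ∈ X
  have hF : F.card = Nat.card X := by
    rw [← Nat.card_eq_finsetCard]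
    refine Nat.card_congr (Equiv.ofBijective (fun q => ⟨q.1.out, (Finset.mem_filter.1 q.2).2⟩)
      ⟨fun a b e => Subtype.ext (Quotient.out_injective (congrArg Subtype.val e)), fun a => ?_⟩)
    have e : (Quotient.mk (MulAction.orbitRel (zpowers x) (G ⧸ H)) a.1).out = a.1 := by
      obtain ⟨⟨_, k, rfl⟩, hk⟩ := Quotient.mk_out (s := MulAction.orbitRel (zpowers x) (G ⧸ H)) a.1
      rw [← hk]
      exact MulAction.mem_stabilizer_iff.1
        (zpow_mem (MulAction.mem_stabilizer_iff.2 ((hfix _).1 (hMH a.2))) k)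
    exact ⟨⟨Quotient.mk _ a.1, Finset.mem_filter.2 ⟨Finset.mem_univ _, by rw [e]; exact a.2⟩⟩,
      Subtype.ext e⟩
  have k2 : MonoidHom.transfer ϕ x = (-1) ^ H.index * (-1) ^ F.card := by
    rw [MonoidHom.transfer_eq_prod_quotient_orbitRel_zpowers_quot,
      Subgroup.index_eq_sum_minimalPeriod H x, ← Finset.prod_pow_eq_pow_sum, ← Finset.prod_const,
      Finset.prod_filter, ← Finset.prod_mul_distrib]
    refine Finset.prod_congr rfl fun q _ => ?_
    have hdvd : Function.minimalPeriod (x • ·) q.out ∣ 2 ^ n := by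
      rw [← MulAction.pow_smul_eq_iff_minimalPeriod_dvd, hxn, one_smul]
    obtain ⟨k, -, hk⟩ := (Nat.dvd_prime_pow Nat.prime_two).mp hdvd
    have hmem := QuotientGroup.out_conj_pow_minimalPeriod_mem H x q.out
    rcases Nat.eq_zero_or_pos k with rfl | hk0
    · simp only [ϕ]
      by_cases hq : q.out ∈ X
      · rw [H87.signOfIndexTwo_of_mem, hk, if_pos hq]
        · simp
        · rw [mem_subgroupOf]; simp only [hk, pow_zero, pow_one]; exact hq
      · rw [H87.signOfIndexTwo_of_not_mem, hk, if_neg hq]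
        · simp
        · rw [mem_subgroupOf]; simp only [hk, pow_zero, pow_one]; exact hq
    · simp only [ϕ]
      rw [H87.signOfIndexTwo_of_mem, hk, Even.neg_one_pow, if_neg, mul_one]
      · intro hq
        have : Function.minimalPeriod (x • ·) q.out = 1 :=
          Function.minimalPeriod_eq_one_iff_isFixedPt.2 ((hfix _).1 (hMH hq))
        rw [hk] at this
        exact absurd this (Nat.one_lt_two_pow hk0.ne').ne'
      · exact (Nat.even_pow.mpr ⟨even_two, hk0.ne'⟩)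
      · rw [mem_subgroupOf]
        simp only [hk] at hmem ⊢
        simpa using h2 (q.out.out)⁻¹ k hk0 (by simpa using hmem)
  rw [key, hH.neg_one_pow, hF, (even_iff_two_dvd.2 hd).neg_one_pow] at k2
  exact absurd k2 (by decide)

theorem odd_step {P : G → Prop} {Y : Subgroup G} (hY : IsPGroup 2 Y)
    (hP : ∀ q ∈ Y, ∀ s, P s → P (q * s * q⁻¹)) (h : ¬ 2 ∣ Nat.card {s // P s}) :
    ¬ 2 ∣ Nat.card {s // P s ∧ ∀ y ∈ Y, y * s = s * y} := by
  have : Fact (Nat.Prime 2) := ⟨Nat.prime_two⟩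
  let _ : MulAction Y {s // P s} :=
    { smul := fun q s => ⟨q * s * (q : G)⁻¹, hP q q.2 s s.2⟩
      one_smul := fun s => Subtype.ext (by change ((1 : Y) : G) * s * _ = s; simp)
      mul_smul := fun a b s => Subtype.ext (by
        change ((a * b : Y) : G) * s * _ = a * (b * s * (b : G)⁻¹) * (a : G)⁻¹
        simp [mul_assoc]) }
  have e : Nat.card {s // P s ∧ ∀ y ∈ Y, y * s = s * y} =
      Nat.card (MulAction.fixedPoints Y {s // P s}) :=
    Nat.card_congr ⟨fun s => ⟨⟨s, s.2.1⟩, fun y => Subtype.ext (conj_of_comm (s.2.2 y y.2).symm)⟩,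
      fun s => ⟨s.1, s.1.2, fun y hy => (comm_of_conj (congrArg Subtype.val (s.2 ⟨y, hy⟩))).symm⟩,
      fun _ => rfl, fun _ => rfl⟩
  rw [e]
  exact fun k => h (((hY.card_modEq_card_fixedPoints _).dvd_iff dvd_rfl).2 k)

/-- the derived subgroup of the centralizer -/
abbrev HD (s : G) : Subgroup G := ⁅centralizer {s}, centralizer {s}⁆

omit [Finite G] in
theorem mem_HD {s a b : G} (ha : a * s = s * a) (hb : b * s = s * b) : a * b * a⁻¹ * b⁻¹ ∈ HD s :=
  commutator_mem_commutator (mem_centralizer_singleton_iff.2 ha) (mem_centralizer_singleton_iff.2 hb)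

omit [Finite G] in
theorem z_mem_HD {Q : Subgroup G} {z : G} (h : XS Q z) : z ∈ HD z := by
  obtain ⟨x, hx, y, hy, n⟩ := h.nonab
  have := mem_HD (h.cen x hx) (h.cen y hy)
  rwa [h.commutator_eq_z hx hy n] at this

theorem Q_le_HD (hres : pResidual 2 G = ⊤) {z : G} (hl : LX (O2C z) z)
    (h8 : 8 < Nat.card (O2C z)) : O2C z ≤ HD z := fun x hx => by
  obtain ⟨d⟩ := exists_VD hl
  by_contra hn
  obtain ⟨y, h1, h2⟩ := exists_sep (d := d) (W := d.sm (HD z)) (v := d.p x)
    (fun e => hn ((d.p_mem_sm (z_mem_HD hl.toXS) hx).1 e))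
  have : y = 0 := no_fix d hres h8 fun c hc => d.eq_of_B fun v => by
    obtain ⟨w, hw, rfl⟩ := d.p_surj v
    have m := mem_HD (cinv hc) (hl.cen w hw)
    have := h1 _ (d.mem_sm.2 ⟨_, m, mul_mem (hl.conj_mem (cinv hc) hw) (inv_mem hw), rfl⟩)
    rw [d.p_comm (cinv hc) hw, map_add, LinearMap.add_apply] at this
    rw [d.B_ρ_left hc, d.B_symm, d.B_symm y]
    revert this
    generalize d.B (d.ρ c⁻¹ (d.p w)) y = a, d.B (d.p w) y = b
    revert a b; decide
  rw [this] at h2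
  simp at h2

structure KQ (z : G) (κ : G → Subgroup G) : Prop extends KP z κ where
  lx : LX (O2C z) z
  sq : ∀ {s}, Cj z s → ∀ {a}, a * s = s * a → a * a ∈ HD s → a ∈ κ s
  hd : ∀ {s}, Cj z s → O2C s ≤ HD s

theorem sq_of_com {Q : Subgroup G} {t s b : G} {V : Type*} [AddCommGroup V] [Module (ZMod 2) V]
    (d : VD Q t V) (st : s * t = t * s) (ss : s * s = 1) (hb : b ∈ Q) (bs : b * s = s * b)
    (h : d.p b ∈ d.comS s) : b * b = 1 := by
  have k : ∀ e c : G, e * s * e⁻¹ = c * s → c * s = s * c → c * c = 1 := fun e c a h => by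
    calc c * c = c * (c * s) * s := by rw [mul_assoc, mul_assoc, ss, mul_one]
      _ = c * s * (c * s) := by rw [mul_assoc c s, ← mul_assoc s c s, ← h, mul_assoc c (c * s)]
      _ = e * (s * s) * e⁻¹ := by rw [← a]; group
      _ = 1 := by rw [ss]; group
  obtain ⟨e, -, a | a⟩ := d.exists_comm st hb h
  · exact k e b a bs
  · have := k e _ a (cmul bs st.symm)
    rwa [mul_assoc, ← mul_assoc t, ← d.xs.cen b hb, mul_assoc, d.xs.zz, mul_one] at this

/-- an element fixing a Lagrangian has its square in `Q` -/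
theorem sq_mem {Q : Subgroup G} {t a : G} {V : Type*} [AddCommGroup V] [Module (ZMod 2) V]
    (d : VD Q t V) (ha : a * t = t * a) (h : ∀ v ∈ d.comS a, v ∈ d.fixS a) : a * a ∈ Q :=
  d.mem_of_ρ (cmul ha ha) fun v => by
    have := d.mem_fixS.1 (h _ (d.com_mem a v))
    rw [map_add, add_comm (d.ρ a v), add_left_inj] at this
    rw [d.ρ_mul ha ha, this]

namespace KQ

variable {z : G} {κ : G → Subgroup G} (h : KQ z κ)
include h

theorem mem_A {s t a : G} (hs : Cj z s) (ht : Cj z t) (m : t ∈ O2C s) (ha : a ∈ O2C t)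
    (as : a * s = s * a) : a ∈ κ s := by
  refine h.sq hs as ?_
  rcases (h.lx.O2C_conj ht).toXS.sq ha with e | e <;> rw [e]
  · exact one_mem _
  · exact h.hd hs m

theorem inner {s t x : G} (hs : Cj z s) (ip : IP s t) (xs : x * s = s * x) (xt : x * t = t * x) :
    x ∈ κ s ↔ x ∈ κ t := by
  obtain ⟨d⟩ := exists_VD ip.lx
  obtain ⟨w, -, w2, hw, -⟩ := ip.swap d
  have h1 := ip.pair.commutator_X_CV hw (c := x) (by
    rw [centralizer_closure]
    rintro y (rfl | rfl)
    · exact xs.symm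
    · exact xt.symm)
  have h2 : w * x * w⁻¹ * x⁻¹ ∈ κ s := (sup_le (fun a ha => h.mem_A hs (hs.trans ip.cj) ip.mem ha.1
    (mem_centralizer_singleton_iff.1 ha.2)) (inf_le_left.trans (h.Q hs))) h1
  have h3 : w * x * w⁻¹ * s = s * (w * x * w⁻¹) := by rw [← w2]; exact conj_comm_iff.2 xt
  rw [h.mul hs h3 (cinv xs), inv_mem_iff] at h2
  rw [← h2, ← h.conj w t, w2]

theorem mem_B {s t b : G} (hs : Cj z s) (ht : Cj z t) (st : s * t = t * s) (hb : b ∈ O2C t)
    (bs : b * s = s * b) : b ∈ κ s := by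
  by_contra hn
  have lt := h.lx.O2C_conj ht
  have ls := h.lx.O2C_conj hs
  have b1 : b * b ≠ 1 := fun e => hn (h.sq hs bs (e ▸ one_mem _))
  have bb : b * b = t := (lt.toXS.sq hb).resolve_left b1
  have tn : t ∉ HD s := fun e => hn (h.sq hs bs (bb ▸ e))
  have tQ : t ∉ O2C s := fun e => tn (h.hd hs e)
  have sQ : s ∉ O2C t := fun e => tQ (mem_symm h.lx ht hs e)
  have ab : ∀ {x y}, x ∈ O2C t → x * s = s * x → y ∈ O2C t → y * s = s * y → x * y = y * x :=
    fun {x y} hx xs hy ys => by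
      by_contra n
      exact tn (lt.toXS.commutator_eq_z hx hy n ▸ mem_HD xs ys)
  obtain ⟨d⟩ := exists_VD lt
  have L : ∀ {x}, x ∈ O2C t → x * s = s * x → d.p x ∈ d.comS s → x * x = 1 :=
    fun hx xs => sq_of_com d st ls.zz hx xs
  obtain ⟨e, he, es⟩ : Eps t s := by
    by_contra h0
    refine b1 (L hb bs (mem_com_of st fun w hw => ?_))
    obtain ⟨y, hy, rfl⟩ := d.p_surj w
    exact (d.B_eq_zero hy hb).2 (ab hy (d.comm_of_fix st h0 hy (d.mem_fixS.1 hw)) hb bs)
  have et := lt.cen e he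
  have fc : ∀ {y}, y ∈ O2C t → d.p y ∈ d.fixS s → y * s = s * y ∨ e * y * s = s * (e * y) :=
    fun {y} hy hw => by
      refine ((d.ρ_fix st hy).1 (d.mem_fixS.1 hw)).imp comm_of_conj fun k => ?_
      rw [mul_inv_eq_iff_eq_mul] at k es
      calc e * y * s = e * (y * t * s) * t := by
            rw [mul_assoc y, ← st]; simp only [mul_assoc, lt.zz, mul_one]
        _ = s * t * e * y * t := by rw [← k, ← mul_assoc, es]
        _ = s * (e * y) := by
            rw [mul_assoc s, mul_assoc s, mul_assoc s, ← et, mul_assoc e, ← lt.cen y hy,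
              mul_assoc e, mul_assoc y, lt.zz, mul_one]
  have M : ∀ {y}, y ∈ O2C t → (∀ x ∈ O2C t, x * s = s * x → x * y = y * x) → e * y = y * e →
      d.p y ∈ d.comS s := fun {y} hy h1 h2 => mem_com_of st fun w hw => by
    obtain ⟨x, hx, rfl⟩ := d.p_surj w
    refine (d.B_eq_zero hx hy).2 ?_
    rcases fc hx hw with k | k
    · exact h1 x hx k
    · simpa using cmul (cinv h2) (h1 _ (mul_mem he hx) k)
  have eb : e * b ≠ b * e := fun k => b1 (L hb bs (M hb (fun x hx xs => ab hx xs hb bs) k))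
  have M2 : ∀ {y}, y ∈ O2C t → (∀ x ∈ O2C t, x * s = s * x → x * y = y * x) → e * y ≠ y * e →
      d.p (y * b) ∈ d.comS s := fun {y} hy h1 h2 => M (mul_mem hy hb)
    (fun x hx xs => ((show Commute x y from h1 x hx xs).mul_right (ab hx xs hb bs)).eq)
    (lt.toXS.mul_comm_of_ne_of_ne hy hb he (Ne.symm h2) (Ne.symm eb)).symm
  have hR : ∀ r ∈ O2C t, r ∈ O2C s → r = 1 := fun r r1 r2 => by
    by_contra n
    have rs := ls.cen r r2
    have rr : r * r = 1 := (lt.toXS.sq r1).resolve_right fun k => tQ (k ▸ mul_mem r2 r2)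
    have c : ∀ x ∈ O2C t, x * s = s * x → x * r = r * x := fun x hx xs => ab hx xs r1 rs
    have er : e * r = r * e := by
      by_contra k
      have := L (mul_mem r1 hb) (cmul rs bs) (M2 r1 c k)
      rw [mul_assoc, ← mul_assoc b, c b hb bs, mul_assoc, ← mul_assoc, rr, one_mul] at this
      exact b1 this
    have cj : Cj s (r * s) := by
      obtain ⟨f, -, a | a⟩ := d.exists_comm st r1 (M r1 c er)
      · exact ⟨f, a⟩
      · refine ⟨e * f, ?_⟩
        calc _ = e * (f * s * f⁻¹) * e⁻¹ := by group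
          _ = (e * r * e⁻¹) * (e * t * e⁻¹) * (e * s * e⁻¹) := by rw [a]; group
          _ = r * s := by
            rw [conj_of_comm er.symm, conj_of_comm et.symm, es, st, mul_assoc, ← mul_assoc t,
              lt.zz, one_mul]
    have ip : IP s (r * s * s) :=
      IP.mul_z ⟨ls, cj, mul_mem r2 ls.mem, fun k => n (mul_eq_right.1 k)⟩
    rw [mul_assoc, ls.zz, mul_one] at ip
    have hr := hs.trans ip.cj
    exact hn ((h.inner hs ip bs (c b hb bs)).2
      (h.mem_A hr ht (mem_symm h.lx ht hr r1) hb (c b hb bs)))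
  have AB : ∀ a ∈ O2C s, a * t = t * a → ∀ x ∈ O2C t, x * s = s * x → x * a = a * x :=
    fun a ha at' x hx xs => by
      have := hR (x * a * x⁻¹ * a⁻¹) (by
        rw [mul_assoc, mul_assoc, ← mul_assoc a]
        exact mul_mem hx (lt.conj_mem at' (inv_mem hx))) (mul_mem (ls.conj_mem xs ha) (inv_mem ha))
      rwa [mul_inv_eq_one, mul_inv_eq_iff_eq_mul] at this
  by_cases h1 : Eps s t
  · obtain ⟨f, hf, ft⟩ := h1
    have g1 : e * f * t * (e * f)⁻¹ = s := by
      calc _ = e * (f * t * f⁻¹) * e⁻¹ := by group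
        _ = (e * t * e⁻¹) * (e * s * e⁻¹) := by rw [ft]; group
        _ = s := by rw [conj_of_comm et.symm, es, st, ← mul_assoc, lt.zz, one_mul]
    have g2 : e * f * s * (e * f)⁻¹ = s * t := by
      calc _ = e * (f * s * f⁻¹) * e⁻¹ := by group
        _ = s * t := by rw [conj_of_comm (ls.cen f hf).symm, es]
    obtain ⟨a, ea⟩ : ∃ a, a = e * f * b * (e * f)⁻¹ := ⟨_, rfl⟩
    have ha : a ∈ O2C s := by rw [ea, ← g1]; exact mem_O2C_conj.2 hb
    have aa : a * a = s := by rw [ea, ← conj_mul', bb, g1]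
    have at' : a * t = t * a := by
      have k : a * (s * t) = s * t * a := by rw [ea, ← g2]; exact conj_comm_iff.2 bs
      rw [← mul_assoc, ls.cen a ha, mul_assoc, mul_assoc] at k
      exact mul_left_cancel k
    have fx : ∀ {x}, x ∈ O2C t → x * s = s * x → d.p x ∈ d.fixS a := fun {x} hx xs => by
      rw [d.mem_fixS, d.ρ_p at' hx, conj_of_comm (AB a ha at' x hx xs)]
    have cB : ∀ {y}, y ∈ O2C t → d.p y ∈ d.comS s → y * s = s * y := fun {y} hy hw => by
      refine (fc hy (d.comS_le_fixS st (ls.zz ▸ one_mem _) hw)).resolve_right fun k => eb ?_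
      have k1 := (d.B_eq_zero hy hb).1 (d.B_com_fix st hw (by
        rw [d.mem_fixS, d.ρ_p st hb, conj_of_comm bs]))
      simpa using cmul (ab (mul_mem he hy) k hb bs) (cinv k1)
    refine sQ (aa ▸ sq_mem d at' fun v hv => ?_)
    obtain ⟨y, hy, rfl⟩ := d.p_surj v
    have c : ∀ x ∈ O2C t, x * s = s * x → x * y = y * x := fun x hx xs =>
      ((d.B_eq_zero hy hx).1 (d.B_com_fix at' hv (fx hx xs))).symm
    refine fx hy ?_
    by_cases k : e * y = y * e
    · exact cB hy (M hy c k)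
    · simpa using cmul (cB (mul_mem hy hb) (M2 hy c k)) (cinv bs)
  · obtain ⟨d'⟩ := exists_VD ls
    have le : d'.fixS t ≤ d'.fixS b := fun w hw => by
      obtain ⟨a, ha, rfl⟩ := d'.p_surj w
      rw [d'.mem_fixS, d'.ρ_p bs ha, conj_of_comm
        (AB a ha (d'.comm_of_fix st.symm h1 ha (d'.mem_fixS.1 hw)) b hb bs).symm]
    refine tQ (bb ▸ sq_mem d' bs fun v hv => le (d'.comS_le_fixS st.symm (lt.zz ▸ one_mem _) ?_))
    exact mem_com_of st.symm fun w hw => by rw [d'.B_symm, d'.B_com_fix bs hv (le hw)]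

theorem not_odd {x : G} {n : ℕ} (xz : x * z = z * x) (hx : x ∉ κ z) (hn : x ^ 2 ^ n = 1) :
    2 ∣ Nat.card {s // Cj z s ∧ x * s = s * x ∧ x ∈ κ s} := by
  by_contra h0
  obtain ⟨d⟩ := exists_VD h.lx
  let N : Module.End (ZMod 2) (Vq h.lx.toXS) := d.ρ x + 1
  have hp : ∀ W, IsPGroup 2 (d.pre W) := fun W => d.xs.isPGroup.to_le (d.pre_le W)
  have key : ∀ i, ¬ 2 ∣ Nat.card {s // (Cj z s ∧ x * s = s * x ∧ x ∈ κ s) ∧
      ∀ y ∈ d.pre (LinearMap.ker (N ^ i)), y * s = s * y} := fun i => by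
    induction i with
    | zero =>
      refine odd_step (hp _) (fun q hq s hs => ?_) h0
      have c : q * x * q⁻¹ = x := by
        rcases (d.p_eq_zero hq.1).1 (by simpa using hq.2) with rfl | rfl
        · simp
        · exact conj_of_comm xz
      exact ⟨hs.1.conj q, by rw [← c, conj_comm_iff]; exact hs.2.1, by
        rw [← c, h.conj]; exact hs.2.2⟩
    | succ i ih =>
      have := odd_step (hp (LinearMap.ker (N ^ (i + 1)))) (fun q hq s hs => ?_) ih
      · refine fun k => this (k.trans (dvd_of_eq (Nat.card_congr (Equiv.subtypeEquivRight fun s =>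
          ⟨fun a => ⟨⟨a.1, fun y hy => a.2 y ⟨hy.1, ?_⟩⟩, a.2⟩, fun a => ⟨a.1.1, a.2⟩⟩))))
        have : (N ^ i) (d.p y) = 0 := hy.2
        change (N ^ (i + 1)) (d.p y) = 0
        rw [pow_succ', Module.End.mul_apply, this, map_zero]
      obtain ⟨⟨a1, a2, a3⟩, a4⟩ := hs
      have m : q⁻¹ * x * q * x⁻¹ ∈ d.pre (LinearMap.ker (N ^ i)) := by
        have e := d.p_comm' xz (inv_mem hq.1)
        have e' := d.comm_mem xz (inv_mem hq.1)
        rw [inv_inv] at e e'
        refine ⟨e', ?_⟩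
        change (N ^ i) (d.p _) = 0
        rw [e, d.p_inv hq.1]
        exact hq.2
      have c : q * (q⁻¹ * x * q * x⁻¹ * x) * q⁻¹ = x := by group
      have zs := a4 z (d.z_mem_pre _)
      refine ⟨⟨a1.conj q, ?_, ?_⟩, fun y hy => ?_⟩
      · rw [← c, conj_comm_iff]
        exact cmul (a4 _ m) a2
      · rw [← c, h.conj]
        exact mul_mem (h.mem_B a1 (Cj.refl z) zs.symm m.1 (a4 _ m)) a3
      · rw [← show q * (q⁻¹ * y * q⁻¹⁻¹) * q⁻¹ = y by group, conj_comm_iff]
        exact a4 _ (d.xs.conj_mem_of_z_mem (d.pre_le _) (d.z_mem_pre _) (inv_mem hq.1) hy)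
  have N0 : N ^ 2 ^ n = 0 := by
    have : ∀ k : ℕ, x ^ 2 ^ k * z = z * x ^ 2 ^ k ∧ N ^ 2 ^ k = d.ρ (x ^ 2 ^ k) + 1 := fun k => by
      induction k with
      | zero => simp [N, xz]
      | succ k ih =>
        rw [pow_succ, pow_mul, pow_mul, ih.2, pow_two, pow_two]
        refine ⟨cmul ih.1 ih.1, LinearMap.ext fun v => ?_⟩
        simp only [Module.End.mul_apply, LinearMap.add_apply, Module.End.one_apply, map_add,
          d.ρ_mul ih.1 ih.1]
        rw [add_assoc, add_add_cancel]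
    rw [(this n).2, hn]
    exact LinearMap.ext fun v => by simp [d.ρ_one, add_self]
  have k := key (2 ^ n)
  obtain ⟨s, ⟨a1, a2, a3⟩, a4⟩ := (Nat.card_pos_iff.1 (Nat.pos_of_ne_zero fun e => k (e ▸ dvd_zero 2))).1
  have : s ∈ zpowers z := by
    rw [← h.lx.centralizer_eq]
    exact fun y hy => a4 y ⟨hy, by simp [N0]⟩
  rcases h.lx.toXS.mem_Z.1 this with e | e
  · exact a1.ne_one h.lx.ne e
  · exact hx (e ▸ a3)

end KQ

theorem wide_false (hres : pResidual 2 G = ⊤) {z : G} (hl : LX (O2C z) z)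
    (h8 : 8 < Nat.card (O2C z)) {K : Subgroup G} (hle : K ≤ centralizer {z})
    (hK : K.relIndex (centralizer {z}) = 2) (hsq : ∀ a, a * z = z * a → a * a ∈ HD z → a ∈ K) :
    False := by
  have : Fact (Nat.Prime 2) := ⟨Nat.prime_two⟩
  obtain ⟨κ, h, hκ⟩ := exists_KP hK (le_of_index_two hres hl h8 hK)
  have kq : KQ z κ := ⟨h, hl, fun {s} hs a as aa => by
    obtain ⟨g, rfl⟩ := hs
    obtain ⟨a, rfl⟩ := exists_conj g a
    rw [conj_comm_iff] at as
    rw [HD, ← cj_centralizer_singleton, cj, ← map_commutator, ← conj_mul'] at aa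
    rw [h.conj, hκ a as]
    exact hsq a as (by simpa [mul_assoc] using mem_cj.1 aa),
    fun hs => Q_le_HD hres (hl.O2C_conj hs) (card_O2C hs ▸ h8)⟩
  obtain ⟨S, -, hS⟩ := exists_sylow hl
  have ho := H87.odd_index_of_sylow_le S hS
  obtain ⟨x, x1, x2, n, x3, x4⟩ := exists_min ho hK hle
  have xz := mem_centralizer_singleton_iff.1 x1
  have w : ∀ k : G, k⁻¹ * x * k ∈ K → x * (k * z * k⁻¹) = k * z * k⁻¹ * x ∧ x ∈ κ (k * z * k⁻¹) :=
    fun k hk => by
      have c := mem_centralizer_singleton_iff.1 (hle hk)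
      rw [← hκ _ c, ← h.conj k] at hk
      rw [← conj_comm_iff (g := k)] at c
      rw [show k * (k⁻¹ * x * k) * k⁻¹ = x by group] at c hk
      exact ⟨c, hk⟩
  refine transfer_odd ho hK hle hres x3 x4 ((kq.not_odd xz (fun e => x2 ((hκ x xz).1 e)) x3).trans
    (dvd_of_eq (Nat.card_congr (Equiv.ofBijective
      (fun q => ⟨q.1.out * z * q.1.out⁻¹, ⟨_, rfl⟩, w _ q.2⟩) ⟨fun a b => fun e => Subtype.ext ?_, ?_⟩)).symm))
  · have e' : a.1.out * z * a.1.out⁻¹ = b.1.out * z * b.1.out⁻¹ := congrArg Subtype.val e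
    rw [← QuotientGroup.out_eq' a.1, ← QuotientGroup.out_eq' b.1, QuotientGroup.eq,
      mem_centralizer_singleton_iff]
    calc _ = a.1.out⁻¹ * (b.1.out * z * b.1.out⁻¹) * b.1.out := by group
      _ = _ := by rw [← e']; group
  · rintro ⟨_, ⟨g, rfl⟩, a2, a3⟩
    obtain ⟨c, hc⟩ := QuotientGroup.mk_out_eq_mul (centralizer ({z} : Set G)) g
    have e : (g : G ⧸ centralizer ({z} : Set G)).out * z * (g : G ⧸ centralizer ({z} : Set G)).out⁻¹ =
        g * z * g⁻¹ := by
      rw [hc, mul_assoc g, mem_centralizer_singleton_iff.1 c.2]; group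
    refine ⟨⟨g, ?_⟩, Subtype.ext e⟩
    rw [← e] at a2 a3
    generalize (g : G ⧸ centralizer ({z} : Set G)).out = k at a2 a3
    rw [← show k * (k⁻¹ * x * k) * k⁻¹ = x by group] at a2 a3
    rw [conj_comm_iff] at a2
    rwa [h.conj, hκ _ a2] at a3

theorem narrow {Q : Subgroup G} {z x : G} (hl : LX Q z) (h8 : Nat.card Q ≤ 8) {n : ℕ}
    (xz : x * z = z * x) (hn : x ^ 2 ^ n = 1) : x * x ∈ HD z := by
  have hz := z_mem_HD hl.toXS
  by_cases hx : x ∈ Q
  · exact zpowers_le.2 hz (hl.toXS.sq_mem hx)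
  obtain ⟨d⟩ := exists_VD hl
  have := d.finite
  have : Fact (Nat.Prime 2) := ⟨Nat.prime_two⟩
  have k1 := d.card_comS_mul_fixS x
  have k2 := d.card_Q
  obtain ⟨u, hu, u0⟩ : ∃ u ∈ d.comS x, u ≠ 0 := by
    by_contra k
    push Not at k
    exact hx (d.mem_of_ρ xz fun v => add_eq_zero.1 (k _ (d.com_mem x v)))
  obtain ⟨v, hv, v0⟩ : ∃ v ∈ d.fixS x, v ≠ 0 := by
    by_contra k
    push Not at k
    have : ∀ m : ℕ, x ^ 2 ^ m * z = z * x ^ 2 ^ m ∧ ∀ w, d.ρ (x ^ 2 ^ m) w = w → w = 0 := fun m => by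
      induction m with
      | zero => simpa using ⟨xz, fun w hw => k w (d.mem_fixS.2 hw)⟩
      | succ m ih =>
        rw [pow_succ, pow_mul, sq]
        refine ⟨cmul ih.1 ih.1, fun w hw => ih.2 w (add_eq_zero.1 (ih.2 _ ?_))⟩
        rw [map_add, ← d.ρ_mul ih.1 ih.1, hw, add_comm]
    exact u0 ((this n).2 u (by rw [hn, d.ρ_one]))
  have two : ∀ {W : Submodule (ZMod 2) (Vq hl.toXS)} {w}, w ∈ W → w ≠ 0 → 2 ≤ Nat.card W :=
    fun {W w} h1 h2 => Finite.one_lt_card_iff_nontrivial.2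
      ⟨⟨w, h1⟩, 0, fun e => h2 (congrArg Subtype.val e)⟩
  have a := two hu u0
  have b := two hv v0
  have c1 : Nat.card (d.comS x) = 2 := by nlinarith
  have c2 : Nat.card (d.fixS x) = 2 := by nlinarith
  have le : d.fixS x ≤ d.comS x := fun w hw => mem_com_of xz fun w' hw' => by
    obtain ⟨y, -, hy⟩ := (Nat.card_eq_two_iff' (0 : d.fixS x)).1 c2
    by_cases e : w = 0
    · simp [e]
    by_cases e' : w' = 0
    · simp [e']
    rw [show w' = w from congrArg Subtype.val ((hy ⟨w', hw'⟩ fun k => e' (congrArg Subtype.val k)).trans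
      (hy ⟨w, hw⟩ fun k => e (congrArg Subtype.val k)).symm), d.B_self]
  have eq := sub_eq_of_card le (by omega)
  have m := sq_mem d xz fun v hv => eq ▸ hv
  obtain ⟨e, he, k⟩ := d.exists_comm xz m (le (by
    rw [d.mem_fixS, d.ρ_p xz m, conj_of_comm (mul_assoc _ _ _)]))
  have := mem_HD (hl.cen e he) xz
  rcases k with k | k <;> rw [k, mul_inv_cancel_right] at this
  · exact this
  · exact (mul_mem_cancel_right hz).1 this

theorem exists_half {A : Type*} [CommGroup A] [Finite A] {q : A} {k : ℕ} (hq : orderOf q = 2 ^ k)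
    (h2 : q ^ 2 ≠ 1) : ∃ M : Subgroup A, M.index = 2 ∧ ∀ a, a * a = 1 → a ∈ M := by
  let T : Subgroup A := (powMonoidHom 2).ker ⊔ (powMonoidHom 2).range
  have hT : T ≠ ⊤ := fun e => by
    have step : ∀ j : ℕ, ∃ a : A, q ^ 2 = a ^ 2 ^ (j + 1) := fun j => by
      induction j with
      | zero => exact ⟨q, rfl⟩
      | succ j ih =>
        obtain ⟨a, ha⟩ := ih
        obtain ⟨y, hy, _, ⟨b, rfl⟩, rfl⟩ := mem_sup.1 (e ▸ mem_top a : a ∈ T)
        refine ⟨b, ?_⟩
        rw [ha, mul_pow, pow_succ' 2 j, pow_mul, show y ^ 2 = 1 from hy, one_pow, one_mul,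
          powMonoidHom_apply, ← pow_mul, ← pow_succ', ← pow_succ']
    obtain ⟨j, m, hm, e⟩ := Nat.exists_eq_two_pow_mul_odd (Nat.card_pos (α := A)).ne'
    obtain ⟨a, ha⟩ := step j
    have h1 : (q ^ 2) ^ m = 1 := by
      rw [ha, ← pow_mul, pow_succ, mul_right_comm, ← e, pow_mul, pow_card_eq_one', one_pow]
    have h3 : (q ^ 2) ^ 2 ^ k = 1 := by rw [← pow_mul, mul_comm, pow_mul, ← hq, pow_orderOf_eq_one, one_pow]
    refine h2 (orderOf_eq_one_iff.1 (Nat.eq_one_of_dvd_coprimes ?_ (orderOf_dvd_of_pow_eq_one h1)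
      (orderOf_dvd_of_pow_eq_one h3)))
    exact (Nat.coprime_two_right.2 hm).pow_right k
  obtain ⟨M, hM, le⟩ := (eq_top_or_exists_le_coatom T).resolve_left hT
  refine ⟨M, ?_, fun a ha => le (mem_sup_left (by simpa [sq] using ha))⟩
  obtain ⟨x, hx⟩ : ∃ x, x ∉ M := by
    by_contra n
    push Not at n
    exact hM.1 (eq_top_iff.2 fun x _ => n x)
  have xx : x * x ∈ M := le (mem_sup_right ⟨x, sq x⟩)
  refine index_eq_two_iff.2 ⟨x, fun b => ?_⟩
  obtain ⟨y, hy, _, ⟨i, rfl⟩, rfl⟩ := mem_sup.1 ((hM.2 _ (left_lt_sup.2 (mt zpowers_le.1 hx))) ▸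
    mem_top b : b ∈ M ⊔ zpowers x)
  have ev : ∀ j : ℤ, x ^ (2 * j) ∈ M := fun j => by
    rw [zpow_mul, zpow_two]; exact zpow_mem xx j
  obtain ⟨j, rfl | rfl⟩ := i.even_or_odd'
  · exact Or.inr ⟨mul_mem hy (ev j), fun k => hx ((mul_mem_cancel_left (mul_mem hy (ev j))).1 k)⟩
  · simp only [zpow_add_one, ← mul_assoc]
    exact Or.inl ⟨by rw [mul_assoc]; exact mul_mem (mul_mem hy (ev j)) xx,
      fun k => hx ((mul_mem_cancel_left (mul_mem hy (ev j))).1 k)⟩

theorem ab_sq (hres : pResidual 2 G = ⊤) {z : G} (hl : LX (O2C z) z)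
    (q : Abelianization (centralizer ({z} : Set G))) {k : ℕ} (hq : orderOf q = 2 ^ k) :
    q ^ 2 = 1 := by
  have : Fact (Nat.Prime 2) := ⟨Nat.prime_two⟩
  by_contra h2
  obtain ⟨M, hM, h1⟩ := exists_half hq h2
  let K := (M.comap Abelianization.of).map (centralizer ({z} : Set G)).subtype
  have hK : K.relIndex (centralizer {z}) = 2 := by
    rw [relIndex, subgroupOf, comap_map_eq_self_of_injective (subtype_injective _), index_comap_of_surjective _ QuotientGroup.mk_surjective, hM]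
  have hsq : ∀ a, a * z = z * a → a * a ∈ HD z → a ∈ K := fun a ha aa => by
    refine ⟨⟨a, mem_centralizer_singleton_iff.2 ha⟩, h1 _ ?_, rfl⟩
    rw [← map_mul, ← MonoidHom.mem_ker, Abelianization.ker_of,
      ← mem_map_iff_mem (subtype_injective _), map_subtype_commutator]
    exact aa
  by_cases h8 : 8 < Nat.card (O2C z)
  · exact wide_false hres hl h8 (map_subtype_le _) hK hsq
  obtain ⟨S, -, hS⟩ := exists_sylow hl
  obtain ⟨x, x1, x2, n, x3, -⟩ := exists_min (H87.odd_index_of_sylow_le S hS) hK (map_subtype_le _)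
  have xz := mem_centralizer_singleton_iff.1 x1
  exact x2 (hsq x xz (narrow hl (by omega) xz x3))

end Cfsg.Agent.H92.W4
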